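import Cfsg.Agent.Lib.H23.FSign
import Cfsg.Agent.Lib.H06.CharLin2

set_option autoImplicit false

namespace Cfsg.Agent.H23

open Cfsg Cfsg.Agent.H21 Cfsg.Agent.H06
open scoped ComplexConjugate

universe u

section Hom

variable {V : Type u} [Group V]

/-- A homomorphism to `ℂˣ` is a character. -/
theorem isCharacter_hom (ω : V →* ℂˣ) : IsCharacter V (fun v => (ω v : ℂ)) := by
  let ρ : Representation ℂ V (Fin 1 → ℂ) :=
    { toFun := fun v => (ω v : ℂ) • (1 : Module.End ℂ (Fin 1 → ℂ))
      map_one' := by simp
      map_mul' := by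
        intro a b
        simp only [map_mul, Units.val_mul]
        rw [smul_mul_smul_comm, one_mul] }
  have h := isCharacter_of_rep ρ
  convert h using 1
  funext v
  change _ = LinearMap.trace ℂ _ ((ω v : ℂ) • (1 : Module.End ℂ (Fin 1 → ℂ)))
  rw [map_smul, LinearMap.trace_one]
  simp

theorem charDegree_hom (ω : V →* ℂˣ) : charDegree (fun v => (ω v : ℂ)) = 1 := by
  have h := one_eq_charDegree (isCharacter_hom ω)
  simp only [map_one, Units.val_one] at h
  exact_mod_cast h.symm

theorem isIrrCharacter_hom [Fintype V] (ω : V →* ℂˣ) : IsIrrCharacter V (fun v => (ω v : ℂ)) := by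
  classical
  haveI : Fintype (IrrCharacter V) := Fintype.ofFinite _
  refine isIrrCharacter_of_inner_self_eq_one (isCharacter_hom ω) ?_
  have h := inner_lin ω ω
  rw [if_pos rfl] at h
  exact h

end Hom

section Main

variable {G : Type u} [Group G] [Fintype G] (N P : Subgroup G) [hN : N.Normal]

/-- Sum over a semidirect decomposition. -/
theorem sum_complement {M : Type*} [AddCommMonoid M] [Fintype N] [Fintype P]
    (hcomp : Subgroup.IsComplement' N P) (f : G → M) :
    ∑ g : G, f g = ∑ n : N, ∑ p : P, f ((n : G) * (p : G)) := by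
  rw [← Fintype.sum_prod_type']
  exact (Fintype.sum_equiv (Equiv.ofBijective _ hcomp) _ _ fun x => rfl).symm

variable {N}

/-- The stabilizer of a linear character of a normal subgroup. -/
def stabT (ω : N →* ℂˣ) : Subgroup G where
  carrier := {g | ∀ n : N, ω (MulAut.conjNormal g n) = ω n}
  one_mem' := by
    intro n
    simp
  mul_mem' := by
    intro a b ha hb n
    rw [map_mul, MulAut.mul_apply, ha, hb]
  inv_mem' := by
    intro g hg n
    rw [← hg (MulAut.conjNormal g⁻¹ n), ← MulAut.mul_apply, ← map_mul]
    simp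

theorem mem_stabT {ω : N →* ℂˣ} {g : G} : g ∈ stabT ω ↔ ∀ n : N, ω (MulAut.conjNormal g n) = ω n :=
  Iff.rfl

theorem le_stabT (hab : ∀ a b : N, a * b = b * a) (ω : N →* ℂˣ) : N ≤ stabT ω := by
  intro g hg n
  congr 1
  apply Subtype.ext
  have := congrArg Subtype.val (hab ⟨g, hg⟩ n)
  simp only [Subgroup.coe_mul] at this
  rw [MulAut.conjNormal_apply, this]
  group

variable {P}

/-- The `N`-component of an element of `G = N ⋊ P`. -/
noncomputable def compN (hcomp : Subgroup.IsComplement' N P) (g : G) : N :=
  ((Equiv.ofBijective _ hcomp).symm g).1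

/-- The `P`-component. -/
noncomputable def compP (hcomp : Subgroup.IsComplement' N P) (g : G) : P :=
  ((Equiv.ofBijective _ hcomp).symm g).2

theorem comp_mul (hcomp : Subgroup.IsComplement' N P) (g : G) :
    (compN hcomp g : G) * (compP hcomp g : G) = g :=
  (Equiv.ofBijective _ hcomp).apply_symm_apply g

theorem compN_mul (hcomp : Subgroup.IsComplement' N P) (n : N) (p : P) :
    compN hcomp ((n : G) * (p : G)) = n := by
  have h : (Equiv.ofBijective _ hcomp).symm ((n : G) * (p : G)) = (n, p) :=
    (Equiv.ofBijective _ hcomp).symm_apply_apply (n, p)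
  simp only [compN, h]

/-- The canonical extension of an invariant linear character to its stabilizer. -/
noncomputable def zetaHom (hcomp : Subgroup.IsComplement' N P) (hab : ∀ a b : N, a * b = b * a)
    (ω : N →* ℂˣ) : stabT ω →* ℂˣ :=
  MonoidHom.mk' (fun t => ω (compN hcomp (t : G))) (by
    intro t t'
    have h1 := comp_mul hcomp (t : G)
    have h2 := comp_mul hcomp (t' : G)
    set n := compN hcomp (t : G)
    set p := compP hcomp (t : G)
    set n' := compN hcomp (t' : G)
    set p' := compP hcomp (t' : G)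
    have hpT : (p : G) ∈ stabT ω := by
      have : (p : G) = (n : G)⁻¹ * t := by rw [← h1]; group
      rw [this]
      exact (stabT ω).mul_mem ((stabT ω).inv_mem (le_stabT hab ω n.2)) t.2
    have h3 : ((t * t' : stabT ω) : G) =
        ((n * MulAut.conjNormal (p : G) n' : N) : G) * ((p * p' : P) : G) := by
      simp only [Subgroup.coe_mul, MulAut.conjNormal_apply]
      rw [← h1, ← h2]
      group
    rw [h3, compN_mul, map_mul, hpT n'])

theorem zetaHom_coe (hcomp : Subgroup.IsComplement' N P) (hab : ∀ a b : N, a * b = b * a)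
    (ω : N →* ℂˣ) (t : stabT ω) : zetaHom hcomp hab ω t = ω (compN hcomp (t : G)) := rfl

theorem compN_of_mem (hcomp : Subgroup.IsComplement' N P) (n : N) : compN hcomp (n : G) = n := by
  have := compN_mul hcomp n 1
  simpa using this

theorem fsInd_ind_zeta [Fintype N] [Fintype P]
    (hcomp : Subgroup.IsComplement' N P) (hab : ∀ a b : N, a * b = b * a)
    (ω : N →* ℂˣ) (z : P) (hz2 : (z : G) * z = 1)
    (hzω : ∀ n : N, ω n * ω (MulAut.conjNormal (z : G) n) = 1) (l : G → ℂ)
    (hlsq : ∀ g, l (g * g) = 1) :
    fsInd (indFun (stabT ω) (fun t : stabT ω => l t * (zetaHom hcomp hab ω t : ℂ))) = 1 := by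
  classical
  set T := stabT ω with hT
  set ξ : T → ℂ := fun t => l t * (zetaHom hcomp hab ω t : ℂ) with hξ
  have hG0 : (Nat.card G : ℂ) ≠ 0 := by exact_mod_cast Nat.card_pos.ne'
  have hT0 : (Nat.card T : ℂ) ≠ 0 := by exact_mod_cast Nat.card_pos.ne'
  have hNT : N ≤ T := le_stabT hab ω
  have hzinv : ∀ n : N, ω (MulAut.conjNormal (z : G) n) = (ω n)⁻¹ := fun n =>
    eq_inv_of_mul_eq_one_right (hzω n)
  have hpzp : ∀ p : P, (p : G) = (z : G) * ((z : G) * p) := by
    intro p
    rw [← mul_assoc, hz2, one_mul]
  -- the key relation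
  have hA : ∀ p : P, (z : G) * p ∈ T → ∀ m : N, ω m * ω (MulAut.conjNormal (p : G) m) = 1 := by
    intro p hzp m
    have h1 : MulAut.conjNormal (p : G) m = MulAut.conjNormal (z : G) (MulAut.conjNormal ((z : G) * p) m) := by
      rw [← MulAut.mul_apply, ← map_mul, ← hpzp p]
    rw [h1, hzinv, hzp m, mul_inv_cancel]
  have key : ∀ p : P, ∑ n : N, extendByZero T ξ (((n : G) * p) * ((n : G) * p)) =
      if (z : G) * p ∈ T then (Nat.card N : ℂ) else 0 := by
    intro p
    have hdec : ∀ n : N, ((n : G) * p) * ((n : G) * p) =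
        ((n * MulAut.conjNormal (p : G) n : N) : G) * ((p * p : P) : G) := by
      intro n
      simp only [Subgroup.coe_mul, MulAut.conjNormal_apply]
      group
    by_cases hpp : ((p * p : P) : G) ∈ T
    · have hval : ∀ n : N, extendByZero T ξ (((n : G) * p) * ((n : G) * p)) =
          ((ω n * ω (MulAut.conjNormal (p : G) n) : ℂˣ) : ℂ) := by
        intro n
        have hmem : ((n : G) * p) * ((n : G) * p) ∈ T := by
          rw [hdec]
          exact T.mul_mem (hNT (Subtype.property _)) hpp
        have h1 := extendByZero_coe T ξ ⟨_, hmem⟩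
        simp only at h1
        rw [h1, hξ]
        simp only
        rw [hlsq, one_mul, zetaHom_coe]
        simp only
        rw [hdec, compN_mul, map_mul]
      simp only [hval]
      by_cases hzp : (z : G) * p ∈ T
      · rw [if_pos hzp]
        simp only [hA p hzp, Units.val_one, Finset.sum_const, Finset.card_univ, nsmul_eq_mul, mul_one]
        rw [Nat.card_eq_fintype_card]
      · rw [if_neg hzp]
        obtain ⟨n₁, hn₁⟩ : ∃ n₁ : N, ω (MulAut.conjNormal ((z : G) * p) n₁) ≠ ω n₁ := by
          by_contra hc
          push Not at hc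
          exact hzp hc
        refine H21.sum_mul_eq_zero (fun n : N => ((ω n * ω (MulAut.conjNormal (p : G) n) : ℂˣ) : ℂ)) ?_
          (w := n₁) ?_
        · intro a b
          simp only [map_mul, Units.val_mul]
          ring
        · intro h1
          apply hn₁
          have h2 : ω n₁ * ω (MulAut.conjNormal (p : G) n₁) = 1 := Units.ext h1
          have h3 : MulAut.conjNormal (p : G) n₁ = MulAut.conjNormal (z : G) (MulAut.conjNormal ((z : G) * p) n₁) := by
            rw [← MulAut.mul_apply, ← map_mul, ← hpzp p]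
          rw [h3, hzinv] at h2
          exact (mul_inv_eq_one.1 h2).symm
    · have hzp : (z : G) * p ∉ T := by
        intro hzp
        apply hpp
        intro n
        have h1 := hA p hzp (MulAut.conjNormal (p : G) n)
        have h2 := hA p hzp n
        have h3 : MulAut.conjNormal (((p * p : P)) : G) n =
            MulAut.conjNormal (p : G) (MulAut.conjNormal (p : G) n) := by
          rw [Subgroup.coe_mul, map_mul, MulAut.mul_apply]
        rw [h3]
        have h4 := eq_inv_of_mul_eq_one_left h2
        have h5 := eq_inv_of_mul_eq_one_right h1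
        rw [h5, ← h4]
      rw [if_neg hzp]
      refine Finset.sum_eq_zero fun n _ => ?_
      apply extendByZero_of_not_mem
      intro hmem
      apply hpp
      rw [hdec] at hmem
      exact (Subgroup.mul_mem_cancel_left T (hNT (Subtype.property _))).1 hmem
  -- the count
  set c : ℂ := ∑ p : P, if (p : G) ∈ T then (1 : ℂ) else 0 with hc
  have hcardT : (Nat.card T : ℂ) = (Nat.card N : ℂ) * c := by
    have h1 : (Nat.card T : ℂ) = ∑ g : G, if g ∈ T then (1 : ℂ) else 0 := by
      rw [Finset.sum_boole, Nat.card_eq_fintype_card, Fintype.card_subtype]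
    rw [h1, sum_complement N P hcomp]
    have h2 : ∀ (n : N) (p : P), ((n : G) * (p : G) ∈ T) ↔ (p : G) ∈ T := fun n p =>
      Subgroup.mul_mem_cancel_left T (hNT n.2)
    simp only [h2, Finset.sum_const, Finset.card_univ, nsmul_eq_mul]
    rw [Nat.card_eq_fintype_card]
  have hsum : ∑ g : G, extendByZero T ξ (g * g) = (Nat.card N : ℂ) * c := by
    rw [sum_complement N P hcomp, Finset.sum_comm]
    simp only [key]
    rw [hc, Finset.mul_sum]
    refine Fintype.sum_equiv (Equiv.mulLeft z) _ _ fun p => ?_
    simp only [Equiv.coe_mulLeft, Subgroup.coe_mul]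
    by_cases h : (z : G) * p ∈ T <;> simp [h]
  unfold fsInd
  change (Nat.card G : ℂ)⁻¹ * ∑ g : G, indFun T ξ (g * g) = 1
  have h1 : ∀ g, indFun T ξ (g * g) = (Nat.card T : ℂ)⁻¹ * ∑ x : G, extendByZero T ξ (x⁻¹ * (g * g) * x) :=
    fun g => rfl
  simp only [h1]
  rw [← Finset.mul_sum, Finset.sum_comm]
  have h2 : ∀ x : G, ∑ g : G, extendByZero T ξ (x⁻¹ * (g * g) * x) = ∑ g : G, extendByZero T ξ (g * g) := by
    intro x
    refine Fintype.sum_equiv (MulAut.conj x⁻¹).toEquiv _ _ fun g => ?_
    simp only [MulEquiv.toEquiv_eq_coe, MulEquiv.coe_toEquiv, MulAut.conj_apply, inv_inv]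
    congr 1
    group
  simp only [h2, Finset.sum_const, Finset.card_univ, nsmul_eq_mul]
  rw [← Nat.card_eq_fintype_card, hsum, ← hcardT]
  field_simp

end Main

end Cfsg.Agent.H23
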