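import Cfsg.Agent.Lib.H23.Ito2
import Cfsg.Agent.Lib.H06.CharGalois
import Cfsg.Agent.Lib.H01.Fitting
import Cfsg.Agent.Lib.H01.Solv2
import Cfsg.Agent.Lib.H07.FStar

/-!
# Irreducible products of characters
-/

set_option autoImplicit false
set_option linter.unusedSectionVars false
set_option linter.style.haveILetI false
set_option linter.unusedSimpArgs false

namespace Cfsg.Agent.H23

open Cfsg Cfsg.Agent.H21 Module
open scoped ComplexConjugate TensorProduct

universe u v

section

variable {G : Type u} [Group G] [Finite G]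

/-- An irreducible character is not a sum of two characters of positive degree. -/
theorem irr_ne_add {ψ α β : G → ℂ} (hψ : IsIrrCharacter G ψ) (hα : IsCharacter G α)
    (hβ : IsCharacter G β) (h : ψ = α + β) : α 1 = 0 ∨ β 1 = 0 := by
  classical
  haveI : Fintype G := Fintype.ofFinite _
  haveI : Fintype (IrrCharacter G) := Fintype.ofFinite _
  have hcα := isClassFunction_of_isCharacter hα
  have hcβ := isClassFunction_of_isCharacter hβ
  choose a ha using fun φ : IrrCharacter G => classInner_isNat hα φ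
  choose b hb using fun φ : IrrCharacter G => classInner_isNat hβ φ
  have hsum : ∀ φ : IrrCharacter G, (a φ + b φ : ℂ) = if ψ = (φ : G → ℂ) then 1 else 0 := by
    intro φ
    rw [← H06.classInner_irr_fun hψ φ.2, h, classInner_add_left, ha, hb]
  have hnat : ∀ φ : IrrCharacter G, a φ + b φ = if ψ = (φ : G → ℂ) then 1 else 0 := by
    intro φ
    have := hsum φ
    split_ifs at this ⊢ with hc
    · exact_mod_cast this
    · exact_mod_cast this
  have hψ1 := hnat ⟨ψ, hψ⟩
  simp only [if_true] at hψ1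
  have hzero : ∀ (c : IrrCharacter G → ℕ) (γ : G → ℂ), IsClassFunction G γ →
      (∀ φ : IrrCharacter G, classInner γ (φ : G → ℂ) = c φ) → (∀ φ, c φ = 0) → γ 1 = 0 := by
    intro c γ hγ hc hc0
    have h1 := classFunction_expansion γ hγ
    rw [h1]
    simp [hc, hc0]
  rcases Nat.add_eq_one_iff.mp hψ1 with ⟨h1, h2⟩ | ⟨h1, h2⟩
  · left
    apply hzero a α hcα ha
    intro φ
    by_cases hφ : ψ = (φ : G → ℂ)
    · have : φ = ⟨ψ, hψ⟩ := Subtype.ext hφ.symm
      rw [this]; exact h1
    · have := hnat φ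
      rw [if_neg hφ] at this
      omega
  · right
    apply hzero b β hcβ hb
    intro φ
    by_cases hφ : ψ = (φ : G → ℂ)
    · have : φ = ⟨ψ, hψ⟩ := Subtype.ext hφ.symm
      rw [this]; exact h2
    · have := hnat φ
      rw [if_neg hφ] at this
      omega

/-- A representation whose character is irreducible is irreducible. -/
theorem isIrreducible_of_irr_char {V : Type v} [AddCommGroup V] [Module ℂ V]
    [FiniteDimensional ℂ V] (ρ : Representation ℂ G V) (h : IsIrrCharacter G ρ.character) :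
    ρ.IsIrreducible := by
  classical
  have h1 := H06.irr_one_ne_zero' h
  have hnt : Nontrivial V := by
    by_contra hV
    rw [not_nontrivial_iff_subsingleton] at hV
    apply h1
    have : ρ 1 = 0 := Subsingleton.elim _ _
    simp [Representation.character, this]
  have hbt : (⊥ : Subrepresentation ρ) ≠ ⊤ := by
    intro hh
    have := congrArg Subrepresentation.toSubmodule hh
    exact (bot_ne_top : (⊥ : Submodule ℂ V) ≠ ⊤) this
  have : Nontrivial (Subrepresentation ρ) := ⟨⟨⊥, ⊤, hbt⟩⟩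
  by_contra hirr'
  have : ∃ S : Subrepresentation ρ, S ≠ ⊥ ∧ S ≠ ⊤ := by
    by_contra hcon
    push Not at hcon
    apply hirr'
    exact { eq_bot_or_eq_top := fun S => by
              by_cases hS : S = ⊥
              · exact Or.inl hS
              · exact Or.inr (hcon S hS) }
  obtain ⟨S, hS1, hS2⟩ := this
  obtain ⟨S', hc⟩ := exists_isCompl S
  have hS'1 : S' ≠ ⊥ := by
    intro hh
    rw [hh] at hc
    exact hS2 (hc.codisjoint.eq_top_of_le bot_le)
  have hcompl : IsCompl S.toSubmodule S'.toSubmodule := by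
    constructor
    · rw [disjoint_iff]
      have := hc.inf_eq_bot
      exact congrArg Subrepresentation.toSubmodule this
    · rw [codisjoint_iff]
      have := hc.sup_eq_top
      exact congrArg Subrepresentation.toSubmodule this
  have hsum : ρ.character = S.toRepresentation.character + S'.toRepresentation.character := by
    funext g
    exact trace_eq_add_of_isCompl _ _ hcompl (ρ g)
      (fun x hx => S.apply_mem_toSubmodule g hx) (fun x hx => S'.apply_mem_toSubmodule g hx)
  have hpos : ∀ T : Subrepresentation ρ, T ≠ ⊥ → T.toRepresentation.character 1 ≠ 0 := by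
    intro T hT h0
    rw [Representation.char_one] at h0
    have h2 : finrank ℂ T.toSubmodule = 0 := by exact_mod_cast h0
    have h3 : T.toSubmodule = ⊥ := Submodule.finrank_eq_zero.mp h2
    apply hT
    apply Subrepresentation.toSubmodule_injective
    exact h3
  rcases irr_ne_add h (isCharacter_of_rep _) (isCharacter_of_rep _) hsum with h3 | h3
  · exact hpos S hS1 h3
  · exact hpos S' hS'1 h3

/-- The operator identity for an irreducible product of two characters. -/
theorem tensor_identity [Fintype G] {χ χ' : G → ℂ} (hχ : IsCharacter G χ) (hχ' : IsCharacter G χ')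
    (hirr : IsIrrCharacter G (fun g => χ g * χ' g)) (n m x y : G) :
    (∑ g : G, χ (g * n * g⁻¹ * x) * χ' (g * m * g⁻¹ * y)) * (χ 1 * χ' 1) =
      (Nat.card G : ℂ) * (χ n * χ' m) * (χ x * χ' y) := by
  classical
  obtain ⟨d, ρ, rfl⟩ := hχ
  obtain ⟨d', ρ', rfl⟩ := hχ'
  let τ := ρ.tprod ρ'
  have hτchar : τ.character = fun g => ρ.character g * ρ'.character g := by
    rw [Representation.char_tensor]
    rfl
  have hτ : τ.IsIrreducible := isIrreducible_of_irr_char τ (by rw [hτchar]; exact hirr)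
  let S : Module.End ℂ ((Fin d → ℂ) ⊗[ℂ] (Fin d' → ℂ)) :=
    ∑ g : G, TensorProduct.map (ρ (g * n * g⁻¹)) (ρ' (g * m * g⁻¹))
  have hcomm : ∀ h : G, S ∘ₗ τ h = τ h ∘ₗ S := by
    intro h
    show S * τ h = τ h * S
    simp only [S, τ, Representation.tprod_apply, Finset.sum_mul, Finset.mul_sum,
      ← TensorProduct.map_mul, ← map_mul]
    refine Fintype.sum_equiv (Equiv.mulLeft h⁻¹) _ _ fun g => ?_
    simp only [Equiv.coe_mulLeft]
    congr 2 <;> group
  obtain ⟨c, hc⟩ := schur_scalar τ hτ S hcomm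
  have htr : ∀ a b : G, LinearMap.trace ℂ _ (TensorProduct.map (ρ a) (ρ' b)) =
      ρ.character a * ρ'.character b := by
    intro a b
    rw [LinearMap.trace_tensorProduct']
    rfl
  have h1 : LinearMap.trace ℂ _ (S ∘ₗ TensorProduct.map (ρ x) (ρ' y)) =
      ∑ g : G, ρ.character (g * n * g⁻¹ * x) * ρ'.character (g * m * g⁻¹ * y) := by
    show LinearMap.trace ℂ _ (S * TensorProduct.map (ρ x) (ρ' y)) = _
    simp only [S, Finset.sum_mul, map_sum, ← TensorProduct.map_mul, ← map_mul, htr]
  have h2 : LinearMap.trace ℂ _ (S ∘ₗ TensorProduct.map (ρ x) (ρ' y)) =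
      c * (ρ.character x * ρ'.character y) := by
    rw [hc, LinearMap.smul_comp, map_smul, smul_eq_mul]
    congr 1
    have : (1 : Module.End ℂ ((Fin d → ℂ) ⊗[ℂ] (Fin d' → ℂ))) ∘ₗ TensorProduct.map (ρ x) (ρ' y) =
        TensorProduct.map (ρ x) (ρ' y) := LinearMap.id_comp _
    rw [this, htr]
  have h3 : LinearMap.trace ℂ _ S = (Nat.card G : ℂ) * (ρ.character n * ρ'.character m) := by
    simp only [S, map_sum, htr]
    have h4 : ∀ g : G, ρ.character (g * n * g⁻¹) * ρ'.character (g * m * g⁻¹) =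
        ρ.character n * ρ'.character m := by
      intro g
      rw [isCharacter_conj ⟨d, ρ, rfl⟩, isCharacter_conj ⟨d', ρ', rfl⟩]
    simp only [h4, Finset.sum_const, Finset.card_univ, nsmul_eq_mul, Nat.card_eq_fintype_card]
  have h5 : LinearMap.trace ℂ _ S = c * (ρ.character 1 * ρ'.character 1) := by
    rw [hc, map_smul, smul_eq_mul]
    congr 1
    have := htr 1 1
    simp only [map_one] at this
    rw [← this]
    congr 1
    ext
    simp
  rw [← h1, h2]
  have h6 := h3.symm.trans h5
  calc c * (ρ.character x * ρ'.character y) * (ρ.character 1 * ρ'.character 1)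
      = (c * (ρ.character 1 * ρ'.character 1)) * (ρ.character x * ρ'.character y) := by ring
    _ = _ := by rw [← h6]

end

section Main

variable {G : Type u} [Group G] [Fintype G]

/-- The inner product of a character with itself is nonzero, if it does not vanish at `1`. -/
theorem classInner_self_ne {γ : G → ℂ} (h1 : γ 1 ≠ 0) : classInner γ γ ≠ 0 := by
  unfold classInner
  have hG : (Nat.card G : ℂ)⁻¹ ≠ 0 := inv_ne_zero (by exact_mod_cast Nat.card_pos.ne')
  apply mul_ne_zero hG
  have h2 : ∑ g : G, γ g * conj (γ g) = ((∑ g : G, ‖γ g‖ ^ 2 : ℝ) : ℂ) := by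
    push_cast
    refine Finset.sum_congr rfl fun g _ => ?_
    rw [Complex.mul_conj, Complex.normSq_eq_norm_sq]
    push_cast
    rfl
  rw [h2]
  have h3 : 0 < ∑ g : G, ‖γ g‖ ^ 2 := by
    apply Finset.sum_pos' (fun g _ => by positivity)
    exact ⟨1, Finset.mem_univ _, by
      have := norm_pos_iff.mpr h1
      positivity⟩
  exact_mod_cast h3.ne'

/-- A constituent has degree at most that of the character. -/
theorem deg_le_of_inner_ne {ξ β : G → ℂ} (hξ : IsIrrCharacter G ξ) (hβ : IsCharacter G β)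
    (h : classInner β ξ ≠ 0) : charDegree ξ ≤ charDegree β := by
  classical
  haveI : Fintype (IrrCharacter G) := Fintype.ofFinite _
  have hcl := isClassFunction_of_isCharacter hβ
  have hcξ := isClassFunction_of_isCharacter (isCharacter_of_irr hξ)
  obtain ⟨m, hm⟩ := classInner_isNat hβ ⟨ξ, hξ⟩
  have hm' : classInner β ξ = m := hm
  have hm0 : m ≠ 0 := by
    rintro rfl
    apply h
    rw [hm']
    simp
  have hr : IsCharacter G (β - ξ) := by
    apply isCharacter_of_inner_nat
    · intro g k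
      simp only [Pi.sub_apply]
      rw [hcl, hcξ]
    · intro φ
      obtain ⟨a, ha⟩ := classInner_isNat hβ φ
      have h1 : classInner (β - ξ) (φ : G → ℂ) = a - classInner ξ (φ : G → ℂ) := by
        have h2 : β - ξ = β + (-1 : ℂ) • ξ := by
          funext g; simp [sub_eq_add_neg]
        rw [h2, classInner_add_left, classInner_smul_left, ha]
        ring
      by_cases hφ : ξ = (φ : G → ℂ)
      · have hφ' : φ = ⟨ξ, hξ⟩ := Subtype.ext hφ.symm
        have : a = m := by
          have h3 : (a : ℂ) = m := by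
            rw [← ha, ← hm', hφ]
          exact_mod_cast h3
        refine ⟨m - 1, ?_⟩
        rw [h1, H06.classInner_irr_fun hξ φ.2, if_pos hφ, this]
        have hm1 : 1 ≤ m := Nat.one_le_iff_ne_zero.mpr hm0
        push_cast [Nat.cast_sub hm1]
        ring
      · refine ⟨a, ?_⟩
        rw [h1, H06.classInner_irr_fun hξ φ.2, if_neg hφ, sub_zero]
  have h1 := one_eq_charDegree hr
  have h2 := one_eq_charDegree hβ
  have h3 := one_eq_charDegree (isCharacter_of_irr hξ)
  simp only [Pi.sub_apply] at h1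
  rw [h2, h3] at h1
  have h4 : ((charDegree β : ℂ)) = (charDegree (β - ξ) + charDegree ξ : ℕ) := by
    push_cast
    rw [← h1]
    ring
  have h5 : charDegree β = charDegree (β - ξ) + charDegree ξ := by exact_mod_cast h4
  omega

/-- Every abelian normal subgroup is central, if `χ · χ^σ` is irreducible. -/
theorem abelian_normal_central {χ : G → ℂ} (hχ : IsIrrCharacter G χ)
    (hfaith : ∀ g : G, χ g = χ 1 → g = 1) {k : ℕ} (hk : k.Coprime (Nat.card G))
    (hirr : IsIrrCharacter G (fun g => χ g * χ (g ^ k))) (A : Subgroup G) [hA : A.Normal]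
    (hcomm : ∀ a ∈ A, ∀ b ∈ A, a * b = b * a) : A ≤ Subgroup.center G := by
  classical
  haveI : Fintype A := Fintype.ofFinite _
  haveI : Fintype (IrrCharacter A) := Fintype.ofFinite _
  haveI : Fintype (IrrCharacter G) := Fintype.ofFinite _
  obtain ⟨μ, hμ, hne⟩ := exists_constituent A hχ
  let T : Subgroup G := H06.inertiaSub A μ
  haveI : Fintype T := Fintype.ofFinite _
  haveI : Fintype (IrrCharacter T) := Fintype.ofFinite _
  have hAT : A ≤ T := H06.le_inertiaSub A (isClassFunction_of_isCharacter (isCharacter_of_irr hμ))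
  have hT : ∀ g : G, g ∈ T ↔ ∀ h : A, μ ⟨g * h * g⁻¹, hA.conj_mem h h.2 g⟩ = μ h :=
    fun g => H06.mem_inertiaSub A
  let X : T → ℂ := indFun (A.subgroupOf T) (H06.subTheta A T μ)
  have hXc : IsCharacter T X := isCharacter_indFun _ (isCharacter_of_irr (H06.subTheta_irr A T hAT hμ))
  have hind : indFun T X = indFun A μ := H06.indFun_trans A T hAT μ
  have hcχ := isCharacter_of_irr hχ
  have hcls := isClassFunction_of_isCharacter hcχ
  have hin0 : classInner (indFun A μ) χ ≠ 0 := by
    rw [frobenius_reciprocity A μ χ hcls]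
    intro h0
    apply hne
    have := classInner_comm_conj (fun a : A => χ a) μ
    rw [h0] at this
    simpa using this
  have hin : classInner (indFun T X) χ ≠ 0 := by
    rw [hind]; exact hin0
  have hexp : classInner (indFun T X) χ
      = ∑ ψ : IrrCharacter T, classInner X (ψ : T → ℂ) * classInner (indFun T (ψ : T → ℂ)) χ := by
    rw [frobenius_reciprocity T X χ hcls]
    conv_lhs => rw [classFunction_expansion X (isClassFunction_of_isCharacter hXc)]
    rw [classInner_sum_left]
    refine Finset.sum_congr rfl fun ψ _ => ?_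
    rw [classInner_smul_left, frobenius_reciprocity T _ χ hcls]
  obtain ⟨ψ, -, hψ⟩ : ∃ ψ ∈ (Finset.univ : Finset (IrrCharacter T)),
      classInner X (ψ : T → ℂ) * classInner (indFun T (ψ : T → ℂ)) χ ≠ 0 := by
    by_contra hcon
    push Not at hcon
    apply hin
    rw [hexp]
    exact Finset.sum_eq_zero hcon
  have hψ1 := left_ne_zero_of_mul hψ
  have hψ2 := right_ne_zero_of_mul hψ
  obtain ⟨hirrT, -⟩ := H06.clifford_correspondence A T hAT hμ hT ψ.2 ψ.2 hψ1 hψ1
  have heq : indFun T (ψ : T → ℂ) = χ := by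
    by_contra hcon
    exact hψ2 (H06.classInner_irr_ne hirrT hχ hcon)
  have hψc := isCharacter_of_irr ψ.2
  have hdeg : charDegree χ = T.index * charDegree (ψ : T → ℂ) := by
    rw [← heq]
    exact charDegree_indFun T hψc
  -- the Galois twist on `T`
  have hkT : k.Coprime (Nat.card T) :=
    Nat.Coprime.coprime_dvd_right (Subgroup.card_subgroup_dvd_card T) hk
  let ψσ : T → ℂ := fun h => (ψ : T → ℂ) (h ^ k)
  have hψσ : IsIrrCharacter T ψσ := H06.isIrrCharacter_comp_pow hkT ψ.2
  let cT : T → ℂ := fun t => χ t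
  have hcT : IsCharacter T cT := isCharacter_restrict T hcχ
  have hin1 : classInner cT (ψ : T → ℂ) = 1 := by
    have h1 : classInner (indFun T (ψ : T → ℂ)) χ = 1 := by
      rw [heq]; exact H06.classInner_irr_self hχ
    rw [frobenius_reciprocity T _ χ hcls] at h1
    have h2 := classInner_comm_conj cT (ψ : T → ℂ)
    have h3 : classInner (ψ : T → ℂ) cT = 1 := h1
    rw [h3] at h2
    have h4 := congrArg (starRingEnd ℂ) h2
    simpa using h4
  let r : T → ℂ := cT - (ψ : T → ℂ)
  have hr : IsCharacter T r := by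
    apply isCharacter_of_inner_nat
    · intro g c
      simp only [r, Pi.sub_apply]
      rw [isClassFunction_of_isCharacter hcT, isClassFunction_of_isCharacter hψc]
    · intro φ
      obtain ⟨a, ha⟩ := classInner_isNat hcT φ
      have h1 : classInner r (φ : T → ℂ) = a - classInner (ψ : T → ℂ) (φ : T → ℂ) := by
        have h2 : r = cT + (-1 : ℂ) • (ψ : T → ℂ) := by
          funext g; simp [r, sub_eq_add_neg]
        rw [h2, classInner_add_left, classInner_smul_left, ha]
        ring
      by_cases hφ : (ψ : T → ℂ) = (φ : T → ℂ)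
      · refine ⟨0, ?_⟩
        rw [h1, H06.classInner_irr_fun ψ.2 φ.2, if_pos hφ, ← ha, ← hφ, hin1]
        simp
      · refine ⟨a, ?_⟩
        rw [h1, H06.classInner_irr_fun ψ.2 φ.2, if_neg hφ, sub_zero]
  let rσ : T → ℂ := fun h => r (h ^ k)
  have hrσ : IsCharacter T rσ := H06.isCharacter_comp_pow hkT hr
  let P : T → ℂ := (ψ : T → ℂ) * ψσ
  have hP : IsCharacter T P := isCharacter_mul hψc (isCharacter_of_irr hψσ)
  let Q : T → ℂ := (ψ : T → ℂ) * rσ + r * ψσ + r * rσ
  have hQ : IsCharacter T Q := isCharacter_add (isCharacter_add (isCharacter_mul hψc hrσ)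
    (isCharacter_mul hr (isCharacter_of_irr hψσ))) (isCharacter_mul hr hrσ)
  let ξ : G → ℂ := fun g => χ g * χ (g ^ k)
  have hξT : (fun t : T => ξ t) = P + Q := by
    funext t
    have h1 : ((t : G)) ^ k = ((t ^ k : T) : G) := by simp
    have h2 : cT t = (ψ : T → ℂ) t + r t := by simp [r]
    have h3 : cT (t ^ k) = (ψ : T → ℂ) (t ^ k) + r (t ^ k) := by simp [r]
    show χ t * χ ((t : G) ^ k) = (ψ : T → ℂ) t * (ψ : T → ℂ) (t ^ k) +
      ((ψ : T → ℂ) t * r (t ^ k) + r t * (ψ : T → ℂ) (t ^ k) + r t * r (t ^ k))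
    rw [h1]
    have e1 : χ t = (ψ : T → ℂ) t + r t := h2
    have e2 : χ ((t ^ k : T) : G) = (ψ : T → ℂ) (t ^ k) + r (t ^ k) := h3
    rw [e1, e2]
    ring
  have hψ1' : (ψ : T → ℂ) 1 ≠ 0 := H06.irr_one_ne_zero' ψ.2
  have hP1 : P 1 ≠ 0 := by
    show (ψ : T → ℂ) 1 * (ψ : T → ℂ) (1 ^ k) ≠ 0
    rw [one_pow]
    exact mul_ne_zero hψ1' hψ1'
  have hinner : classInner (indFun T P) ξ ≠ 0 := by
    rw [frobenius_reciprocity T P ξ (isClassFunction_of_isCharacter (isCharacter_of_irr hirr)), hξT,
      classInner_add_right]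
    obtain ⟨a, ha⟩ := classInner_isCharacter_nat hP hP
    obtain ⟨b, hb⟩ := classInner_isCharacter_nat hP hQ
    rw [ha, hb]
    have ha0 : a ≠ 0 := by
      rintro rfl
      exact classInner_self_ne hP1 (by rw [ha]; simp)
    have : ((a + b : ℕ) : ℂ) ≠ 0 := by
      exact_mod_cast (by omega : a + b ≠ 0)
    simpa using this
  have hle := deg_le_of_inner_ne hirr (isCharacter_indFun T hP) hinner
  rw [charDegree_indFun T hP] at hle
  have hdP : charDegree P = charDegree (ψ : T → ℂ) ^ 2 := by
    have h1 := one_eq_charDegree hP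
    have h2 : P 1 = (ψ : T → ℂ) 1 * (ψ : T → ℂ) 1 := by
      show (ψ : T → ℂ) 1 * (ψ : T → ℂ) (1 ^ k) = _
      rw [one_pow]
    rw [h2, one_eq_charDegree hψc] at h1
    have h3 : (charDegree P : ℂ) = ((charDegree (ψ : T → ℂ) ^ 2 : ℕ) : ℂ) := by
      rw [← h1]; push_cast; ring
    exact_mod_cast h3
  have hdξ : charDegree ξ = charDegree χ ^ 2 := by
    have h1 : ξ 1 = (charDegree ξ : ℂ) := one_eq_charDegree (isCharacter_of_irr hirr)
    have h2 : ξ 1 = χ 1 * χ 1 := by
      show χ 1 * χ (1 ^ k) = _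
      rw [one_pow]
    rw [h2, one_eq_charDegree hcχ] at h1
    have h3 : (charDegree ξ : ℂ) = ((charDegree χ ^ 2 : ℕ) : ℂ) := by
      rw [← h1]; push_cast; ring
    exact_mod_cast h3
  rw [hdP] at hle
  have hle2 : charDegree χ ^ 2 ≤ T.index * charDegree (ψ : T → ℂ) ^ 2 := by
    rw [← hdξ]; exact hle
  rw [hdeg] at hle2
  have hfpos := irr_charDegree_pos ψ.2
  have hdpos : 0 < T.index := Nat.pos_of_ne_zero Subgroup.index_ne_zero_of_finite
  have hT1 : T.index = 1 := by
    have h3 : T.index * T.index * charDegree (ψ : T → ℂ) ^ 2 ≤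
        1 * T.index * charDegree (ψ : T → ℂ) ^ 2 := by
      calc _ = (T.index * charDegree (ψ : T → ℂ)) ^ 2 := by ring
        _ ≤ _ := hle2
        _ = _ := by ring
    have h4 := Nat.le_of_mul_le_mul_right h3 (by positivity)
    have h5 := Nat.le_of_mul_le_mul_right h4 hdpos
    omega
  have hTtop : T = ⊤ := Subgroup.index_eq_one.mp hT1
  have hinv : ∀ t : G, H06.twist A μ t = μ := by
    intro t
    funext h
    have ht : t ∈ T := by rw [hTtop]; trivial
    exact (hT t).mp ht h
  obtain ⟨e, he, -, hval⟩ := H06.clifford_restrict A hμ hχ hinv hin0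
  have hμ1 : charDegree μ = 1 := irr_degree_one_of_comm (fun a b => by
    apply Subtype.ext
    exact hcomm a a.2 b b.2) hμ
  have hμc := isCharacter_of_irr hμ
  have hone : χ 1 = e := by
    have h1 := hval 1
    have h2 : (((1 : A) : G)) = 1 := rfl
    rw [h2] at h1
    rw [h1, linear_one hμc hμ1, mul_one]
  have hdeg' : charDegree χ = e := by
    have := one_eq_charDegree hcχ
    rw [hone] at this
    exact_mod_cast this.symm
  have hnorm : ∀ a ∈ A, ‖χ a‖ = charDegree χ := by
    intro a ha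
    have h1 := hval ⟨a, ha⟩
    have h2 : ((⟨a, ha⟩ : A) : G) = a := rfl
    rw [h2] at h1
    rw [h1, norm_mul, linear_norm hμc hμ1, mul_one, hdeg']
    simp
  intro a ha
  rw [Subgroup.mem_center_iff]
  intro t
  have hd := one_eq_charDegree hcχ
  have hdpos' : (charDegree χ : ℂ) ≠ 0 := by
    exact_mod_cast (irr_charDegree_pos hχ).ne'
  have h1 : (t * a)⁻¹ * (a * t) = a⁻¹ * (t⁻¹ * a * t) := by group
  have hker : χ ((t * a)⁻¹ * (a * t)) = χ 1 := by
    rw [h1, hd]
    have hna : ‖χ a⁻¹‖ = charDegree χ := hnorm _ (A.inv_mem ha)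
    have h2 := character_mul_of_norm_eq hcχ hna (t⁻¹ * a * t)
    have h3 : χ (t⁻¹ * a * t) = χ a := by
      have := isCharacter_conj hcχ a t⁻¹
      simpa using this
    rw [h3, isCharacter_inv hcχ] at h2
    have h4 : conj (χ a) * χ a = (charDegree χ : ℂ) * (charDegree χ : ℂ) := by
      rw [mul_comm, Complex.mul_conj, Complex.normSq_eq_norm_sq, hnorm a ha]
      push_cast
      ring
    rw [h4] at h2
    exact mul_right_cancel₀ hdpos' h2
  have h2 := hfaith _ hker
  have h3 : a * t = t * a := by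
    rw [inv_mul_eq_one] at h2
    exact h2.symm
  exact h3.symm

/-- A normal subgroup of class two, with central commutators, is central. -/
theorem class_two_central {χ : G → ℂ} (hχ : IsIrrCharacter G χ)
    (hfaith : ∀ g : G, χ g = χ 1 → g = 1) {k : ℕ} (hk : k.Coprime (Nat.card G))
    (hirr : IsIrrCharacter G (fun g => χ g * χ (g ^ k)))
    (hab : ∀ A : Subgroup G, A.Normal → (∀ a ∈ A, ∀ b ∈ A, a * b = b * a) → A ≤ Subgroup.center G)
    (A : Subgroup G) (hA : A.Normal) (hc : ∀ a ∈ A, ∀ b ∈ A, a * b * a⁻¹ * b⁻¹ ∈ Subgroup.center G) :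
    A ≤ Subgroup.center G := by
  classical
  have hcχ := isCharacter_of_irr hχ
  -- the center of `A`
  let CA : Subgroup G := A ⊓ Subgroup.centralizer (A : Set G)
  have hCAn : CA.Normal := by
    haveI : A.Normal := hA
    haveI : (Subgroup.centralizer (A : Set G)).Normal := H01.centralizer_normal hA
    exact Subgroup.normal_inf_normal _ _
  have hCA : CA ≤ Subgroup.center G := by
    apply hab CA hCAn
    intro a ha b hb
    exact Subgroup.mem_centralizer_iff.mp hb.2 a ha.1
  have hd := one_eq_charDegree hcχ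
  have hdpos : (charDegree χ : ℂ) ≠ 0 := by
    exact_mod_cast (irr_charDegree_pos hχ).ne'
  -- vanishing
  have hv : ∀ a ∈ A, a ∉ CA → χ a = 0 := by
    intro a ha hna
    have : ∃ b ∈ A, b * a ≠ a * b := by
      by_contra hcon
      push Not at hcon
      apply hna
      refine ⟨ha, Subgroup.mem_centralizer_iff.mpr ?_⟩
      intro b hb
      exact hcon b hb
    obtain ⟨b, hb, hba⟩ := this
    set z := b * a * b⁻¹ * a⁻¹ with hz
    have hzc : z ∈ Subgroup.center G := hc b hb a ha
    have hz1 : z ≠ 1 := by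
      intro h
      apply hba
      have h2 : b * a * b⁻¹ * a⁻¹ = 1 := h
      calc b * a = (b * a * b⁻¹ * a⁻¹) * (a * b) := by group
        _ = a * b := by rw [h2, one_mul]
    have h3 : χ (z * a) = χ a := by
      have : z * a = b * a * b⁻¹ := by rw [hz]; group
      rw [this]
      exact isCharacter_conj hcχ a b
    have h4 := irr_central_mul hχ hzc a
    rw [h3] at h4
    have h5 : χ z ≠ (charDegree χ : ℂ) := by
      intro h
      exact hz1 (hfaith z (by rw [h, hd]))
    have h6 : χ a * ((charDegree χ : ℂ) - χ z) = 0 := by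
      linear_combination h4
    exact (mul_eq_zero.mp h6).resolve_right (sub_ne_zero.mpr h5.symm)
  by_contra hcon
  obtain ⟨n, hnA, hnZ⟩ := Set.not_subset.mp hcon
  have hnCA : n ∉ CA := fun h => hnZ (hCA h)
  have hn0 := hv n hnA hnCA
  -- the inverse exponent
  obtain ⟨l, hl⟩ : ∃ l : ℕ, ∀ x : G, (x ^ l) ^ k = x := by
    have hφ : 0 < Nat.totient (Nat.card G) := Nat.totient_pos.mpr Nat.card_pos
    refine ⟨k ^ (Nat.totient (Nat.card G) - 1), fun x => ?_⟩
    rw [← pow_mul, ← pow_succ, Nat.sub_add_cancel hφ]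
    have h1 : k ^ Nat.totient (Nat.card G) ≡ 1 [MOD Nat.card G] := Nat.ModEq.pow_totient hk
    have h2 : k ^ Nat.totient (Nat.card G) ≡ 1 [MOD orderOf x] :=
      h1.of_dvd (orderOf_dvd_natCard x)
    have h3 := (pow_eq_pow_iff_modEq (x := x)).mpr h2
    simpa using h3
  let χ' : G → ℂ := fun g => χ (g ^ k)
  have hcχ' : IsCharacter G χ' := H06.isCharacter_comp_pow hk hcχ
  have hid := tensor_identity hcχ hcχ' hirr n (n ^ l)⁻¹ n⁻¹ (n ^ l)
  rw [hn0, zero_mul, mul_zero, zero_mul] at hid
  have h11 : χ 1 * χ' 1 ≠ 0 := by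
    have h1 : χ' 1 = χ 1 := by simp [χ']
    rw [h1, hd]
    exact mul_ne_zero hdpos hdpos
  have hsum := (mul_eq_zero.mp hid).resolve_right h11
  -- the terms
  have hterm : ∀ g : G, χ (g * n * g⁻¹ * n⁻¹) * χ' (g * (n ^ l)⁻¹ * g⁻¹ * n ^ l) =
      ((if g * n * g⁻¹ * n⁻¹ ∈ CA then (charDegree χ : ℝ) ^ 2 else 0 : ℝ) : ℂ) := by
    intro g
    set a := g * n * g⁻¹ * n⁻¹ with ha
    have haA : a ∈ A := A.mul_mem (hA.conj_mem n hnA g) (A.inv_mem hnA)
    by_cases h : a ∈ CA
    · rw [if_pos h]
      have hac := hCA h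
      have hcomm : ∀ x : G, a * x = x * a := fun x => (Subgroup.mem_center_iff.mp hac x).symm
      have h1 : g * n * g⁻¹ = a * n := by rw [ha]; group
      have h3 : (g * n * g⁻¹) ^ l = a ^ l * n ^ l := by
        rw [h1]
        exact (show Commute a n from hcomm n).mul_pow l
      have h4 : g * (n ^ l)⁻¹ * g⁻¹ * n ^ l = (a ^ l)⁻¹ := by
        have h5 : g * (n ^ l)⁻¹ * g⁻¹ = ((g * n * g⁻¹) ^ l)⁻¹ := by
          rw [conj_pow, mul_inv_rev, mul_inv_rev, inv_inv, mul_assoc]
        have hcc : Commute (a ^ l) (n ^ l) := (show Commute a n from hcomm n).pow_pow l l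
        have h6 : (a ^ l)⁻¹ * n ^ l = n ^ l * (a ^ l)⁻¹ := hcc.inv_left.eq
        rw [h5, h3, mul_inv_rev, mul_assoc, h6, inv_mul_cancel_left]
      rw [h4]
      have h6 : χ' (a ^ l)⁻¹ = χ a⁻¹ := by
        show χ (((a ^ l)⁻¹) ^ k) = χ a⁻¹
        rw [inv_pow, hl]
      rw [h6, isCharacter_inv hcχ, Complex.mul_conj, Complex.normSq_eq_norm_sq,
        irr_norm_central hχ hac]
    · rw [if_neg h, hv a haA h]
      simp
  rw [Finset.sum_congr rfl (fun g _ => hterm g)] at hsum
  have h7 : (0 : ℝ) < ∑ g : G, (if g * n * g⁻¹ * n⁻¹ ∈ CA then (charDegree χ : ℝ) ^ 2 else 0 : ℝ) := by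
    apply Finset.sum_pos'
    · intro g _
      split_ifs <;> positivity
    · refine ⟨1, Finset.mem_univ _, ?_⟩
      have h8 : (1 : G) * n * (1 : G)⁻¹ * n⁻¹ = 1 := by group
      rw [h8, if_pos CA.one_mem]
      have := irr_charDegree_pos hχ
      positivity
  have h9 : ((∑ g : G, (if g * n * g⁻¹ * n⁻¹ ∈ CA then (charDegree χ : ℝ) ^ 2 else 0 : ℝ) : ℝ) : ℂ) = 0 := by
    rw [← hsum]
    push_cast
    rfl
  exact h7.ne' (by exact_mod_cast h9)

/-- `F(G) = Z(G)` when a faithful `χ` has `χ χ^σ` irreducible. -/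
theorem fitting_eq_center_of_prod_irr {χ : G → ℂ} (hχ : IsIrrCharacter G χ)
    (hfaith : ∀ g : G, χ g = χ 1 → g = 1) {k : ℕ} (hk : k.Coprime (Nat.card G))
    (hirr : IsIrrCharacter G (fun g => χ g * χ (g ^ k))) :
    fittingSubgroup G = Subgroup.center G := by
  classical
  apply le_antisymm _ (H07.center_le_fitting G)
  have hab : ∀ A : Subgroup G, A.Normal → (∀ a ∈ A, ∀ b ∈ A, a * b = b * a) →
      A ≤ Subgroup.center G := by
    intro A hA hc
    haveI := hA
    exact abelian_normal_central hχ hfaith hk hirr A hc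
  let F := fittingSubgroup G
  have hFn : F.Normal := H01.fitting_normal
  have hFnil : Group.IsNilpotent F := H01.fitting_nilpotent
  have hZc : ∀ z ∈ Subgroup.center G, ∀ x : G, z * x = x * z := fun z hz x =>
    (Subgroup.mem_center_iff.mp hz x).symm
  let A : Subgroup G :=
    { carrier := {a | a ∈ F ∧ ∀ b ∈ F, a * b * a⁻¹ * b⁻¹ ∈ Subgroup.center G}
      one_mem' := ⟨F.one_mem, fun b _ => by simp [Subgroup.one_mem]⟩
      mul_mem' := by
        rintro x y ⟨hx, hx'⟩ ⟨hy, hy'⟩
        refine ⟨F.mul_mem hx hy, fun b hb => ?_⟩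
        have h1 := hy' b hb
        have h2 := hx' b hb
        have h3 : x * y * b * (x * y)⁻¹ * b⁻¹ =
            (y * b * y⁻¹ * b⁻¹) * (x * b * x⁻¹ * b⁻¹) := by
          calc x * y * b * (x * y)⁻¹ * b⁻¹
              = (x * (y * b * y⁻¹ * b⁻¹)) * (b * x⁻¹ * b⁻¹) := by group
            _ = ((y * b * y⁻¹ * b⁻¹) * x) * (b * x⁻¹ * b⁻¹) := by rw [hZc _ h1 x]
            _ = _ := by group
        rw [h3]
        exact Subgroup.mul_mem _ h1 h2
      inv_mem' := by
        rintro x ⟨hx, hx'⟩
        refine ⟨F.inv_mem hx, fun b hb => ?_⟩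
        have h1 := hx' b hb
        have h2 : x⁻¹ * b * x⁻¹⁻¹ * b⁻¹ = x⁻¹ * (x * b * x⁻¹ * b⁻¹)⁻¹ * x⁻¹⁻¹ := by group
        rw [h2]
        exact (inferInstance : (Subgroup.center G).Normal).conj_mem _ (Subgroup.inv_mem _ h1) _ }
  have hAnorm : A.Normal := by
    constructor
    rintro a ⟨ha, ha'⟩ g
    refine ⟨hFn.conj_mem a ha g, fun b hb => ?_⟩
    have h1 := ha' (g⁻¹ * b * g⁻¹⁻¹) (hFn.conj_mem b hb g⁻¹)
    have h2 : g * a * g⁻¹ * b * (g * a * g⁻¹)⁻¹ * b⁻¹ =
        g * (a * (g⁻¹ * b * g⁻¹⁻¹) * a⁻¹ * (g⁻¹ * b * g⁻¹⁻¹)⁻¹) * g⁻¹ := by group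
    rw [h2]
    exact (inferInstance : (Subgroup.center G).Normal).conj_mem _ h1 g
  have hAle : A ≤ Subgroup.center G := class_two_central hχ hfaith hk hirr hab A hAnorm
    (fun a ha b hb => ha.2 b hb.1)
  obtain ⟨c, hc⟩ := Subgroup.nilpotent_iff_lowerCentralSeries.mp hFnil
  have key : ∀ i, i ≤ c → ∀ x : F, x ∈ (⊤ : Subgroup F).lowerCentralSeries (c - i) →
      (x : G) ∈ Subgroup.center G := by
    intro i
    induction i with
    | zero =>
      intro _ x hx
      rw [Nat.sub_zero, hc, Subgroup.mem_bot] at hx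
      rw [hx]
      exact Subgroup.one_mem _
    | succ i ih =>
      intro hi x hx
      apply hAle
      refine ⟨x.2, fun b hb => ?_⟩
      have h1 : c - i = c - (i + 1) + 1 := by omega
      have h2 : x * ⟨b, hb⟩ * x⁻¹ * (⟨b, hb⟩ : F)⁻¹ ∈ (⊤ : Subgroup F).lowerCentralSeries (c - i) := by
        rw [h1, Subgroup.lowerCentralSeries_succ]
        exact Subgroup.commutator_mem_commutator hx (Subgroup.mem_top _)
      exact ih (by omega) _ h2
  intro x hx
  have := key c le_rfl ⟨x, hx⟩ (by
    rw [Nat.sub_self, Subgroup.lowerCentralSeries_zero]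
    exact Subgroup.mem_top _)
  exact this

end Main

end Cfsg.Agent.H23
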