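import Cfsg.Agent.Lib.H23.NormComp
import Cfsg.Agent.Lib.H23.LinInd
import Cfsg.Agent.Lib.H22.Degree

/-!
# The sum of squares of `p'`-degrees against the normalizer of a Sylow subgroup
-/

set_option autoImplicit false
set_option linter.unusedSectionVars false
set_option linter.style.haveILetI false
set_option linter.unusedSimpArgs false

namespace Cfsg.Agent.H23

open scoped ComplexConjugate commutatorElement
open Cfsg Cfsg.Agent.H21 Cfsg.Agent.H22

universe u

variable {p : ℕ} [hp : Fact p.Prime]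

theorem charDegree_congr {A B : Type*} [Group A] [Group B] {f : A → ℂ} {g : B → ℂ} (h : f 1 = g 1) :
    charDegree f = charDegree g := by
  unfold charDegree
  rw [h]

theorem sum_sq_le_sq_sum {ι : Type*} (s : Finset ι) (f : ι → ℕ) :
    ∑ i ∈ s, f i ^ 2 ≤ (∑ i ∈ s, f i) ^ 2 := by
  classical
  induction s using Finset.induction_on with
  | empty => simp
  | insert a s ha ih =>
    rw [Finset.sum_insert ha, Finset.sum_insert ha]
    nlinarith [Nat.zero_le (f a * ∑ i ∈ s, f i)]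

section

variable {G : Type u} [Group G] [Finite G]

/-- A linear character kills commutators. -/
theorem linear_commutator {Y : Type*} [Group Y] [Finite Y] {μ : Y → ℂ} (hμ : IsCharacter Y μ)
    (h1 : charDegree μ = 1) {x : Y} (hx : x ∈ commutator Y) : μ x = 1 := by
  have hK : commutator Y ≤ charKer μ hμ := by
    rw [commutator_def, Subgroup.commutator_le]
    intro a _ b _
    rw [commutatorElement_def]
    change μ (a * b * a⁻¹ * b⁻¹) = μ 1
    rw [linear_one hμ h1]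
    simp only [linear_mul hμ h1]
    have h2 : μ a * μ a⁻¹ = 1 := by
      rw [← linear_mul hμ h1, mul_inv_cancel, linear_one hμ h1]
    have h3 : μ b * μ b⁻¹ = 1 := by
      rw [← linear_mul hμ h1, mul_inv_cancel, linear_one hμ h1]
    calc μ a * μ b * μ a⁻¹ * μ b⁻¹ = (μ a * μ a⁻¹) * (μ b * μ b⁻¹) := by ring
      _ = 1 := by rw [h2, h3, one_mul]
  have h4 : μ x = μ 1 := hK hx
  rw [h4, linear_one hμ h1]

/-- A `p'`-degree irreducible character of `N_G(P)` has `P'` in its kernel. -/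
theorem comm_ker_of_not_dvd (P : Sylow p G) (ξ : IrrCharacter (sylowN P))
    (h : ¬ p ∣ charDegree ξ.1) (c : sylowN P)
    (hc : (c : G) ∈ ⁅(P : Subgroup G), (P : Subgroup G)⁆) : ξ.1 c = ξ.1 1 := by
  classical
  haveI : Fintype (sylowN P) := Fintype.ofFinite _
  haveI : Fintype (P : Subgroup G) := Fintype.ofFinite _
  haveI : Fintype (IrrCharacter (P : Subgroup G)) := Fintype.ofFinite _
  have hPN : (P : Subgroup G) ≤ sylowN P := Subgroup.le_normalizer
  let ι : (P : Subgroup G) →* sylowN P := Subgroup.inclusion hPN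
  have hν : IsCharacter (P : Subgroup G) (ξ.1 ∘ ι) := isCharacter_comp ι (isCharacter_of_irr ξ.2)
  obtain ⟨m, hm, hm2⟩ := isCharacter_decomp hν
  have hexp : ∀ x, ξ.1 (ι x) = ∑ μ : IrrCharacter (P : Subgroup G), (m μ : ℂ) * μ.1 x := by
    intro x
    have := congrFun hm x
    simp only [Finset.sum_apply, Pi.smul_apply] at this
    simpa only [nsmul_eq_mul, Function.comp_apply] using this
  have hdeg : charDegree ξ.1 = ∑ μ : IrrCharacter (P : Subgroup G), m μ * charDegree μ.1 := by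
    have h1 := hexp 1
    rw [map_one, one_eq_charDegree (isCharacter_of_irr ξ.2)] at h1
    have h3 : ∀ μ : IrrCharacter (P : Subgroup G), (m μ : ℂ) * μ.1 1 = ((m μ * charDegree μ.1 : ℕ) : ℂ) := by
      intro μ
      rw [one_eq_charDegree (isCharacter_of_irr μ.2)]
      push_cast
      ring
    simp only [h3] at h1
    exact_mod_cast h1
  obtain ⟨μ, -, hμ⟩ : ∃ μ ∈ (Finset.univ : Finset (IrrCharacter (P : Subgroup G))), ¬ p ∣ m μ * charDegree μ.1 := by
    by_contra hcon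
    push Not at hcon
    exact h (hdeg ▸ Finset.dvd_sum hcon)
  have hm0 : m μ ≠ 0 := by
    intro h0
    rw [h0] at hμ
    simp at hμ
  have hμd : ¬ p ∣ charDegree μ.1 := fun h1 => hμ (Dvd.dvd.mul_left h1 _)
  have hμ1 : charDegree μ.1 = 1 := by
    obtain ⟨a, ha⟩ := IsPGroup.iff_card.1 P.isPGroup'
    have h1 := charDegree_dvd_card μ
    rw [ha] at h1
    obtain ⟨i, -, hi⟩ := (Nat.dvd_prime_pow hp.out).1 h1
    rw [hi] at hμd ⊢
    rcases i with _ | i
    · simp
    · exact absurd (dvd_pow_self p (Nat.succ_ne_zero i)) hμd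
  by_contra hne
  let T : Subgroup (sylowN P) := (⁅(P : Subgroup G), (P : Subgroup G)⁆ : Subgroup G).subgroupOf (sylowN P)
  haveI hT : T.Normal := commutator_subgroupOf_normal (P : Subgroup G)
  haveI : Fintype T := Fintype.ofFinite _
  have h0 := sum_mul_normal_of_irr T ξ.2 (fun hall => hne (hall c (Subgroup.mem_subgroupOf.2 hc))) 1
  simp only [mul_one] at h0
  have hDP : ⁅(P : Subgroup G), (P : Subgroup G)⁆ ≤ (P : Subgroup G) := by
    rw [Subgroup.commutator_le]
    intro a ha b hb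
    rw [commutatorElement_def]
    exact Subgroup.mul_mem _ (Subgroup.mul_mem _ (Subgroup.mul_mem _ ha hb) (Subgroup.inv_mem _ ha)) (Subgroup.inv_mem _ hb)
  -- the map `T → P`
  let r : T →* (P : Subgroup G) :=
    { toFun := fun t => ⟨((t : sylowN P) : G), hDP (Subgroup.mem_subgroupOf.1 t.2)⟩
      map_one' := rfl
      map_mul' := fun _ _ => rfl }
  have hι : ∀ t : T, ι (r t) = t := fun t => Subtype.ext rfl
  have hk : ∀ μ' : IrrCharacter (P : Subgroup G), ∃ k : ℕ, ∑ t : T, μ'.1 (r t) = (Nat.card T : ℂ) * k := by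
    intro μ'
    haveI : Fintype (IrrCharacter T) := Fintype.ofFinite _
    have hc' : IsCharacter T (μ'.1 ∘ r) := isCharacter_comp r (isCharacter_of_irr μ'.2)
    obtain ⟨m', -, hm'⟩ := isCharacter_decomp hc'
    refine ⟨m' ⟨fun _ => 1, isIrrCharacter_one⟩, ?_⟩
    have h1 := hm' ⟨fun _ => 1, isIrrCharacter_one⟩
    simp only [classInner, map_one, mul_one, Function.comp_apply] at h1
    rw [← h1]
    field_simp
  choose k hk using hk
  have h1 : ∑ t : T, ξ.1 t = (Nat.card T : ℂ) * ((∑ μ' : IrrCharacter (P : Subgroup G), m μ' * k μ' : ℕ) : ℂ) := by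
    have h2 : ∀ t : T, ξ.1 t = ∑ μ' : IrrCharacter (P : Subgroup G), (m μ' : ℂ) * μ'.1 (r t) := by
      intro t
      rw [← hexp, hι]
    simp only [h2]
    rw [Finset.sum_comm]
    simp only [← Finset.mul_sum, hk]
    push_cast
    rw [Finset.mul_sum]
    refine Finset.sum_congr rfl fun μ' _ => ?_
    ring
  have hkμ : k μ = 1 := by
    have h2 := hk μ
    have h3 : ∀ t : T, μ.1 (r t) = 1 := by
      intro t
      apply linear_commutator (isCharacter_of_irr μ.2) hμ1
      have h4 := Subgroup.mem_subgroupOf.1 t.2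
      rw [← Subgroup.map_subtype_commutator] at h4
      obtain ⟨y, hy, hyq⟩ := Subgroup.mem_map.1 h4
      have : y = r t := Subtype.ext hyq
      rw [← this]
      exact hy
    simp only [h3, Finset.sum_const, Finset.card_univ, nsmul_eq_mul, mul_one] at h2
    rw [← Nat.card_eq_fintype_card] at h2
    have h5 : (Nat.card T : ℂ) ≠ 0 := by exact_mod_cast Nat.card_pos.ne'
    have h6 := mul_left_cancel₀ h5 ((mul_one _).trans h2)
    exact_mod_cast h6.symm
  have hpos : 0 < ∑ μ' : IrrCharacter (P : Subgroup G), m μ' * k μ' := by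
    refine Finset.sum_pos' (fun _ _ => Nat.zero_le _) ⟨μ, Finset.mem_univ _, ?_⟩
    rw [hkμ, mul_one]
    exact Nat.pos_of_ne_zero hm0
  rw [h0] at h1
  have h5 : (Nat.card T : ℂ) ≠ 0 := by exact_mod_cast Nat.card_pos.ne'
  have h6 : ((∑ μ' : IrrCharacter (P : Subgroup G), m μ' * k μ' : ℕ) : ℂ) ≠ 0 := by
    exact_mod_cast hpos.ne'
  exact (mul_ne_zero h5 h6) h1.symm

open Classical in
/-- `|N_G(P)| = |P'| · Σ ξ(1)²`, the sum over the characters of `N_G(P)` with `P'` in the kernel. -/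
theorem card_normalizer_eq (P : Sylow p G) [Fintype (IrrCharacter (sylowN P))] :
    Nat.card (sylowN P) = Nat.card (⁅(P : Subgroup G), (P : Subgroup G)⁆ : Subgroup G) *
      ∑ ξ ∈ Finset.univ.filter (fun ξ : IrrCharacter (sylowN P) =>
        ∀ c : sylowN P, (c : G) ∈ ⁅(P : Subgroup G), (P : Subgroup G)⁆ → ξ.1 c = ξ.1 1),
        charDegree ξ.1 ^ 2 := by
  haveI : Fintype (sylowN P) := Fintype.ofFinite _
  set D : Subgroup G := ⁅(P : Subgroup G), (P : Subgroup G)⁆ with hD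
  let A : Subgroup (sylowN P) := D.subgroupOf (sylowN P)
  haveI hA : A.Normal := commutator_subgroupOf_normal (P : Subgroup G)
  have hDP : D ≤ (P : Subgroup G) := by
    rw [hD, Subgroup.commutator_le]
    intro a ha b hb
    rw [commutatorElement_def]
    exact Subgroup.mul_mem _ (Subgroup.mul_mem _ (Subgroup.mul_mem _ ha hb) (Subgroup.inv_mem _ ha)) (Subgroup.inv_mem _ hb)
  have hDN : D ≤ sylowN P := hDP.trans Subgroup.le_normalizer
  have hcardA : Nat.card A = Nat.card D := Nat.card_congr (Subgroup.subgroupOfEquivOfLe hDN).toEquiv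
  haveI : Fintype (sylowN P ⧸ A) := Fintype.ofFinite _
  haveI : Fintype (IrrCharacter (sylowN P ⧸ A)) := Fintype.ofFinite _
  have h1 := sum_degree_sq (G := sylowN P ⧸ A)
  have h2 : Nat.card (sylowN P) = Nat.card (sylowN P ⧸ A) * Nat.card A :=
    A.card_eq_card_quotient_mul_card_subgroup
  rw [h2, hcardA, mul_comm]
  congr 1
  rw [← h1]
  refine Finset.sum_bij (fun τ _ => (⟨τ.1 ∘ QuotientGroup.mk' A,
      isIrrCharacter_comp_of_surjective _ (QuotientGroup.mk'_surjective A) τ.2⟩ : IrrCharacter (sylowN P)))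
    ?_ ?_ ?_ ?_
  · intro τ _
    simp only [Finset.mem_filter, Finset.mem_univ, true_and]
    intro c hc
    change τ.1 (QuotientGroup.mk' A c) = τ.1 (QuotientGroup.mk' A 1)
    have h3 : QuotientGroup.mk' A c = 1 := (QuotientGroup.eq_one_iff c).2 (Subgroup.mem_subgroupOf.2 hc)
    rw [h3, map_one]
  · intro τ _ τ' _ h
    apply Subtype.ext
    funext x
    obtain ⟨y, rfl⟩ := QuotientGroup.mk'_surjective A x
    exact congrFun (congrArg Subtype.val h) y
  · intro ξ hξ
    simp only [Finset.mem_filter, Finset.mem_univ, true_and] at hξ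
    obtain ⟨τ, hτ, hτξ⟩ := exists_descend A ξ.2 (fun c hc => hξ c (Subgroup.mem_subgroupOf.1 hc))
    exact ⟨⟨τ, hτ⟩, Finset.mem_univ _, Subtype.ext hτξ⟩
  · intro τ _
    congr 1

/-- Above each `ξ ∈ Irr(N_G(P))` of `p'`-degree there is a `p'`-degree character of `G`. -/
theorem exists_not_dvd_above (P : Sylow p G) [Fintype (sylowN P)]
    (ξ : IrrCharacter (sylowN P)) (h : ¬ p ∣ charDegree ξ.1) :
    ∃ χ : IrrCharacter G, ¬ p ∣ charDegree χ.1 ∧ classInner (fun n : sylowN P => χ.1 n) ξ.1 ≠ 0 := by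
  classical
  haveI : Fintype G := Fintype.ofFinite _
  haveI : Fintype (IrrCharacter G) := Fintype.ofFinite _
  have hξc := isCharacter_of_irr ξ.2
  have hind := isCharacter_indFun (sylowN P) hξc
  obtain ⟨m, hm, hm2⟩ := isCharacter_decomp hind
  have hdeg : charDegree (indFun (sylowN P) ξ.1) = ∑ χ : IrrCharacter G, m χ * charDegree χ.1 := by
    have h1 := congrFun hm 1
    simp only [Finset.sum_apply, Pi.smul_apply] at h1
    rw [one_eq_charDegree hind] at h1
    have h3 : ∀ χ : IrrCharacter G, m χ • χ.1 1 = ((m χ * charDegree χ.1 : ℕ) : ℂ) := by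
      intro χ
      rw [one_eq_charDegree (isCharacter_of_irr χ.2)]
      simp
    simp only [h3] at h1
    exact_mod_cast h1
  rw [charDegree_indFun (sylowN P) hξc] at hdeg
  have hNidx : ¬ p ∣ (sylowN P).index := by
    intro h1
    apply P.not_dvd_index
    exact h1.trans (Subgroup.index_dvd_of_le Subgroup.le_normalizer)
  have hnd : ¬ p ∣ (sylowN P).index * charDegree ξ.1 := by
    intro h1
    rcases (Nat.Prime.dvd_mul hp.out).1 h1 with h2 | h2
    · exact hNidx h2
    · exact h h2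
  obtain ⟨χ, -, hχ⟩ : ∃ χ ∈ (Finset.univ : Finset (IrrCharacter G)), ¬ p ∣ m χ * charDegree χ.1 := by
    by_contra hcon
    push Not at hcon
    exact hnd (hdeg ▸ Finset.dvd_sum hcon)
  refine ⟨χ, fun h1 => hχ (Dvd.dvd.mul_left h1 _), fun h0 => ?_⟩
  apply hχ
  have h1 := hm2 χ
  rw [frobenius_reciprocity (sylowN P) _ _ (isClassFunction_of_isCharacter (isCharacter_of_irr χ.2)),
    ← classInner_comm_conj, h0, map_zero] at h1
  have h2 : m χ = 0 := by exact_mod_cast h1.symm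
  rw [h2]
  simp

open Classical in
/-- The count with the restrictions. -/
theorem sum_F_le_sum_O (P : Sylow p G) [Fintype (IrrCharacter G)]
    [Fintype (IrrCharacter (sylowN P))] :
    (∑ ξ ∈ Finset.univ.filter (fun ξ : IrrCharacter (sylowN P) =>
        ∀ c : sylowN P, (c : G) ∈ ⁅(P : Subgroup G), (P : Subgroup G)⁆ → ξ.1 c = ξ.1 1),
        charDegree ξ.1 ^ 2 ≤
      ∑ χ ∈ Finset.univ.filter (fun χ : IrrCharacter G => ¬ p ∣ charDegree χ.1), charDegree χ.1 ^ 2) ∧
    ((∑ ξ ∈ Finset.univ.filter (fun ξ : IrrCharacter (sylowN P) =>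
        ∀ c : sylowN P, (c : G) ∈ ⁅(P : Subgroup G), (P : Subgroup G)⁆ → ξ.1 c = ξ.1 1),
        charDegree ξ.1 ^ 2 =
      ∑ χ ∈ Finset.univ.filter (fun χ : IrrCharacter G => ¬ p ∣ charDegree χ.1), charDegree χ.1 ^ 2) →
      ∀ ξ : IrrCharacter (sylowN P),
        (∀ c : sylowN P, (c : G) ∈ ⁅(P : Subgroup G), (P : Subgroup G)⁆ → ξ.1 c = ξ.1 1) →
        ∃ χ : IrrCharacter G, ∀ x : sylowN P, χ.1 x = ξ.1 x) := by
  set F := Finset.univ.filter (fun ξ : IrrCharacter (sylowN P) =>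
        ∀ c : sylowN P, (c : G) ∈ ⁅(P : Subgroup G), (P : Subgroup G)⁆ → ξ.1 c = ξ.1 1) with hF
  set O := Finset.univ.filter (fun χ : IrrCharacter G => ¬ p ∣ charDegree χ.1) with hO
  have hFmem : ∀ ξ : IrrCharacter (sylowN P), ξ ∈ F ↔
      ∀ c : sylowN P, (c : G) ∈ ⁅(P : Subgroup G), (P : Subgroup G)⁆ → ξ.1 c = ξ.1 1 := by
    intro ξ
    rw [hF, Finset.mem_filter]
    simp only [Finset.mem_univ, true_and]
  haveI : Fintype (sylowN P) := Fintype.ofFinite _
  have hdec : ∀ χ : IrrCharacter G, ∃ m : IrrCharacter (sylowN P) → ℕ,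
      (∀ n : sylowN P, χ.1 n = ∑ ξ, (m ξ : ℂ) * ξ.1 n) ∧
      (∀ ξ : IrrCharacter (sylowN P), classInner (fun n : sylowN P => χ.1 n) ξ.1 = m ξ) ∧
      charDegree χ.1 = ∑ ξ : IrrCharacter (sylowN P), m ξ * charDegree ξ.1 := by
    intro χ
    obtain ⟨m, hm, hm2⟩ := isCharacter_decomp (isCharacter_restrict (sylowN P) (isCharacter_of_irr χ.2))
    have hexp : ∀ n : sylowN P, χ.1 n = ∑ ξ, (m ξ : ℂ) * ξ.1 n := by
      intro n
      have := congrFun hm n
      simp only [Finset.sum_apply, Pi.smul_apply] at this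
      simpa only [nsmul_eq_mul] using this
    refine ⟨m, hexp, hm2, ?_⟩
    have h1 := hexp 1
    have h0 : ((1 : sylowN P) : G) = 1 := rfl
    rw [h0, one_eq_charDegree (isCharacter_of_irr χ.2)] at h1
    have h3 : ∀ μ : IrrCharacter (sylowN P), (m μ : ℂ) * μ.1 1 = ((m μ * charDegree μ.1 : ℕ) : ℂ) := by
      intro μ
      rw [one_eq_charDegree (isCharacter_of_irr μ.2)]
      push_cast
      ring
    simp only [h3] at h1
    exact_mod_cast h1
  choose m hm hm2 hm3 using hdec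
  let A : IrrCharacter G → Finset (IrrCharacter (sylowN P)) := fun χ => F.filter (fun ξ => m χ ξ ≠ 0)
  have hApos : ∀ ξ : IrrCharacter (sylowN P), 0 < charDegree ξ.1 := fun ξ => irr_charDegree_pos ξ.2
  have ha : ∀ χ, ∑ ξ ∈ A χ, charDegree ξ.1 ≤ charDegree χ.1 := by
    intro χ
    rw [hm3 χ]
    calc ∑ ξ ∈ A χ, charDegree ξ.1 ≤ ∑ ξ ∈ A χ, m χ ξ * charDegree ξ.1 :=
          Finset.sum_le_sum (fun ξ hξ => Nat.le_mul_of_pos_left _
            (Nat.pos_of_ne_zero (Finset.mem_filter.1 hξ).2))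
      _ ≤ ∑ ξ, m χ ξ * charDegree ξ.1 :=
          Finset.sum_le_sum_of_subset (Finset.subset_univ _)
  have hb : ∀ χ, ∑ ξ ∈ A χ, charDegree ξ.1 ^ 2 ≤ charDegree χ.1 ^ 2 := fun χ =>
    (sum_sq_le_sq_sum _ _).trans (Nat.pow_le_pow_left (ha χ) 2)
  have hc : ∀ ξ ∈ F, ∃ χ ∈ O, ξ ∈ A χ := by
    intro ξ hξ
    have hξd := not_dvd_degree_of_commutator_ker P ξ ((hFmem ξ).1 hξ)
    obtain ⟨χ, hχ, hne⟩ := exists_not_dvd_above P ξ hξd
    refine ⟨χ, Finset.mem_filter.2 ⟨Finset.mem_univ _, hχ⟩, Finset.mem_filter.2 ⟨hξ, ?_⟩⟩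
    intro h0
    apply hne
    rw [hm2, h0]
    simp
  have hT : ∑ ξ ∈ F, charDegree ξ.1 ^ 2 ≤ ∑ χ ∈ O, ∑ ξ ∈ A χ, charDegree ξ.1 ^ 2 := by
    have h1 : ∑ χ ∈ O, ∑ ξ ∈ A χ, charDegree ξ.1 ^ 2 =
        ∑ ξ ∈ F, ∑ χ ∈ O.filter (fun χ => ξ ∈ A χ), charDegree ξ.1 ^ 2 := by
      refine Finset.sum_comm' ?_
      intro χ ξ
      simp only [Finset.mem_filter, A]
      tauto
    rw [h1]
    refine Finset.sum_le_sum fun ξ hξ => ?_
    obtain ⟨χ, hχ, hχA⟩ := hc ξ hξ
    rw [Finset.sum_const, smul_eq_mul]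
    exact Nat.le_mul_of_pos_left _ (Finset.card_pos.2 ⟨χ, Finset.mem_filter.2 ⟨hχ, hχA⟩⟩)
  have hS : ∑ χ ∈ O, ∑ ξ ∈ A χ, charDegree ξ.1 ^ 2 ≤ ∑ χ ∈ O, charDegree χ.1 ^ 2 :=
    Finset.sum_le_sum fun χ _ => hb χ
  refine ⟨hT.trans hS, fun heq ξ hξ' => ?_⟩
  have hξ : ξ ∈ F := (hFmem ξ).2 hξ'
  have hS' : ∑ χ ∈ O, ∑ ξ ∈ A χ, charDegree ξ.1 ^ 2 = ∑ χ ∈ O, charDegree χ.1 ^ 2 :=
    le_antisymm hS (heq ▸ hT)
  have hpt := (Finset.sum_eq_sum_iff_of_le (fun χ _ => hb χ)).1 hS'
  obtain ⟨χ, hχ, hξA⟩ := hc ξ hξ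
  have h1 := hpt χ hχ
  have hsplit1 : charDegree ξ.1 + ∑ η ∈ (A χ).erase ξ, charDegree η.1 = ∑ η ∈ A χ, charDegree η.1 :=
    Finset.add_sum_erase _ (fun η : IrrCharacter (sylowN P) => charDegree η.1) hξA
  have hsplit2 : charDegree ξ.1 ^ 2 + ∑ η ∈ (A χ).erase ξ, charDegree η.1 ^ 2 =
      ∑ η ∈ A χ, charDegree η.1 ^ 2 :=
    Finset.add_sum_erase _ (fun η : IrrCharacter (sylowN P) => charDegree η.1 ^ 2) hξA
  have h3 := sum_sq_le_sq_sum ((A χ).erase ξ) (fun η : IrrCharacter (sylowN P) => charDegree η.1)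
  have h4 := ha χ
  have hd := hApos ξ
  generalize hX : ∑ η ∈ (A χ).erase ξ, charDegree η.1 = X at *
  generalize hY : ∑ η ∈ (A χ).erase ξ, charDegree η.1 ^ 2 = Y at *
  generalize hD : charDegree χ.1 = D at *
  generalize hdd : charDegree ξ.1 = d at *
  have hD2 : d ^ 2 + Y = D ^ 2 := by rw [hsplit2]; exact h1
  have hX0 : X = 0 := by
    have h5 : d + X ≤ D := by rw [hsplit1]; exact h4
    by_contra hne
    have hXp : 0 < X := Nat.pos_of_ne_zero hne
    nlinarith [Nat.mul_le_mul h5 h5, Nat.mul_pos hd hXp]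
  have hY0 : Y = 0 := by
    rw [hX0] at h3
    simpa using h3
  have hDd : D = d := by
    rw [hY0, add_zero] at hD2
    exact (Nat.pow_left_injective (n := 2) (by norm_num) hD2).symm
  have hm1 : m χ ξ * charDegree ξ.1 + ∑ η ∈ Finset.univ.erase ξ, m χ η * charDegree η.1 = D := by
    rw [← hD, hm3 χ]
    exact Finset.add_sum_erase _ (fun η : IrrCharacter (sylowN P) => m χ η * charDegree η.1) (Finset.mem_univ _)
  have hm0 : m χ ξ ≠ 0 := (Finset.mem_filter.1 hξA).2
  rw [hdd, hDd] at hm1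
  have hmξ1 : m χ ξ = 1 := by
    have h5 : m χ ξ * d ≤ 1 * d := by rw [one_mul]; omega
    have h6 : m χ ξ ≤ 1 := Nat.le_of_mul_le_mul_right h5 hd
    omega
  have hR : ∑ η ∈ Finset.univ.erase ξ, m χ η * charDegree η.1 = 0 := by
    rw [hmξ1, one_mul] at hm1
    omega
  have hη : ∀ η, η ≠ ξ → m χ η = 0 := by
    intro η hη
    have h5 := (Finset.sum_eq_zero_iff.1 hR) η (Finset.mem_erase.2 ⟨hη, Finset.mem_univ _⟩)
    rcases mul_eq_zero.1 h5 with h | h
    · exact h
    · exact absurd h (hApos η).ne'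
  refine ⟨χ, fun x => ?_⟩
  rw [hm χ x, Finset.sum_eq_single ξ]
  · rw [hmξ1]
    simp
  · intro η _ hη'
    rw [hη η hη']
    simp
  · simp

open Classical in
/-- With a normal complement of `N_G(P)` the restriction is an injection onto the `p'`-characters. -/
theorem sum_O_le_sum_F (P : Sylow p G) [Fintype (IrrCharacter G)]
    [Fintype (IrrCharacter (sylowN P))] (K : Subgroup G) [hK : K.Normal]
    (h1 : K ⊓ sylowN P = ⊥) (h2 : K ⊔ sylowN P = ⊤) :
    ∑ χ ∈ Finset.univ.filter (fun χ : IrrCharacter G => ¬ p ∣ charDegree χ.1), charDegree χ.1 ^ 2 ≤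
    ∑ ξ ∈ Finset.univ.filter (fun ξ : IrrCharacter (sylowN P) =>
        ∀ c : sylowN P, (c : G) ∈ ⁅(P : Subgroup G), (P : Subgroup G)⁆ → ξ.1 c = ξ.1 1),
        charDegree ξ.1 ^ 2 := by
  obtain ⟨f, hf, hfk⟩ := exists_retraction K (sylowN P) h2 h1
  have hsurj : Function.Surjective f := fun n => ⟨n, hf n⟩
  set F := Finset.univ.filter (fun ξ : IrrCharacter (sylowN P) =>
        ∀ c : sylowN P, (c : G) ∈ ⁅(P : Subgroup G), (P : Subgroup G)⁆ → ξ.1 c = ξ.1 1) with hF
  set O := Finset.univ.filter (fun χ : IrrCharacter G => ¬ p ∣ charDegree χ.1) with hO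
  have hFmem : ∀ ξ : IrrCharacter (sylowN P), ξ ∈ F ↔
      ∀ c : sylowN P, (c : G) ∈ ⁅(P : Subgroup G), (P : Subgroup G)⁆ → ξ.1 c = ξ.1 1 := by
    intro ξ
    rw [hF, Finset.mem_filter]
    simp only [Finset.mem_univ, true_and]
  haveI : Fintype G := Fintype.ofFinite _
  have hfree : ∀ t ∈ K, (∀ x ∈ (P : Subgroup G), x * t * x⁻¹ = t) → t = 1 := by
    intro t ht hcomm
    have htN : t ∈ sylowN P := by
      rw [Subgroup.mem_normalizer_iff]
      intro y
      constructor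
      · intro hy
        have h3 := hcomm y hy
        have : t * y * t⁻¹ = y := by
          have h4 : y * t = t * y := by
            have := congrArg (· * y) h3
            simpa [mul_assoc] using this
          rw [← h4]
          group
        rw [this]
        exact hy
      · intro hy
        have h3 := hcomm _ hy
        have : t * y * t⁻¹ = y := by
          have h4 : (t * y * t⁻¹) * t = t * (t * y * t⁻¹) := by
            have := congrArg (· * (t * y * t⁻¹)) h3
            simpa [mul_assoc] using this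
          have h5 : y * t = t * y := by
            have h6 : t * y * t⁻¹ * t = t * y := by group
            rw [h6] at h4
            have h7 : t * y = t * (t * y * t⁻¹) := h4
            have h8 := mul_left_cancel h7
            have h9 : y * t = t * y * t⁻¹ * t := by rw [← h8]
            rw [h9]
            group
          rw [← h5]
          group
        rw [← this]
        exact hy
    have : t ∈ K ⊓ sylowN P := ⟨ht, htN⟩
    rw [h1] at this
    simpa using this
  have hker : ∀ χ ∈ O, ∀ g, f g = 1 → χ.1 g = χ.1 1 := by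
    intro χ hχ g hg
    exact le_ker_of_fixedPointFree χ.2 (Finset.mem_filter.1 hχ).2 K (P : Subgroup G) P.isPGroup' hfree g ((hfk g).1 hg)
  have hex : ∀ χ ∈ O, ∃ ξ ∈ F, (∀ g : G, χ.1 g = ξ.1 (f g)) ∧ charDegree ξ.1 = charDegree χ.1 := by
    intro χ hχ
    obtain ⟨χ', hχ', hcomp⟩ := isIrrCharacter_descend f hsurj χ.2 (hker χ hχ)
    have hval : ∀ g, χ.1 g = χ' (f g) := fun g => (congrFun hcomp g).symm
    have hd : charDegree χ' = charDegree χ.1 :=
      charDegree_congr (by rw [hval 1, map_one])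
    refine ⟨⟨χ', hχ'⟩, (hFmem _).2 fun c hc =>
      comm_ker_of_not_dvd P ⟨χ', hχ'⟩ ?_ c hc, hval, hd⟩
    change ¬ p ∣ charDegree χ'
    rw [hd]
    exact (Finset.mem_filter.1 hχ).2
  haveI : Nonempty (IrrCharacter (sylowN P)) := ⟨⟨fun _ => 1, isIrrCharacter_one⟩⟩
  choose! r hrF hr hrd using hex
  have hinj : Set.InjOn r (O : Set (IrrCharacter G)) := by
    intro a ha b hb hab
    apply Subtype.ext
    funext g
    rw [hr a ha, hr b hb, hab]
  calc ∑ χ ∈ O, charDegree χ.1 ^ 2 = ∑ χ ∈ O, charDegree (r χ).1 ^ 2 :=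
        Finset.sum_congr rfl fun χ hχ => by rw [hrd χ hχ]
    _ = ∑ ξ ∈ O.image r, charDegree ξ.1 ^ 2 :=
        (Finset.sum_image (f := fun ξ : IrrCharacter (sylowN P) => charDegree ξ.1 ^ 2) hinj).symm
    _ ≤ ∑ ξ ∈ F, charDegree ξ.1 ^ 2 := by
        refine Finset.sum_le_sum_of_subset ?_
        intro ξ hξ
        obtain ⟨χ, hχ, rfl⟩ := Finset.mem_image.1 hξ
        exact hrF χ hχ

open Classical in
/-- The general form of the theorem. -/
theorem odd_sum_main (P : Sylow p G) [Fintype (IrrCharacter G)] :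
    Nat.card (sylowN P) ≤ Nat.card (⁅(P : Subgroup G), (P : Subgroup G)⁆ : Subgroup G) *
      ∑ χ ∈ Finset.univ.filter (fun χ : IrrCharacter G => ¬ p ∣ charDegree χ.1), charDegree χ.1 ^ 2 ∧
    (Nat.card (sylowN P) = Nat.card (⁅(P : Subgroup G), (P : Subgroup G)⁆ : Subgroup G) *
      ∑ χ ∈ Finset.univ.filter (fun χ : IrrCharacter G => ¬ p ∣ charDegree χ.1), charDegree χ.1 ^ 2 ↔
      ∃ K : Subgroup G, K.Normal ∧ K ⊓ sylowN P = ⊥ ∧ K ⊔ sylowN P = ⊤) := by
  haveI : Fintype (IrrCharacter (sylowN P)) := Fintype.ofFinite _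
  obtain ⟨h1, h2⟩ := sum_F_le_sum_O P
  have h3 := card_normalizer_eq P
  have hpos : 0 < Nat.card (⁅(P : Subgroup G), (P : Subgroup G)⁆ : Subgroup G) := Nat.card_pos
  rw [h3]
  refine ⟨Nat.mul_le_mul_left _ h1, ⟨fun heq => ?_, ?_⟩⟩
  · have h4 := Nat.eq_of_mul_eq_mul_left hpos heq
    obtain ⟨K, hKn, hKs, hKi⟩ := exists_normal_complement_of_extend P (h2 h4)
    exact ⟨K, hKn, hKi, hKs⟩
  · rintro ⟨K, hKn, hKi, hKs⟩
    haveI := hKn
    exact congrArg _ (le_antisymm h1 (sum_O_le_sum_F P K hKi hKs))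

end

end Cfsg.Agent.H23
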