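import Mathlib.GroupTheory.Transfer
import Mathlib.GroupTheory.Nilpotent
import Mathlib.GroupTheory.Sylow
import Mathlib.Tactic.Group

/-!
# Tate's theorem on normal `p`-complements

If `P` is a Sylow `p`-subgroup of `G` and `K ⊴ G` has no nontrivial abelian `p`-quotient and
`P ∩ K ≤ P'`, then `P ∩ K = 1`.  The proof is by the transfer into a central extension of `G`.
-/

set_option autoImplicit false
set_option linter.unusedSectionVars false
set_option linter.style.haveILetI false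

namespace Cfsg.Agent.H23.TateAux

open scoped commutatorElement IsMulCommutative

universe u

variable {G : Type u} [Group G] [Finite G] {p : ℕ} [hp : Fact p.Prime]
variable (P : Sylow p G) (K : Subgroup G) [hKn : K.Normal]

/-- `P ∩ K` as a subgroup of `P`. -/
def tQ : Subgroup (P : Subgroup G) := K.subgroupOf (P : Subgroup G)

instance tQ_normal : (tQ P K).Normal := by
  unfold tQ
  infer_instance

/-- `[P ∩ K, P]`. -/
def tQ0 : Subgroup (P : Subgroup G) := ⁅tQ P K, (⊤ : Subgroup (P : Subgroup G))⁆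

instance tQ0_normal : (tQ0 P K).Normal := by
  unfold tQ0
  exact Subgroup.commutator_normal _ _

/-- The central extension `P/[P ∩ K, P]`. -/
abbrev tE := (P : Subgroup G) ⧸ tQ0 P K

/-- The natural map. -/
abbrev tNat : (P : Subgroup G) →* tE P K := QuotientGroup.mk' (tQ0 P K)

theorem nat_central (q : (P : Subgroup G)) (hq : (q : G) ∈ K) : tNat P K q ∈ Subgroup.center (tE P K) := by
  rw [Subgroup.mem_center_iff]
  intro e
  obtain ⟨x, rfl⟩ := QuotientGroup.mk'_surjective (tQ0 P K) e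
  have h : ⁅q, x⁆ ∈ tQ0 P K := Subgroup.commutator_mem_commutator (by
    rw [tQ, Subgroup.mem_subgroupOf]; exact hq) (Subgroup.mem_top _)
  have h2 : tNat P K ⁅q, x⁆ = 1 := (QuotientGroup.eq_one_iff _).2 h
  simp only [commutatorElement_def, map_mul, map_inv] at h2
  have h3 : tNat P K q * tNat P K x = tNat P K x * tNat P K q := by
    calc tNat P K q * tNat P K x
        = (tNat P K q * tNat P K x * (tNat P K q)⁻¹ * (tNat P K x)⁻¹) * (tNat P K x * tNat P K q) := by group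
      _ = tNat P K x * tNat P K q := by rw [h2, one_mul]
  exact h3.symm

/-- The pull-back extension of `PK`. -/
def tHat : Subgroup (G × tE P K) where
  carrier := {y | ∃ x : (P : Subgroup G), ∃ k ∈ K, y.1 = (x : G) * k ∧ y.2 = tNat P K x}
  one_mem' := ⟨1, 1, K.one_mem, by simp, by simp⟩
  mul_mem' := by
    rintro y y' ⟨x, k, hk, h1, h2⟩ ⟨x', k', hk', h1', h2'⟩
    refine ⟨x * x', (x' : G)⁻¹ * k * x' * k', K.mul_mem ?_ hk', ?_, ?_⟩
    · have := hKn.conj_mem k hk (x' : G)⁻¹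
      simpa using this
    · simp only [Prod.fst_mul, h1, h1', Subgroup.coe_mul]
      group
    · simp only [Prod.snd_mul, h2, h2', map_mul]
  inv_mem' := by
    rintro y ⟨x, k, hk, h1, h2⟩
    refine ⟨x⁻¹, (x : G) * k⁻¹ * (x : G)⁻¹, hKn.conj_mem _ (K.inv_mem hk) _, ?_, ?_⟩
    · simp only [Prod.fst_inv, h1, Subgroup.coe_inv]
      group
    · simp only [Prod.snd_inv, h2, map_inv]

/-- The part of the extension above `P`. -/
def tH : Subgroup (tHat P K) :=
  (P : Subgroup G).comap ((MonoidHom.fst G (tE P K)).comp (tHat P K).subtype)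

theorem phi_central (y : tH P K) :
    y.1.1.2 * (tNat P K ⟨y.1.1.1, y.2⟩)⁻¹ ∈ Subgroup.center (tE P K) := by
  obtain ⟨x, k, hk, h1, h2⟩ := y.1.2
  have hy : y.1.1.1 ∈ (P : Subgroup G) := y.2
  have hkP : k ∈ (P : Subgroup G) := by
    have : k = (x : G)⁻¹ * y.1.1.1 := by rw [h1]; group
    rw [this]
    exact (P : Subgroup G).mul_mem ((P : Subgroup G).inv_mem x.2) hy
  have hc := nat_central P K ⟨k, hkP⟩ hk
  have hc' := Subgroup.inv_mem _ hc
  have hg : (⟨y.1.1.1, y.2⟩ : (P : Subgroup G)) = x * ⟨k, hkP⟩ := Subtype.ext h1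
  rw [hg, h2, map_mul, mul_inv_rev]
  have h3 : tNat P K x * ((tNat P K ⟨k, hkP⟩)⁻¹ * (tNat P K x)⁻¹) = (tNat P K ⟨k, hkP⟩)⁻¹ := by
    rw [← mul_assoc, (Subgroup.mem_center_iff.1 hc' (tNat P K x)), mul_assoc, mul_inv_cancel, mul_one]
  rw [h3]
  exact hc'

/-- The homomorphism to be transferred. -/
noncomputable def tPhi : tH P K →* Subgroup.center (tE P K) :=
  MonoidHom.mk' (fun y => ⟨y.1.1.2 * (tNat P K ⟨y.1.1.1, y.2⟩)⁻¹, phi_central P K y⟩) (by
    intro a b
    apply Subtype.ext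
    change a.1.1.2 * b.1.1.2 * (tNat P K (⟨a.1.1.1, a.2⟩ * ⟨b.1.1.1, b.2⟩))⁻¹ =
      a.1.1.2 * (tNat P K ⟨a.1.1.1, a.2⟩)⁻¹ * (b.1.1.2 * (tNat P K ⟨b.1.1.1, b.2⟩)⁻¹)
    rw [map_mul, mul_inv_rev]
    have hc := phi_central P K b
    have h2 := Subgroup.mem_center_iff.1 hc (tNat P K ⟨a.1.1.1, a.2⟩)⁻¹
    calc a.1.1.2 * b.1.1.2 * ((tNat P K ⟨b.1.1.1, b.2⟩)⁻¹ * (tNat P K ⟨a.1.1.1, a.2⟩)⁻¹)
        = a.1.1.2 * ((b.1.1.2 * (tNat P K ⟨b.1.1.1, b.2⟩)⁻¹) * (tNat P K ⟨a.1.1.1, a.2⟩)⁻¹) := by group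
      _ = a.1.1.2 * ((tNat P K ⟨a.1.1.1, a.2⟩)⁻¹ * (b.1.1.2 * (tNat P K ⟨b.1.1.1, b.2⟩)⁻¹)) := by
          rw [h2]
      _ = _ := by group)

/-- The transfer. -/
noncomputable def tTau : tHat P K →* Subgroup.center (tE P K) :=
  MonoidHom.transfer (A := Subgroup.center (tE P K)) (tPhi P K)

/-- The central element attached to `q ∈ P ∩ K`. -/
def tG (q : (P : Subgroup G)) (hq : (q : G) ∈ K) : tHat P K :=
  ⟨(1, tNat P K q), ⟨q, (q : G)⁻¹, K.inv_mem hq, by simp, rfl⟩⟩

/-- The element `(x, x̄)` attached to `x ∈ P`. -/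
def tS : (P : Subgroup G) →* tHat P K where
  toFun x := ⟨((x : G), tNat P K x), ⟨x, 1, K.one_mem, by simp, rfl⟩⟩
  map_one' := by
    apply Subtype.ext
    simp
  map_mul' := by
    intro a b
    apply Subtype.ext
    simp

/-- The element `(k, 1)` attached to `k ∈ K`. -/
def tK : K →* tHat P K where
  toFun k := ⟨((k : G), 1), ⟨1, k, k.2, by simp, by simp⟩⟩
  map_one' := by
    apply Subtype.ext
    simp
  map_mul' := by
    intro a b
    apply Subtype.ext
    simp

theorem index_not_dvd : ¬ p ∣ (tH P K).index := by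
  intro h
  apply P.not_dvd_index
  have hle : (P : Subgroup G) ≤ ((MonoidHom.fst G (tE P K)).comp (tHat P K).subtype).range := by
    intro x hx
    exact ⟨tS P K ⟨x, hx⟩, rfl⟩
  have h1 : (tH P K).index = (P : Subgroup G).relIndex ((MonoidHom.fst G (tE P K)).comp (tHat P K).subtype).range :=
    Subgroup.index_comap _ _
  rw [h1] at h
  rw [← Subgroup.relIndex_mul_index hle]
  exact Dvd.dvd.mul_right h _

theorem tPhi_of_fst_one (y : tH P K) (h : y.1.1.1 = 1) :
    ((tPhi P K y : Subgroup.center (tE P K)) : tE P K) = y.1.1.2 := by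
  change y.1.1.2 * (tNat P K ⟨y.1.1.1, y.2⟩)⁻¹ = _
  have h1 : (⟨y.1.1.1, y.2⟩ : (P : Subgroup G)) = 1 := Subtype.ext h
  rw [h1, map_one, inv_one, mul_one]

theorem tau_tG (q : (P : Subgroup G)) (hq : (q : G) ∈ K) :
    ((tTau P K (tG P K q hq) : Subgroup.center (tE P K)) : tE P K) = (tNat P K q) ^ (tH P K).index := by
  have hcomm : ∀ a : tHat P K, Commute (tG P K q hq) a := by
    intro a
    apply Subtype.ext
    apply Prod.ext
    · simp [tG]
    · simp only [tG, Subgroup.coe_mul, Prod.snd_mul]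
      exact (Subgroup.mem_center_iff.1 (nat_central P K q hq) a.1.2).symm
  have key : ∀ (k : ℕ) (g₀ : tHat P K),
      g₀⁻¹ * (tG P K q hq) ^ k * g₀ ∈ tH P K → g₀⁻¹ * (tG P K q hq) ^ k * g₀ = (tG P K q hq) ^ k := by
    intro k g₀ _
    have := ((hcomm g₀).pow_left k).eq
    rw [mul_assoc, this]
    group
  unfold tTau
  rw [MonoidHom.transfer_eq_pow _ _ key, tPhi_of_fst_one]
  · simp [tG]
  · simp [tG]

theorem tQ_le_tQ0 (hK : ∀ (A : Type u) [CommGroup A], IsPGroup p A → ∀ (f : K →* A) (k : K), f k = 1)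
    (hQ : ∀ q : (P : Subgroup G), (q : G) ∈ K → q ∈ commutator (P : Subgroup G)) : tQ P K ≤ tQ0 P K := by
  intro q hq'
  have hq : (q : G) ∈ K := by
    rw [tQ, Subgroup.mem_subgroupOf] at hq'
    exact hq'
  have hEp : IsPGroup p (tE P K) := IsPGroup.to_quotient P.isPGroup' _
  have hCp : IsPGroup p (Subgroup.center (tE P K)) := IsPGroup.to_subgroup hEp _
  -- the `K`-component is trivial
  have h1 : tTau P K (tK P K ⟨q, hq⟩) = 1 := hK (Subgroup.center (tE P K)) hCp ((tTau P K).comp (tK P K)) ⟨q, hq⟩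
  -- the decomposition
  have h2 : tS P K q = tK P K ⟨q, hq⟩ * tG P K q hq := by
    apply Subtype.ext
    apply Prod.ext
    · simp [tS, tK, tG]
    · simp [tS, tK, tG]
  -- the `P`-part kills commutators
  have h3 : tTau P K (tS P K q) = 1 := by
    have hc : commutator (P : Subgroup G) ≤ ((tTau P K).comp (tS P K)).ker := by
      rw [commutator_def, Subgroup.commutator_le]
      intro a _ b _
      rw [MonoidHom.mem_ker, commutatorElement_def]
      simp only [map_mul, map_inv, MonoidHom.comp_apply]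
      rw [mul_comm (tTau P K (tS P K a)) (tTau P K (tS P K b))]
      group
    exact hc (hQ q hq)
  rw [h2, map_mul, h1, one_mul] at h3
  have h4 : (tNat P K q) ^ (tH P K).index = 1 := by
    rw [← tau_tG P K q hq, h3]
    rfl
  obtain ⟨k, hk⟩ := hEp (tNat P K q)
  have hcop : Nat.Coprime (p ^ k) (tH P K).index :=
    Nat.Coprime.pow_left _ ((Nat.Prime.coprime_iff_not_dvd hp.out).2 (index_not_dvd P K))
  have h5 : tNat P K q = 1 := by
    have h6 : orderOf (tNat P K q) ∣ Nat.gcd (p ^ k) (tH P K).index :=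
      Nat.dvd_gcd (orderOf_dvd_of_pow_eq_one hk) (orderOf_dvd_of_pow_eq_one h4)
    rw [hcop] at h6
    exact orderOf_eq_one_iff.1 (Nat.dvd_one.1 h6)
  exact (QuotientGroup.eq_one_iff _).1 h5

end Cfsg.Agent.H23.TateAux

namespace Cfsg.Agent.H23

open TateAux

universe u

variable {G : Type u} [Group G] [Finite G] {p : ℕ} [hp : Fact p.Prime]

/-- **Tate's theorem**, core form. -/
theorem tate_core (P : Sylow p G) (K : Subgroup G) [hKn : K.Normal]
    (hK : ∀ (A : Type u) [CommGroup A], IsPGroup p A → ∀ (f : K →* A) (k : K), f k = 1)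
    (hQ : ∀ q : (P : Subgroup G), (q : G) ∈ K → q ∈ commutator (P : Subgroup G)) :
    (P : Subgroup G) ⊓ K = ⊥ := by
  have h1 := tQ_le_tQ0 P K hK hQ
  have hnil : Group.IsNilpotent (P : Subgroup G) := P.isPGroup'.isNilpotent
  obtain ⟨n, hn⟩ := Subgroup.nilpotent_iff_lowerCentralSeries.1 hnil
  have h2 : ∀ m, tQ P K ≤ (⊤ : Subgroup (P : Subgroup G)).lowerCentralSeries m := by
    intro m
    induction m with
    | zero => simp
    | succ m ih =>
      refine h1.trans ?_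
      exact Subgroup.commutator_mono ih le_rfl
  have h3 : tQ P K = ⊥ := by
    have := h2 n
    rw [hn] at this
    exact le_bot_iff.1 this
  rw [eq_bot_iff]
  rintro x ⟨hxP, hxK⟩
  have h4 : (⟨x, hxP⟩ : (P : Subgroup G)) ∈ tQ P K := by
    rw [tQ, Subgroup.mem_subgroupOf]
    exact hxK
  rw [h3, Subgroup.mem_bot] at h4
  exact Subgroup.mem_bot.2 (congrArg Subtype.val h4)

/-- The subgroup of a normal subgroup generated by its `p`-regular elements. -/
def oPrimeSub (p : ℕ) (M : Subgroup G) : Subgroup G :=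
  Subgroup.closure {g | g ∈ M ∧ ¬ p ∣ orderOf g}

theorem oPrimeSub_le (M : Subgroup G) : oPrimeSub p M ≤ M := by
  rw [oPrimeSub, Subgroup.closure_le]
  rintro g ⟨hg, -⟩
  exact hg

theorem oPrimeSub_normal (M : Subgroup G) (hM : M.Normal) : (oPrimeSub p M).Normal := by
  refine ⟨fun n hn g => ?_⟩
  induction hn using Subgroup.closure_induction with
  | mem x hx =>
    refine Subgroup.subset_closure ⟨hM.conj_mem x hx.1 g, ?_⟩
    have h1 : orderOf (g * x * g⁻¹) = orderOf x := by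
      have : g * x * g⁻¹ = MulAut.conj g x := rfl
      rw [this, MulEquiv.orderOf_eq]
    rw [h1]
    exact hx.2
  | one => simp
  | mul x y _ _ hx hy =>
    have : g * (x * y) * g⁻¹ = (g * x * g⁻¹) * (g * y * g⁻¹) := by group
    rw [this]
    exact Subgroup.mul_mem _ hx hy
  | inv x _ hx =>
    have : g * x⁻¹ * g⁻¹ = (g * x * g⁻¹)⁻¹ := by group
    rw [this]
    exact Subgroup.inv_mem _ hx

theorem eq_one_of_pGroup_of_coprime {A : Type*} [Group A] (hA : IsPGroup p A) (a : A) {m : ℕ}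
    (hm : a ^ m = 1) (hpm : ¬ p ∣ m) : a = 1 := by
  obtain ⟨k, hk⟩ := hA a
  have hcop : Nat.Coprime (p ^ k) m :=
    Nat.Coprime.pow_left _ ((Nat.Prime.coprime_iff_not_dvd hp.out).2 hpm)
  have h6 : orderOf a ∣ Nat.gcd (p ^ k) m :=
    Nat.dvd_gcd (orderOf_dvd_of_pow_eq_one hk) (orderOf_dvd_of_pow_eq_one hm)
  rw [hcop] at h6
  exact orderOf_eq_one_iff.1 (Nat.dvd_one.1 h6)

/-- Homomorphisms from `O^p(M)` to `p`-groups are trivial. -/
theorem oPrimeSub_hom_trivial (M : Subgroup G) (A : Type u) [CommGroup A] (hA : IsPGroup p A)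
    (f : oPrimeSub p M →* A) (k : oPrimeSub p M) : f k = 1 := by
  obtain ⟨k, hk⟩ := k
  have : ∃ h : k ∈ oPrimeSub p M, f ⟨k, h⟩ = 1 := by
    induction hk using Subgroup.closure_induction with
    | mem x hx =>
      refine ⟨Subgroup.subset_closure hx, ?_⟩
      refine eq_one_of_pGroup_of_coprime hA _ (m := orderOf x) ?_ hx.2
      rw [← map_pow]
      have : (⟨x, Subgroup.subset_closure hx⟩ : oPrimeSub p M) ^ orderOf x = 1 :=
        Subtype.ext (by simp [pow_orderOf_eq_one])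
      rw [this, map_one]
    | one => exact ⟨Subgroup.one_mem _, map_one f⟩
    | mul x y _ _ hx hy =>
      obtain ⟨h1, h2⟩ := hx
      obtain ⟨h3, h4⟩ := hy
      refine ⟨Subgroup.mul_mem _ h1 h3, ?_⟩
      have : (⟨x * y, Subgroup.mul_mem _ h1 h3⟩ : oPrimeSub p M) = ⟨x, h1⟩ * ⟨y, h3⟩ := rfl
      rw [this, map_mul, h2, h4, one_mul]
    | inv x _ hx =>
      obtain ⟨h1, h2⟩ := hx
      refine ⟨Subgroup.inv_mem _ h1, ?_⟩
      have : (⟨x⁻¹, Subgroup.inv_mem _ h1⟩ : oPrimeSub p M) = (⟨x, h1⟩)⁻¹ := rfl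
      rw [this, map_inv, h2, inv_one]
  exact this.2

theorem not_dvd_card_of_inf_eq_bot (P : Sylow p G) (R : Subgroup G) (hRn : R.Normal)
    (h : (P : Subgroup G) ⊓ R = ⊥) : ¬ p ∣ Nat.card R := by
  intro hdvd
  obtain ⟨r, hr⟩ := exists_prime_orderOf_dvd_card' p hdvd
  have hr' : orderOf (r : G) = p := by
    rw [Subgroup.orderOf_coe, hr]
  have hz : IsPGroup p (Subgroup.zpowers (r : G)) := by
    rw [IsPGroup.iff_card, Nat.card_zpowers, hr']
    exact ⟨1, (pow_one p).symm⟩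
  obtain ⟨Q, hQ⟩ := hz.exists_le_sylow
  obtain ⟨g, hg⟩ := MulAction.exists_smul_eq G P Q
  have hmem : (r : G) ∈ (Q : Subgroup G) := hQ (Subgroup.mem_zpowers _)
  rw [← hg, Sylow.coe_subgroup_smul, Subgroup.mem_pointwise_smul_iff_inv_smul_mem, MulAut.smul_def,
    MulAut.conj_inv_apply] at hmem
  have h1 : g⁻¹ * (r : G) * g ∈ (P : Subgroup G) ⊓ R := by
    refine ⟨hmem, ?_⟩
    have := hRn.conj_mem r r.2 g⁻¹
    simpa using this
  rw [h, Subgroup.mem_bot] at h1
  have h2 : (r : G) = 1 := by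
    have : (r : G) = g * (g⁻¹ * (r : G) * g) * g⁻¹ := by group
    rw [this, h1]
    group
  rw [h2, orderOf_one] at hr'
  exact hp.out.one_lt.ne hr'

/-- **Tate's theorem**. If `M ⊴ G` and `P ∩ M ≤ P'` then `M` has a normal `p`-complement `R`,
normal in `G`. -/
theorem tate_normal (P : Sylow p G) (M : Subgroup G) (hM : M.Normal)
    (hQ : ∀ q : (P : Subgroup G), (q : G) ∈ M → q ∈ commutator (P : Subgroup G)) :
    ∃ R : Subgroup G, R.Normal ∧ R ≤ M ∧ ¬ p ∣ Nat.card R ∧ (P : Subgroup G) ⊓ R = ⊥ ∧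
      M ≤ R ⊔ (P : Subgroup G) := by
  have hRn := oPrimeSub_normal (p := p) M hM
  have hRM := oPrimeSub_le (p := p) M
  have h1 : (P : Subgroup G) ⊓ oPrimeSub p M = ⊥ := by
    haveI := hRn
    refine tate_core P _ ?_ fun q hq => hQ q (hRM hq)
    intro A _ hA f k
    exact oPrimeSub_hom_trivial M A hA f k
  refine ⟨oPrimeSub p M, hRn, hRM, not_dvd_card_of_inf_eq_bot P _ hRn h1, h1, ?_⟩
  haveI := hRn
  let π := QuotientGroup.mk' (oPrimeSub p M)
  have hπ : Function.Surjective π := QuotientGroup.mk'_surjective _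
  have hMp : IsPGroup p (M.map π) := by
    rintro ⟨x, m, hm, rfl⟩
    obtain ⟨a, b, hb, hab⟩ := Nat.exists_eq_pow_mul_and_not_dvd (n := orderOf m)
      (orderOf_pos m).ne' p hp.out.ne_one
    refine ⟨a, Subtype.ext ?_⟩
    simp only [SubmonoidClass.coe_pow, OneMemClass.coe_one]
    rw [← map_pow]
    apply (QuotientGroup.eq_one_iff _).2
    refine Subgroup.subset_closure ⟨M.pow_mem hm _, ?_⟩
    have h2 : orderOf (m ^ (p ^ a)) = b := by
      rw [orderOf_pow_of_dvd (pow_ne_zero _ hp.out.ne_zero) (by rw [hab]; exact Dvd.intro _ rfl), hab]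
      exact Nat.mul_div_cancel_left _ (pow_pos hp.out.pos _)
    rw [h2]
    exact hb
  haveI hMn : (M.map π).Normal := hM.map π hπ
  let Pb : Sylow p (G ⧸ oPrimeSub p M) := P.mapSurjective hπ
  have hPb : (Pb : Subgroup (G ⧸ oPrimeSub p M)) = (P : Subgroup G).map π := rfl
  have hsup := hMp.to_sup_of_normal_left Pb.isPGroup'
  have hmax := Pb.is_maximal' hsup le_sup_right
  intro m hm
  have hm1 : π m ∈ (Pb : Subgroup (G ⧸ oPrimeSub p M)) := by
    rw [← hmax]
    exact Subgroup.mem_sup_left (Subgroup.mem_map_of_mem _ hm)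
  rw [hPb] at hm1
  obtain ⟨x, hx, hxm⟩ := Subgroup.mem_map.1 hm1
  have h2 : x⁻¹ * m ∈ oPrimeSub p M := by
    apply (QuotientGroup.eq_one_iff _).1
    change π (x⁻¹ * m) = 1
    rw [map_mul, map_inv, hxm, inv_mul_cancel]
  have h3 : m = x * (x⁻¹ * m) := by group
  rw [h3]
  exact Subgroup.mul_mem _ (Subgroup.mem_sup_right hx) (Subgroup.mem_sup_left h2)

end Cfsg.Agent.H23
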