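import Cfsg.Agent.Lib.H04.Cliff.Extend
import Cfsg.Agent.Lib.H23.LinInd
import Cfsg.Agent.Lib.H23.RealOver

set_option autoImplicit false
set_option linter.style.haveILetI false
set_option linter.unusedSectionVars false

namespace Cfsg.Agent.H23

open Cfsg Cfsg.Agent Cfsg.Agent.H21 Cfsg.Agent.H06
open scoped ComplexConjugate

universe u

section Ext

/-- An invariant irreducible character extends across a cyclic quotient. -/
theorem ext_char_of_cyclic {G : Type u} [Group G] [Finite G] (N : Subgroup G) [hN : N.Normal]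
    (hcyc : IsCyclic (G ⧸ N)) (θ : IrrCharacter N)
    (hinv : ∀ (g : G) (n : N), θ.1 ⟨g * n * g⁻¹, hN.conj_mem (n : G) n.2 g⟩ = θ.1 n) :
    ∃ η : IrrCharacter G, ∀ n : N, η.1 n = θ.1 n := by
  obtain ⟨θ', m, ρ, hρ, rfl⟩ := θ
  obtain ⟨τ, hτ, hτρ⟩ := H04.Cliff.extends_of_cyclic hρ
    (H04.Cliff.inv_of_char rfl hinv) hcyc
  refine ⟨⟨τ.character, m, τ, hτ, rfl⟩, fun n => ?_⟩
  show LinearMap.trace ℂ _ (τ (n : G)) = LinearMap.trace ℂ _ (ρ n)
  rw [hτρ n]

end Ext

section Sub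

/-- A sum over a group of a function supported on a subgroup. -/
theorem sum_eq_sum_sub {G : Type*} [Group G] [Fintype G] (N : Subgroup G) [Fintype N] {M : Type*}
    [AddCommMonoid M] (F : G → M) (hF : ∀ g, g ∉ N → F g = 0) :
    ∑ g : G, F g = ∑ n : N, F n := by
  classical
  have h1 : ∑ g : G, F g = ∑ g ∈ Finset.univ.filter (· ∈ N), F g := by
    symm
    apply Finset.sum_subset (Finset.subset_univ _)
    intro g _ hg
    apply hF
    simpa using hg
  rw [h1]
  exact Finset.sum_subtype _ (by simp) F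

end Sub

section Ram

variable {H : Type u} [Group H] [Fintype H] (Z : Subgroup H) [hZ : Z.Normal] [Fintype Z]
variable [Fintype (IrrCharacter H)]

/-- A fully ramified character vanishes off the normal subgroup. -/
theorem fr_vanish (χ : IrrCharacter H) (θ : IrrCharacter Z) (e : ℕ) (he : e ^ 2 = Z.index)
    (hχ : ∀ z : Z, χ.1 z = (e : ℂ) * θ.1 z) (g : H) (hg : g ∉ Z) : χ.1 g = 0 := by
  classical
  have hHne : (Nat.card H : ℂ) ≠ 0 := by exact_mod_cast Nat.card_pos.ne'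
  have hZne : (Nat.card Z : ℂ) ≠ 0 := by exact_mod_cast Nat.card_pos.ne'
  haveI : Fintype (IrrCharacter Z) := Fintype.ofFinite _
  have h1 : classInner χ.1 χ.1 = 1 := by simpa using classInner_irr χ χ
  have h2 : classInner θ.1 θ.1 = 1 := by simpa using classInner_irr θ θ
  have h3 : ∑ x : H, χ.1 x * conj (χ.1 x) = (Nat.card H : ℂ) := by
    rw [classInner] at h1
    field_simp at h1
    exact h1
  have h4 : ∑ x : Z, θ.1 x * conj (θ.1 x) = (Nat.card Z : ℂ) := by
    rw [classInner] at h2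
    field_simp at h2
    exact h2
  have hcard : (e : ℂ) * e * (Nat.card Z : ℂ) = (Nat.card H : ℂ) := by
    have : Z.index * Nat.card Z = Nat.card H := Subgroup.index_mul_card Z
    rw [← he] at this
    rw [← this]
    push_cast
    ring
  have h5 : ∑ z : Z, χ.1 z * conj (χ.1 z) = (Nat.card H : ℂ) := by
    simp only [hχ, map_mul, Complex.conj_natCast]
    rw [← hcard, ← h4, Finset.mul_sum]
    refine Finset.sum_congr rfl fun z _ => ?_
    ring
  -- real version
  have h6 : ∀ x : H, χ.1 x * conj (χ.1 x) = ((‖χ.1 x‖ ^ 2 : ℝ) : ℂ) := by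
    intro x
    rw [Complex.mul_conj']
    push_cast
    rfl
  let F : H → ℝ := fun x => if x ∈ Z then ‖χ.1 x‖ ^ 2 else 0
  have h7 : ∑ x : H, F x = ∑ z : Z, ‖χ.1 z‖ ^ 2 := by
    rw [sum_eq_sum_subgroup Z F (fun x hx => if_neg hx)]
    refine Finset.sum_congr rfl fun z _ => ?_
    exact if_pos z.2
  have h8 : ((∑ x : H, ‖χ.1 x‖ ^ 2 : ℝ) : ℂ) = (Nat.card H : ℂ) := by
    rw [← h3]
    push_cast
    refine Finset.sum_congr rfl fun x _ => ?_
    rw [h6]
    push_cast
    rfl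
  have h9 : ((∑ z : Z, ‖χ.1 z‖ ^ 2 : ℝ) : ℂ) = (Nat.card H : ℂ) := by
    rw [← h5]
    push_cast
    refine Finset.sum_congr rfl fun x _ => ?_
    rw [h6]
    push_cast
    rfl
  have h10 : (∑ x : H, ‖χ.1 x‖ ^ 2 : ℝ) = ∑ x : H, F x := by
    rw [h7]
    exact_mod_cast h8.trans h9.symm
  have h11 : ∑ x : H, (‖χ.1 x‖ ^ 2 - F x) = 0 := by
    rw [Finset.sum_sub_distrib, h10, sub_self]
  have h12 := (Finset.sum_eq_zero_iff_of_nonneg (fun x _ => by
    simp only [F]
    split_ifs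
    · simp
    · simp only [sub_zero]; positivity)).mp h11 g (Finset.mem_univ _)
  simp only [F, if_neg hg, sub_zero] at h12
  have h13 : ‖χ.1 g‖ = 0 := by
    exact pow_eq_zero_iff (two_ne_zero) |>.mp h12
  exact norm_eq_zero.mp h13

/-- The other irreducible characters do not lie over `θ`. -/
theorem fr_orth (χ : IrrCharacter H) (θ : IrrCharacter Z) (e : ℕ) (he : e ^ 2 = Z.index)
    (hχ : ∀ z : Z, χ.1 z = (e : ℂ) * θ.1 z) (ψ : IrrCharacter H) (hψ : ψ ≠ χ) :
    ∑ z : Z, θ.1 z * conj (ψ.1 z) = 0 := by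
  classical
  have hHne : (Nat.card H : ℂ) ≠ 0 := by exact_mod_cast Nat.card_pos.ne'
  have he0 : (e : ℂ) ≠ 0 := by
    have h1 : e ≠ 0 := by
      rintro rfl
      have h2 := Subgroup.index_ne_zero_of_finite (H := Z)
      apply h2
      rw [← he]
      simp
    exact_mod_cast h1
  have h1 : classInner χ.1 ψ.1 = 0 := by
    rw [classInner_irr, if_neg (Ne.symm hψ)]
  rw [classInner] at h1
  have h2 := (mul_eq_zero.mp h1).resolve_left (inv_ne_zero hHne)
  rw [sum_eq_sum_subgroup Z _ (fun x hx => by rw [fr_vanish Z χ θ e he hχ x hx, zero_mul])] at h2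
  simp only [hχ, mul_assoc] at h2
  rw [← Finset.mul_sum] at h2
  exact (mul_eq_zero.mp h2).resolve_left he0

theorem fr_inv (χ : IrrCharacter H) (θ : IrrCharacter Z) (e : ℕ) (he : e ^ 2 = Z.index)
    (hχ : ∀ z : Z, χ.1 z = (e : ℂ) * θ.1 z) (g : H) (n : Z) :
    θ.1 ⟨g * n * g⁻¹, hZ.conj_mem (n : H) n.2 g⟩ = θ.1 n := by
  have he0 : (e : ℂ) ≠ 0 := by
    have h1 : e ≠ 0 := by
      rintro rfl
      have h2 := Subgroup.index_ne_zero_of_finite (H := Z)
      apply h2
      rw [← he]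
      simp
    exact_mod_cast h1
  have h1 := hχ ⟨g * n * g⁻¹, hZ.conj_mem (n : H) n.2 g⟩
  have h2 := hχ n
  have h3 := isClassFunction_of_isCharacter (isCharacter_of_irr χ.2) (n : H) g
  have h4 : χ.1 (g * n * g⁻¹) = χ.1 n := h3
  simp only at h1
  rw [h4, h2] at h1
  exact (mul_left_cancel₀ he0 h1).symm

/-- A fully ramified section has no self-centralizing cyclic subgroup. -/
theorem fr_no_self_centralizing (χ : IrrCharacter H) (θ : IrrCharacter Z) (e : ℕ)
    (he : e ^ 2 = Z.index) (hχ : ∀ z : Z, χ.1 z = (e : ℂ) * θ.1 z) (hZtop : Z ≠ ⊤)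
    (C : Subgroup (H ⧸ Z)) (hC : IsCyclic C) (hcent : Subgroup.centralizer (C : Set (H ⧸ Z)) = C) :
    False := by
  classical
  obtain ⟨g₀, hg₀⟩ := hC.exists_zpow_surjective
  set c₀ : H ⧸ Z := (g₀ : H ⧸ Z) with hc₀def
  have hc₀ : ∀ c ∈ C, ∃ k : ℤ, c = c₀ ^ k := by
    intro c hc
    obtain ⟨k, hk⟩ := hg₀ ⟨c, hc⟩
    refine ⟨k, ?_⟩
    have := congrArg Subtype.val hk
    simpa [hc₀def] using this.symm
  have hc₀C : c₀ ∈ C := g₀.2
  have hCcomm : ∀ c ∈ C, c * c₀ = c₀ * c := by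
    intro c hc
    obtain ⟨k, rfl⟩ := hc₀ c hc
    exact (Commute.refl c₀).zpow_left k
  have hne1 : c₀ ≠ 1 := by
    intro h1
    have hbot : C = ⊥ := by
      rw [eq_bot_iff]
      intro c hc
      obtain ⟨k, rfl⟩ := hc₀ c hc
      rw [h1, one_zpow]
      exact Subgroup.one_mem _
    rw [hbot] at hcent
    apply hZtop
    rw [eq_top_iff]
    intro g _
    have h2 : (g : H ⧸ Z) ∈ Subgroup.centralizer ((⊥ : Subgroup (H ⧸ Z)) : Set (H ⧸ Z)) := by
      rw [Subgroup.mem_centralizer_iff]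
      intro h hh
      have : h = 1 := by simpa using hh
      rw [this, one_mul, mul_one]
    rw [hcent] at h2
    have h3 : (g : H ⧸ Z) = 1 := by simpa using h2
    exact (QuotientGroup.eq_one_iff g).mp h3
  obtain ⟨x, hx⟩ : ∃ x : H, (x : H ⧸ Z) = c₀ := QuotientGroup.mk_surjective c₀
  let D : Subgroup H := C.comap (QuotientGroup.mk' Z)
  have hmemD : ∀ g : H, g ∈ D ↔ (g : H ⧸ Z) ∈ C := fun g => Iff.rfl
  have hZD : Z ≤ D := by
    intro z hz
    rw [hmemD, (QuotientGroup.eq_one_iff z).mpr hz]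
    exact C.one_mem
  have hxD : x ∈ D := by rw [hmemD, hx]; exact hc₀C
  haveI : Fintype D := Fintype.ofFinite _
  let Z' : Subgroup D := Z.subgroupOf D
  haveI hZ'n : Z'.Normal := Subgroup.normal_subgroupOf
  haveI : Fintype Z' := Fintype.ofFinite _
  haveI : Fintype (IrrCharacter Z') := Fintype.ofFinite _
  haveI : Fintype (IrrCharacter D) := Fintype.ofFinite _
  let φ : Z' ≃* Z := Subgroup.subgroupOfEquivOfLe hZD
  have hφ : ∀ n : Z', ((φ n : Z) : H) = ((n : D) : H) := fun n => rfl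
  let θ' : IrrCharacter Z' := ⟨θ.1 ∘ φ.toMonoidHom,
    isIrrCharacter_comp_of_surjective φ.toMonoidHom φ.surjective θ.2⟩
  have hinv' : ∀ (d : D) (n : Z'), θ'.1 ⟨d * n * d⁻¹, hZ'n.conj_mem (n : D) n.2 d⟩ = θ'.1 n := by
    intro d n
    show θ.1 (φ _) = θ.1 (φ n)
    have h1 : φ ⟨d * n * d⁻¹, hZ'n.conj_mem (n : D) n.2 d⟩ =
        ⟨(d : H) * (φ n : Z) * (d : H)⁻¹, hZ.conj_mem _ (φ n).2 _⟩ := Subtype.ext rfl
    rw [h1]
    exact fr_inv Z χ θ e he hχ (d : H) (φ n)
  have hcyc : IsCyclic (D ⧸ Z') := by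
    refine ⟨⟨((⟨x, hxD⟩ : D) : D ⧸ Z'), fun q => ?_⟩⟩
    obtain ⟨d, rfl⟩ := QuotientGroup.mk_surjective q
    obtain ⟨k, hk⟩ := hc₀ _ ((hmemD _).mp d.2)
    refine ⟨k, ?_⟩
    show ((⟨x, hxD⟩ : D) : D ⧸ Z') ^ k = (d : D ⧸ Z')
    rw [← QuotientGroup.mk_zpow, QuotientGroup.eq]
    have h2 : (((⟨x, hxD⟩ : D) ^ k)⁻¹ * d : D).1 = (x ^ k)⁻¹ * (d : H) := by
      simp
    show (((⟨x, hxD⟩ : D) ^ k)⁻¹ * d : D).1 ∈ Z
    rw [h2]
    apply QuotientGroup.eq.mp
    rw [QuotientGroup.mk_zpow, hx, hk]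
  obtain ⟨ξ, hξ⟩ := ext_char_of_cyclic Z' hcyc θ' hinv'
  have hres : classInner (fun n : Z' => ξ.1 n) (fun n : Z' => ξ.1 n) = 1 := by
    have h1 : (fun n : Z' => ξ.1 n) = θ'.1 := funext hξ
    rw [h1]
    simpa using classInner_irr θ' θ'
  -- the indicator of the coset
  let f : D → ℂ := fun d => if ((d : H) : H ⧸ Z) = c₀ then 1 else 0
  have hf : ∀ (n : Z') (d : D), f (n * d) = f d := by
    intro n d
    have h1 : (((n * d : D) : H) : H ⧸ Z) = ((d : H) : H ⧸ Z) := by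
      have h2 : (((n : D) : H) : H ⧸ Z) = 1 := (QuotientGroup.eq_one_iff _).mpr n.2
      show (((n : D) : H) * (d : H) : H) = ((d : H) : H ⧸ Z)
      rw [QuotientGroup.mk_mul, h2, one_mul]
    simp only [f, h1]
  let γ : D → ℂ := fun d => f d * ξ.1 d
  let Γ : H → ℂ := indFun D γ
  have hΓcl : IsClassFunction H Γ := indFun_isClass D γ
  have hΓψ : ∀ ψ : IrrCharacter H, ψ ≠ χ → classInner Γ ψ.1 = 0 := by
    intro ψ hψ
    show classInner (indFun D γ) ψ.1 = 0
    rw [frobenius_reciprocity D γ ψ.1 (isClassFunction_of_isCharacter (isCharacter_of_irr ψ.2))]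
    refine inner_mul_coset_zero Z' (isCharacter_of_irr ξ.2)
      (isCharacter_restrict D (isCharacter_of_irr ψ.2)) ?_ f hf
    have h1 := fr_orth Z χ θ e he hχ ψ hψ
    rw [classInner]
    have h2 : ∑ n : Z', ξ.1 n * conj (ψ.1 ((n : D) : H)) = ∑ z : Z, θ.1 z * conj (ψ.1 z) := by
      refine Fintype.sum_equiv φ.toEquiv _ _ fun n => ?_
      rw [hξ]
      rfl
    rw [h2, h1, mul_zero]
  have hΓ : ∀ g : H, Γ g = classInner Γ χ.1 * χ.1 g := by
    intro g
    have h1 := congrFun (classFunction_expansion Γ hΓcl) g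
    simp only [Finset.sum_apply, Pi.smul_apply, smul_eq_mul] at h1
    rw [h1, Finset.sum_eq_single χ]
    · intro ψ _ hψ
      rw [hΓψ ψ hψ, zero_mul]
    · intro h
      exact absurd (Finset.mem_univ _) h
  have hDne : (Nat.card D : ℂ) ≠ 0 := by exact_mod_cast Nat.card_pos.ne'
  -- evaluation on the coset
  have hval : ∀ y : D, ((y : H) : H ⧸ Z) = c₀ → Γ y = ξ.1 y := by
    intro y hy
    show indFun D γ (y : H) = _
    unfold indFun
    rw [sum_eq_sum_sub D]
    · have h1 : ∀ h : D, extendByZero D γ ((h : H)⁻¹ * y * h) = ξ.1 y := by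
        intro h
        have h2 : ((h : H)⁻¹ * y * h) = ((h⁻¹ * y * h : D) : H) := rfl
        rw [h2, extendByZero_coe]
        have h3 : f (h⁻¹ * y * h) = 1 := by
          have h4 : (((h⁻¹ * y * h : D) : H) : H ⧸ Z) = c₀ := by
            show (((h : H)⁻¹ * y * h : H) : H ⧸ Z) = c₀
            rw [QuotientGroup.mk_mul, QuotientGroup.mk_mul, QuotientGroup.mk_inv, hy]
            have h5 := hCcomm _ ((hmemD _).mp h.2)
            rw [mul_assoc, ← h5]
            group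
          exact if_pos h4
        show f _ * ξ.1 _ = _
        rw [h3, one_mul]
        have h6 := isClassFunction_of_isCharacter (isCharacter_of_irr ξ.2) y h⁻¹
        rw [inv_inv] at h6
        exact h6
      simp only [h1, Finset.sum_const, Finset.card_univ, nsmul_eq_mul]
      rw [← Nat.card_eq_fintype_card, inv_mul_cancel_left₀ hDne]
    · intro h hh
      by_cases hyD : (h⁻¹ * y * h) ∈ D
      · have h2 : (h⁻¹ * y * h) = ((⟨_, hyD⟩ : D) : H) := rfl
        rw [h2, extendByZero_coe]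
        have h3 : f ⟨_, hyD⟩ = 0 := by
          refine if_neg fun h4 => hh ?_
          have h5 : (h⁻¹ * y * h : H) = ((⟨_, hyD⟩ : D) : H) := rfl
          rw [← h5, QuotientGroup.mk_mul, QuotientGroup.mk_mul, QuotientGroup.mk_inv, hy] at h4
          rw [hmemD, ← hcent, Subgroup.mem_centralizer_iff]
          intro c hc
          obtain ⟨k, rfl⟩ := hc₀ c hc
          have h6 : Commute c₀ (h : H ⧸ Z) := by
            show c₀ * (h : H ⧸ Z) = (h : H ⧸ Z) * c₀
            calc c₀ * (h : H ⧸ Z) = (h : H ⧸ Z) * ((h : H ⧸ Z)⁻¹ * c₀ * (h : H ⧸ Z)) := by group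
              _ = (h : H ⧸ Z) * c₀ := by rw [h4]
          exact h6.zpow_left k
        show f _ * ξ.1 _ = 0
        rw [h3, zero_mul]
      · exact extendByZero_of_not_mem D γ hyD
  have hzero : ∀ n : Z', ξ.1 (n * ⟨x, hxD⟩) = 0 := by
    intro n
    have h1 : (((n * ⟨x, hxD⟩ : D) : H) : H ⧸ Z) = c₀ := by
      have h2 : (((n : D) : H) : H ⧸ Z) = 1 := (QuotientGroup.eq_one_iff _).mpr n.2
      show (((n : D) : H) * x : H) = c₀
      rw [QuotientGroup.mk_mul, h2, one_mul, hx]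
    rw [← hval _ h1, hΓ, fr_vanish Z χ θ e he hχ, mul_zero]
    intro hmem
    apply hne1
    rw [← h1]
    exact (QuotientGroup.eq_one_iff _).mpr hmem
  have hfin := sum_coset_norm_eq Z' ξ.2 hres ⟨x, hxD⟩
  simp only [hzero, zero_mul, Finset.sum_const_zero] at hfin
  have hZ'ne : (Nat.card Z' : ℂ) ≠ 0 := by exact_mod_cast Nat.card_pos.ne'
  exact hZ'ne hfin.symm

end Ram

end Cfsg.Agent.H23
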