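import Cfsg.Agent.Lib.H23.GalOver
import Cfsg.Agent.Lib.H23.FullRam
import Cfsg.Agent.Lib.H04.Cliff.Gallagher

set_option autoImplicit false
set_option linter.style.haveILetI false
set_option linter.unusedSectionVars false

namespace Cfsg.Agent.H23

open Cfsg Cfsg.Agent Cfsg.Agent.H21 Cfsg.Agent.H06
open scoped ComplexConjugate

universe u

section Local
variable {G : Type u} [Group G] [Finite G] (N : Subgroup G) [hN : N.Normal]

/-- Prime-by-prime extension, at the level of characters. -/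
theorem char_local_ext (θ : IrrCharacter N)
    (hinv : ∀ (g : G) (n : N), θ.1 ⟨g * n * g⁻¹, hN.conj_mem (n : G) n.2 g⟩ = θ.1 n)
    (hsyl : ∀ p : ℕ, p.Prime → ∃ (P : Subgroup G) (hNP : N ≤ P) (η : P → ℂ),
      Nat.Coprime P.index p ∧ IsCharacter P η ∧ ∀ n : N, η ⟨n, hNP n.2⟩ = θ.1 n) :
    ∃ η : IrrCharacter G, ∀ n : N, η.1 n = θ.1 n := by
  obtain ⟨θ', m, ρ, hρ, rfl⟩ := θ
  obtain ⟨τ, hτ, hτρ⟩ := H04.Cliff.extends_of_local hρ (H04.Cliff.inv_of_char rfl hinv)
    (fun p hp => by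
      obtain ⟨P, hNP, η, hcop, hη, hηn⟩ := hsyl p hp
      obtain ⟨σ, -, hσ⟩ := H04.Cliff.exists_rep_on_W (ρ := ρ) (Subgroup.inclusion hNP) hη hηn
      exact ⟨P, hNP, σ, hcop, hσ⟩)
  refine ⟨⟨τ.character, m, τ, hτ, rfl⟩, fun n => ?_⟩
  show LinearMap.trace ℂ _ (τ (n : G)) = LinearMap.trace ℂ _ (ρ n)
  rw [hτρ n]

/-- The quotient of the preimage of a cyclic subgroup. -/
theorem cyclic_quot_comap (C : Subgroup (G ⧸ N)) (hC : IsCyclic C) :
    haveI : (N.subgroupOf (C.comap (QuotientGroup.mk' N))).Normal := Subgroup.normal_subgroupOf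
    IsCyclic (C.comap (QuotientGroup.mk' N) ⧸ N.subgroupOf (C.comap (QuotientGroup.mk' N))) := by
  haveI : (N.subgroupOf (C.comap (QuotientGroup.mk' N))).Normal := Subgroup.normal_subgroupOf
  obtain ⟨g₀, hg₀⟩ := hC.exists_zpow_surjective
  obtain ⟨x, hx⟩ : ∃ x : G, (x : G ⧸ N) = (g₀ : G ⧸ N) := QuotientGroup.mk_surjective _
  have hxD : x ∈ C.comap (QuotientGroup.mk' N) := by
    show (x : G ⧸ N) ∈ C
    rw [hx]; exact g₀.2
  refine ⟨⟨((⟨x, hxD⟩ : C.comap (QuotientGroup.mk' N)) :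
    C.comap (QuotientGroup.mk' N) ⧸ N.subgroupOf (C.comap (QuotientGroup.mk' N))), fun q => ?_⟩⟩
  obtain ⟨d, rfl⟩ := QuotientGroup.mk_surjective q
  have hd : ((d : G) : G ⧸ N) ∈ C := d.2
  obtain ⟨k, hk⟩ := hg₀ ⟨_, hd⟩
  refine ⟨k, ?_⟩
  show ((⟨x, hxD⟩ : C.comap (QuotientGroup.mk' N)) :
    C.comap (QuotientGroup.mk' N) ⧸ N.subgroupOf (C.comap (QuotientGroup.mk' N))) ^ k = _
  rw [← QuotientGroup.mk_zpow, QuotientGroup.eq]
  have h2 : (((⟨x, hxD⟩ : C.comap (QuotientGroup.mk' N)) ^ k)⁻¹ * d : C.comap (QuotientGroup.mk' N)).1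
      = (x ^ k)⁻¹ * (d : G) := by
    simp
  show (((⟨x, hxD⟩ : C.comap (QuotientGroup.mk' N)) ^ k)⁻¹ * d :
    C.comap (QuotientGroup.mk' N)).1 ∈ N
  rw [h2]
  apply QuotientGroup.eq.mp
  have h3 := congrArg Subtype.val hk
  simp only [Subgroup.coe_zpow] at h3
  rw [QuotientGroup.mk_zpow, hx, h3]

end Local

section Restr
variable {G : Type u} [Group G] [Fintype G]

/-- Transport of an irreducible character to the relative subgroup. -/
noncomputable def relIrr (N M : Subgroup G) (h : N ≤ M) (θ : IrrCharacter N) :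
    IrrCharacter (N.subgroupOf M) :=
  ⟨θ.1 ∘ (Subgroup.subgroupOfEquivOfLe h).toMonoidHom,
    isIrrCharacter_comp_of_surjective _ (Subgroup.subgroupOfEquivOfLe h).surjective θ.2⟩

theorem relIrr_apply (N M : Subgroup G) (h : N ≤ M) (θ : IrrCharacter N) (n : N.subgroupOf M) :
    (relIrr N M h θ).1 n = θ.1 ⟨((n : M) : G), n.2⟩ := rfl

variable {k : ℕ}

theorem gal_sub_coprime (M : Subgroup G) (hk : k.Coprime (Nat.card G)) : k.Coprime (Nat.card M) :=
  Nat.Coprime.coprime_dvd_right (Subgroup.card_subgroup_dvd_card M) hk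

theorem gal_sub_pow (M : Subgroup G) (hk₂ : ∀ g : G, Odd (orderOf g) → g ^ k = g⁻¹) (m : M)
    (hm : Odd (orderOf m)) : m ^ k = m⁻¹ := by
  apply Subtype.ext
  have h1 : orderOf (m : G) = orderOf m := Subgroup.orderOf_coe m
  show (m : G) ^ k = (m : G)⁻¹
  exact hk₂ _ (by rw [h1]; exact hm)

/-- Characters over an invariant character across a cyclic quotient restrict to it. -/
theorem over_restrict_of_cyclic (T : Type u) [Group T] [Fintype T] (H : Subgroup T) [hH : H.Normal]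
    [Fintype H] (hcyc : IsCyclic (T ⧸ H)) (θ : IrrCharacter H)
    (hinv : ∀ (g : T) (n : H), θ.1 ⟨g * n * g⁻¹, hH.conj_mem (n : T) n.2 g⟩ = θ.1 n)
    (χ : IrrCharacter T) (hχ : classInner (fun n : H => χ.1 n) θ.1 ≠ 0) (n : H) :
    χ.1 n = θ.1 n := by
  classical
  haveI : Fintype (IrrCharacter H) := Fintype.ofFinite _
  haveI : Fintype (IrrCharacter T) := Fintype.ofFinite _
  obtain ⟨ξ, hξ⟩ := ext_char_of_cyclic H hcyc θ hinv
  have htw : ∀ t : T, twist H θ.1 t = θ.1 := by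
    intro t
    funext m
    exact hinv t m
  have hab : ∀ x y : T, x * y * x⁻¹ * y⁻¹ ∈ H := by
    intro x y
    rw [← QuotientGroup.eq_one_iff]
    have hcomm : ((x : T ⧸ H)) * (y : T ⧸ H) = (y : T ⧸ H) * (x : T ⧸ H) :=
      (IsCyclic.commGroup (α := T ⧸ H)).mul_comm _ _
    simp only [QuotientGroup.mk_mul, QuotientGroup.mk_inv]
    rw [hcomm]
    group
  obtain ⟨e, C, he, hC1, hC2, hC3, hC4, -, -⟩ := invariant_abelian_structure H θ.2 htw hab
  have hξC : ξ.1 ∈ C := by
    apply hC4 _ ξ.2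
    rw [frobenius_reciprocity H θ.1 ξ.1 (isClassFunction_of_isCharacter (isCharacter_of_irr ξ.2))]
    have h1 : (fun h : H => ξ.1 h) = θ.1 := funext hξ
    rw [h1]
    have h2 : classInner θ.1 θ.1 = 1 := by simpa using classInner_irr θ θ
    rw [h2]
    exact one_ne_zero
  have he1 : e = 1 := by
    have h1 := hC2 _ hξC 1
    rw [hξ] at h1
    have h2 : θ.1 1 ≠ 0 := H06.irr_one_ne_zero' θ.2
    have h3 : ((e : ℂ) - 1) * θ.1 1 = 0 := by linear_combination -h1
    have h4 : (e : ℂ) - 1 = 0 := (mul_eq_zero.mp h3).resolve_right h2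
    have h5 : (e : ℂ) = 1 := sub_eq_zero.mp h4
    exact_mod_cast h5
  have hχC : χ.1 ∈ C := by
    apply hC4 _ χ.2
    rw [frobenius_reciprocity H θ.1 χ.1 (isClassFunction_of_isCharacter (isCharacter_of_irr χ.2)),
      ← classInner_comm_conj]
    intro h
    apply hχ
    have := congrArg conj h
    simpa using this
  rw [hC2 _ hχC n, he1]
  simp

end Restr

section P
variable {G : Type u} [Group G] [Fintype G]

/-- The inductive step for a `p`-group quotient. -/
theorem gal_ext_p (p : ℕ) [hp : Fact p.Prime] (hp2 : p ≠ 2) {k : ℕ} (hk : k.Coprime (Nat.card G))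
    (hk₂ : ∀ g : G, Odd (orderOf g) → g ^ k = g⁻¹) :
    ∀ (i : ℕ) (N : Subgroup G) [hN : N.Normal], N.index = i → IsPGroup p (G ⧸ N) →
      ∀ θ : IrrCharacter N, (∀ m : N, θ.1 (m ^ k) = θ.1 m) →
        (∀ (g : G) (m : N), θ.1 ⟨g * m * g⁻¹, hN.conj_mem (m : G) m.2 g⟩ = θ.1 m) →
        ∃ η : IrrCharacter G, ∀ m : N, η.1 m = θ.1 m := by
  classical
  intro i
  induction i using Nat.strong_induction_on with
  | _ i ih =>
    intro N hN hidx hpg θ hfix hinv
    by_cases hNtop : N = ⊤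
    · let f : G →* N := MonoidHom.codRestrict (MonoidHom.id G) N (fun g => by rw [hNtop]; trivial)
      have hf : Function.Surjective f := fun m => ⟨m, Subtype.ext rfl⟩
      refine ⟨⟨θ.1 ∘ f, isIrrCharacter_comp_of_surjective f hf θ.2⟩, fun m => ?_⟩
      show θ.1 (f m) = θ.1 m
      congr 1
    · haveI : Nontrivial (G ⧸ N) := by
        by_contra hn
        rw [not_nontrivial_iff_subsingleton] at hn
        apply hNtop
        rw [eq_top_iff]
        intro g _
        rw [← QuotientGroup.eq_one_iff]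
        exact Subsingleton.elim _ _
      haveI : Finite (G ⧸ N) := inferInstance
      haveI hcenter : Nontrivial (Subgroup.center (G ⧸ N)) := hpg.center_nontrivial
      have hcp : IsPGroup p (Subgroup.center (G ⧸ N)) := hpg.to_subgroup _
      obtain ⟨j, hj⟩ := IsPGroup.iff_card.mp hcp
      have hdvd : p ∣ Nat.card (Subgroup.center (G ⧸ N)) := by
        rw [hj]
        apply dvd_pow_self
        rintro rfl
        have : Nat.card (Subgroup.center (G ⧸ N)) ≠ 1 := by
          exact Finite.one_lt_card.ne'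
        rw [hj, pow_zero] at this
        exact this rfl
      obtain ⟨c, hc⟩ := exists_prime_orderOf_dvd_card' p hdvd
      let c₀ : G ⧸ N := (c : G ⧸ N)
      have hc₀ : orderOf c₀ = p := by rw [← hc]; exact Subgroup.orderOf_coe c
      have hc₀z : ∀ y : G ⧸ N, y * c₀ = c₀ * y := fun y =>
        (Subgroup.mem_center_iff.mp c.2 y)
      let Z : Subgroup (G ⧸ N) := Subgroup.zpowers c₀
      haveI hZn : Z.Normal := by
        constructor
        intro n hn g
        obtain ⟨a, rfl⟩ := Subgroup.mem_zpowers_iff.mp hn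
        have h1 : g * c₀ ^ a * g⁻¹ = c₀ ^ a := by
          have h3 : Commute g c₀ := hc₀z g
          have h2 : Commute g (c₀ ^ a) := h3.zpow_right a
          rw [h2.eq]
          group
        rw [h1]
        exact Subgroup.zpow_mem_zpowers c₀ a
      let M : Subgroup G := Z.comap (QuotientGroup.mk' N)
      haveI hMn : M.Normal := Subgroup.Normal.comap hZn _
      have hNM : N ≤ M := by
        intro n hn
        show (n : G ⧸ N) ∈ Z
        rw [(QuotientGroup.eq_one_iff n).mpr hn]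
        exact Z.one_mem
      have hMidx : M.index < i := by
        have h1 : M.index = Z.index := Subgroup.index_comap_of_surjective Z
          (QuotientGroup.mk'_surjective N)
        have h2 : Nat.card Z * Z.index = N.index := by
          rw [Subgroup.card_mul_index, Subgroup.index_eq_card]
        have h3 : Nat.card Z = p := by
          rw [Nat.card_zpowers, hc₀]
        rw [h1, ← hidx, ← h2, h3]
        have h4 : 0 < Z.index := Nat.pos_of_ne_zero Subgroup.index_ne_zero_of_finite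
        have h5 := (hp.out).one_lt
        nlinarith
      have hpgM : IsPGroup p (G ⧸ M) := by
        intro q
        obtain ⟨g, rfl⟩ := QuotientGroup.mk_surjective q
        obtain ⟨a, ha⟩ := hpg (g : G ⧸ N)
        refine ⟨a, ?_⟩
        rw [← QuotientGroup.mk_pow, QuotientGroup.eq_one_iff]
        apply hNM
        rw [← QuotientGroup.eq_one_iff, QuotientGroup.mk_pow]
        exact ha
      -- odd index
      have hNodd : Odd N.index := by
        obtain ⟨a, ha⟩ := IsPGroup.iff_card.mp hpg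
        rw [Subgroup.index_eq_card, ha]
        apply Odd.pow
        exact hp.out.odd_of_ne_two hp2
      -- the intermediate group
      let N' : Subgroup M := N.subgroupOf M
      haveI hN'n : N'.Normal := Subgroup.normal_subgroupOf
      have hN'odd : Odd N'.index := by
        have h1 : N'.index ∣ N.index := Subgroup.relIndex_dvd_index_of_normal N M
        exact Odd.of_dvd_nat hNodd h1
      haveI : Fintype N' := Fintype.ofFinite _
      haveI : Fintype M := Fintype.ofFinite _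
      haveI : Fintype (IrrCharacter M) := Fintype.ofFinite _
      haveI : Fintype (IrrCharacter N') := Fintype.ofFinite _
      let θ' : IrrCharacter N' := relIrr N M hNM θ
      have hr' : ∀ m : N', θ'.1 (m ^ k) = θ'.1 m := by
        intro m
        exact hfix ⟨((m : M) : G), m.2⟩
      have hinv' : ∀ (g : M) (m : N'), θ'.1 ⟨g * m * g⁻¹, hN'n.conj_mem (m : M) m.2 g⟩ = θ'.1 m := by
        intro g m
        exact hinv (g : G) ⟨((m : M) : G), m.2⟩
      obtain ⟨χ₀, ⟨hover, hfix₀⟩, huniq⟩ := existsUnique_gal_over N' hN'odd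
        (gal_sub_coprime M hk) (gal_sub_pow M hk₂) θ'.2 hr'
      have hcyc : IsCyclic (M ⧸ N') := cyclic_quot_comap N Z inferInstance
      have hres : ∀ m : N', χ₀.1 m = θ'.1 m :=
        over_restrict_of_cyclic M N' hcyc θ' hinv' χ₀ hover
      have hθ'norm : classInner θ'.1 θ'.1 = 1 := by simpa using classInner_irr θ' θ'
      -- invariance of `χ₀`
      have hinv₀ : ∀ (g : G) (m : M), χ₀.1 ⟨g * m * g⁻¹, hMn.conj_mem (m : G) m.2 g⟩ = χ₀.1 m := by
        intro g m
        let χ₁ : IrrCharacter M := ⟨twist M χ₀.1 g, isIrrCharacter_twist M χ₀.2 g⟩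
        have h1 : χ₁ = χ₀ := by
          apply huniq
          · have h2 : (fun n : N' => χ₁.1 n) = θ'.1 := by
              funext n
              show χ₀.1 ⟨g * ((n : M) : G) * g⁻¹, hMn.conj_mem _ (n : M).2 g⟩ = θ'.1 n
              have h3 := hres ⟨⟨g * ((n : M) : G) * g⁻¹, hMn.conj_mem _ (n : M).2 g⟩,
                hN.conj_mem _ n.2 g⟩
              rw [show ((⟨⟨g * ((n : M) : G) * g⁻¹, hMn.conj_mem _ (n : M).2 g⟩,
                hN.conj_mem _ n.2 g⟩ : N') : M) = ⟨g * ((n : M) : G) * g⁻¹, hMn.conj_mem _ (n : M).2 g⟩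
                from rfl] at h3
              rw [h3]
              exact hinv g ⟨((n : M) : G), n.2⟩
            rw [h2, hθ'norm]
            exact one_ne_zero
          · intro x
            show χ₀.1 ⟨g * ((x ^ k : M) : G) * g⁻¹, hMn.conj_mem _ (x ^ k).2 g⟩ =
              χ₀.1 ⟨g * (x : G) * g⁻¹, hMn.conj_mem _ x.2 g⟩
            have h4 : (⟨g * ((x ^ k : M) : G) * g⁻¹, hMn.conj_mem _ (x ^ k).2 g⟩ : M) =
                (⟨g * (x : G) * g⁻¹, hMn.conj_mem _ x.2 g⟩ : M) ^ k := by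
              apply Subtype.ext
              show g * (x : G) ^ k * g⁻¹ = (g * (x : G) * g⁻¹) ^ k
              rw [conj_pow]
            rw [h4, hfix₀]
        have h5 := congrArg (fun y : IrrCharacter M => y.1 m) h1
        exact h5
      obtain ⟨η, hη⟩ := ih M.index (by rw [← hidx] at hMidx ⊢; exact hMidx) M rfl hpgM χ₀ hfix₀ hinv₀
      refine ⟨η, fun m => ?_⟩
      have h6 := hη ⟨m, hNM m.2⟩
      have h7 := hres ⟨⟨m, hNM m.2⟩, m.2⟩
      exact h6.trans h7

/-- An invariant Galois-fixed character of a normal subgroup of odd index extends. -/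
theorem gal_extends (N : Subgroup G) [hN : N.Normal] (hodd : Odd N.index) {k : ℕ}
    (hk : k.Coprime (Nat.card G)) (hk₂ : ∀ g : G, Odd (orderOf g) → g ^ k = g⁻¹)
    (θ : IrrCharacter N) (hfix : ∀ m : N, θ.1 (m ^ k) = θ.1 m)
    (hinv : ∀ (g : G) (m : N), θ.1 ⟨g * m * g⁻¹, hN.conj_mem (m : G) m.2 g⟩ = θ.1 m) :
    ∃ η : IrrCharacter G, ∀ m : N, η.1 m = θ.1 m := by
  classical
  refine char_local_ext N θ hinv fun p hp => ?_
  by_cases hp2 : p = 2
  · subst hp2
    exact ⟨N, le_rfl, θ.1, (Nat.coprime_two_left.mpr hodd).symm, isCharacter_of_irr θ.2, fun n => rfl⟩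
  · haveI : Fact p.Prime := ⟨hp⟩
    obtain ⟨S⟩ : Nonempty (Sylow p (G ⧸ N)) := inferInstance
    let P : Subgroup G := (S : Subgroup (G ⧸ N)).comap (QuotientGroup.mk' N)
    have hNP : N ≤ P := by
      intro n hn
      show (n : G ⧸ N) ∈ (S : Subgroup (G ⧸ N))
      rw [(QuotientGroup.eq_one_iff n).mpr hn]
      exact Subgroup.one_mem _
    have hPidx : P.index = (S : Subgroup (G ⧸ N)).index :=
      Subgroup.index_comap_of_surjective _ (QuotientGroup.mk'_surjective N)
    have hcop : Nat.Coprime P.index p := by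
      rw [hPidx]
      exact ((Nat.Prime.coprime_iff_not_dvd hp).mpr S.not_dvd_index).symm
    let N' : Subgroup P := N.subgroupOf P
    haveI hN'n : N'.Normal := Subgroup.normal_subgroupOf
    haveI : Fintype P := Fintype.ofFinite _
    have hpg : IsPGroup p (P ⧸ N') := by
      intro q
      obtain ⟨x, rfl⟩ := QuotientGroup.mk_surjective q
      have hx : ((x : G) : G ⧸ N) ∈ (S : Subgroup (G ⧸ N)) := x.2
      obtain ⟨a, ha⟩ := S.isPGroup' ⟨_, hx⟩
      refine ⟨a, ?_⟩
      rw [← QuotientGroup.mk_pow, QuotientGroup.eq_one_iff]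
      show ((x ^ (p ^ a) : P) : G) ∈ N
      have h1 := congrArg Subtype.val ha
      have h2 : ((x : G) : G ⧸ N) ^ (p ^ a) = 1 := h1
      rw [← QuotientGroup.mk_pow, QuotientGroup.eq_one_iff] at h2
      exact h2
    obtain ⟨η, hη⟩ := gal_ext_p (G := P) p hp2 (gal_sub_coprime P hk) (gal_sub_pow P hk₂) _ N' rfl hpg
      (relIrr N P hNP θ) (fun m => hfix ⟨((m : P) : G), m.2⟩)
      (fun g m => hinv (g : G) ⟨((m : P) : G), m.2⟩)
    exact ⟨P, hNP, η.1, hcop, isCharacter_of_irr η.2, fun n => hη ⟨⟨n, hNP n.2⟩, n.2⟩⟩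

/-- The invariant case: there is a Galois-fixed extension. -/
theorem gal_fixed_ext (N : Subgroup G) [hN : N.Normal] [Fintype N] (hodd : Odd N.index) {k : ℕ}
    (hk : k.Coprime (Nat.card G)) (hk₂ : ∀ g : G, Odd (orderOf g) → g ^ k = g⁻¹)
    (θ : IrrCharacter N) (hfix : ∀ m : N, θ.1 (m ^ k) = θ.1 m)
    (hinv : ∀ (g : G) (m : N), θ.1 ⟨g * m * g⁻¹, hN.conj_mem (m : G) m.2 g⟩ = θ.1 m) :
    ∃ η : IrrCharacter G, (∀ m : N, η.1 m = θ.1 m) ∧ ∀ g, η.1 (g ^ k) = η.1 g := by
  classical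
  haveI : Fintype (IrrCharacter G) := Fintype.ofFinite _
  haveI : Fintype (IrrCharacter N) := Fintype.ofFinite _
  obtain ⟨η, hη⟩ := gal_extends N hodd hk hk₂ θ hfix hinv
  have htw : ∀ t : G, twist N θ.1 t = θ.1 := by
    intro t
    funext m
    exact hinv t m
  have hprod : ((fun _ : N => (1:ℂ)) * θ.1) = θ.1 := by
    funext n
    simp
  have hbij := H04.Cliff.gallagher_bij N (φ := fun _ : N => (1:ℂ)) (ϑ := θ.1) isIrrCharacter_one
    (by rw [hprod]; exact θ.2) (fun t => rfl) htw (isCharacter_of_irr η.2) hη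
  rw [hprod] at hbij
  let ψ : G → ℂ := fun g => η.1 (g ^ k)
  have hψirr : IsIrrCharacter G ψ := isIrrCharacter_comp_pow hk η.2
  have hψN : ∀ n : N, ψ n = θ.1 n := by
    intro n
    show η.1 ((n : G) ^ k) = θ.1 n
    have h1 := hη (n ^ k)
    rw [hfix] at h1
    exact h1
  have hψt : classInner (indFun N θ.1) ψ ≠ 0 := by
    rw [frobenius_reciprocity N θ.1 ψ (isClassFunction_of_isCharacter (isCharacter_of_irr hψirr))]
    have h1 : (fun h : N => ψ h) = θ.1 := funext hψN
    rw [h1]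
    have h2 : classInner θ.1 θ.1 = 1 := by simpa using classInner_irr θ θ
    rw [h2]
    exact one_ne_zero
  obtain ⟨β, ⟨hβ, hβc⟩, hβψ⟩ := hbij.2.2 ⟨hψirr, hψt⟩
  have hβψ' : ∀ g, β g * η.1 g = η.1 (g ^ k) := fun g => congrFun hβψ g
  have hη1 : η.1 1 ≠ 0 := H06.irr_one_ne_zero' η.2
  have hβ1 : β 1 = 1 := by
    have h1 := hβψ' 1
    rw [one_pow] at h1
    have h2 : (β 1 - 1) * η.1 1 = 0 := by linear_combination h1
    exact sub_eq_zero.mp ((mul_eq_zero.mp h2).resolve_right hη1)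
  have hβc' := isCharacter_of_irr hβ
  have hβdeg : charDegree β = 1 := by
    have h1 := one_eq_charDegree hβc'
    rw [hβ1] at h1
    exact_mod_cast h1.symm
  let ω : G →* ℂˣ := MonoidHom.toHomUnits ⟨⟨β, hβ1⟩, fun a b => linear_mul hβc' hβdeg a b⟩
  have hω : ∀ g, (ω g : ℂ) = β g := fun g => rfl
  -- `ω` is trivial on `N`
  have hωN : ∀ n : N, ω n = 1 := by
    rw [frobenius_reciprocity N _ β (isClassFunction_of_isCharacter hβc')] at hβc
    have h1 := classInner_irr_fun (isIrrCharacter_one (G := N))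
      (isIrrCharacter_hom (ω.comp N.subtype))
    have h2 : (fun h : N => β h) = fun v : N => ((ω.comp N.subtype) v : ℂ) := rfl
    rw [h2, h1] at hβc
    have h3 : (fun _ : N => (1:ℂ)) = fun v : N => ((ω.comp N.subtype) v : ℂ) := by
      by_contra hne
      rw [if_neg hne] at hβc
      exact hβc rfl
    intro n
    have h4 := congrFun h3 n
    apply Units.ext
    exact h4.symm
  obtain ⟨r, hr⟩ := hodd
  let μ : G →* ℂˣ := ω ^ (r + 1)
  refine ⟨⟨fun g => (μ g : ℂ) * η.1 g, isIrr_linear_mul η.2 (isCharacter_hom μ) (charDegree_hom μ)⟩,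
    fun m => ?_, fun g => ?_⟩
  · show ((ω (m : G) ^ (r + 1) : ℂˣ) : ℂ) * η.1 m = θ.1 m
    rw [hωN, one_pow, Units.val_one, one_mul, hη]
  · show ((ω (g ^ k) ^ (r + 1) : ℂˣ) : ℂ) * η.1 (g ^ k) = ((ω g ^ (r + 1) : ℂˣ) : ℂ) * η.1 g
    rw [← hβψ', ← hω]
    have h1 : ω (g ^ k) = (ω g)⁻¹ := by
      have h2 : ((g ^ k : G) : G ⧸ N) = (g : G ⧸ N)⁻¹ := gal_quot_pow N ⟨r, hr⟩ hk₂ g
      have h3 : (g⁻¹)⁻¹ * g ^ k ∈ N := by
        apply QuotientGroup.eq.mp
        rw [h2, QuotientGroup.mk_inv]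
      have h4 := hωN ⟨_, h3⟩
      simp only [map_mul, map_inv, inv_inv] at h4
      rw [eq_inv_iff_mul_eq_one, mul_comm]
      exact h4
    have h5 : ω g ^ N.index = 1 := by
      have h6 := hωN ⟨_, Subgroup.pow_index_mem N g⟩
      simpa using h6
    have h7 : (ω g ^ (r + 1)) * (ω g ^ (r + 1)) = ω g := by
      rw [← pow_add]
      have : r + 1 + (r + 1) = N.index + 1 := by omega
      rw [this, pow_succ, h5, one_mul]
    have h8 : (ω (g ^ k)) ^ (r + 1) * ω g = ω g ^ (r + 1) := by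
      rw [h1, inv_pow]
      calc ((ω g) ^ (r + 1))⁻¹ * ω g = ((ω g) ^ (r + 1))⁻¹ * ((ω g ^ (r + 1)) * (ω g ^ (r + 1))) := by
            rw [h7]
        _ = ω g ^ (r + 1) := by group
    have h9 := congrArg (fun u : ℂˣ => (u : ℂ)) h8
    simp only [Units.val_mul] at h9
    rw [← mul_assoc, h9]

/-- The statement for odd index and Galois-fixed characters. -/
theorem gal_main (N : Subgroup G) [hN : N.Normal] [Fintype N] (hodd : Odd N.index) {k : ℕ}
    (hk : k.Coprime (Nat.card G)) (hk₂ : ∀ g : G, Odd (orderOf g) → g ^ k = g⁻¹)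
    (θ : IrrCharacter N) (hfix : ∀ m : N, θ.1 (m ^ k) = θ.1 m) :
    ∃ χ : IrrCharacter G, (classInner (fun n : N => χ.1 n) θ.1 ≠ 0 ∧
      (∀ g : G, χ.1 (g ^ k) = χ.1 g) ∧
      ((∀ g : G, ∀ n : N, θ.1 ⟨g * n * g⁻¹, hN.conj_mem n n.2 g⟩ = θ.1 n) →
        ∀ n : N, χ.1 n = θ.1 n)) ∧
      ∀ χ' : IrrCharacter G, classInner (fun n : N => χ'.1 n) θ.1 ≠ 0 →
        (∀ g : G, χ'.1 (g ^ k) = χ'.1 g) → χ' = χ := by
  classical
  haveI : Fintype (IrrCharacter G) := Fintype.ofFinite _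
  haveI : Fintype (IrrCharacter N) := Fintype.ofFinite _
  obtain ⟨χ, ⟨h1, h2⟩, h3⟩ := existsUnique_gal_over N hodd hk hk₂ θ.2 hfix
  refine ⟨χ, ⟨h1, h2, fun hinv n => ?_⟩, h3⟩
  obtain ⟨η, hη, hηf⟩ := gal_fixed_ext N hodd hk hk₂ θ hfix hinv
  have h4 : η = χ := by
    apply h3 η _ hηf
    have h5 : (fun n : N => η.1 n) = θ.1 := funext hη
    rw [h5]
    have h6 : classInner θ.1 θ.1 = 1 := by simpa using classInner_irr θ θ
    rw [h6]
    exact one_ne_zero
  rw [← h4, hη]

end P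

end Cfsg.Agent.H23
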