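import Cfsg.Agent.Lib.H23.CovCore
import Cfsg.Agent.Lib.H23.AcdTwo
import Cfsg.Agent.Lib.H23.Ito
import Cfsg.Agent.Lib.H04.Cliff.Extend
import Cfsg.Agent.Lib.H01.CharEquiv
import Cfsg.Agent.Lib.H06.CharGallagher

/-!
# Applications of the covering core lemma (helper23)
-/

set_option autoImplicit false
set_option linter.unusedSectionVars false
set_option linter.style.haveILetI false

namespace Cfsg.Agent.H23

open Cfsg Cfsg.Agent.H22 Cfsg.Agent

/-- Second isomorphism theorem with a non-normal denominator. -/
theorem cov_relIndex_dvd {J : Type*} [Group J] [Finite J] (N C : Subgroup J) [N.Normal] :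
    C.relIndex N ∣ C.index := by
  set T := N ⊔ C with hT
  have h1 := Subgroup.relIndex_mul_relIndex (N ⊓ C) N T inf_le_left le_sup_left
  have h2 := Subgroup.relIndex_mul_relIndex (N ⊓ C) C T inf_le_right le_sup_right
  have h3 : N.relIndex T = N.relIndex C := Subgroup.relIndex_sup_left C N
  have h4 : (N ⊓ C).relIndex C = N.relIndex C := Subgroup.inf_relIndex_right N C
  have h5 : (N ⊓ C).relIndex N = C.relIndex N := Subgroup.inf_relIndex_left N C
  rw [h3, h5] at h1
  rw [h4] at h2
  have h6 : N.relIndex C ≠ 0 := Subgroup.index_ne_zero_of_finite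
  have h7 : C.relIndex N = C.relIndex T := by
    apply Nat.eq_of_mul_eq_mul_right (Nat.pos_of_ne_zero h6)
    rw [h1, ← h2, mul_comm]
  rw [h7]
  exact Subgroup.relIndex_dvd_index_of_le le_sup_right

/-- The orbit size is a relative index. -/
theorem covS_eq_relIndex {E : Type*} [Group E] [Fintype E] (K : Subgroup E) (y : E) :
    covS K y = (Subgroup.centralizer ({y} : Set E)).relIndex K := by
  letI : MulAction K E :=
    { smul := fun k x => (k : E) * x * (k : E)⁻¹
      one_smul := fun x => by
        show ((1 : K) : E) * x * ((1 : K) : E)⁻¹ = x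
        simp
      mul_smul := fun a b x => by
        show ((a * b : K) : E) * x * ((a * b : K) : E)⁻¹ = (a : E) * ((b : E) * x * (b : E)⁻¹) * (a : E)⁻¹
        push_cast
        group }
  have hs : ∀ (k : K) (x : E), k • x = (k : E) * x * (k : E)⁻¹ := fun _ _ => rfl
  have h1 := MulAction.index_stabilizer K y
  have h2 : MulAction.stabilizer K y = (Subgroup.centralizer ({y} : Set E)).subgroupOf K := by
    ext k
    rw [MulAction.mem_stabilizer_iff, hs, Subgroup.mem_subgroupOf, Subgroup.mem_centralizer_singleton_iff]
    constructor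
    · intro h
      have := congrArg (· * (k : E)) h
      simpa using this
    · intro h
      rw [h]
      group
  have h3 : MulAction.orbit K y = ↑(covOrb K y) := by
    ext z
    simp only [MulAction.mem_orbit_iff, Finset.mem_coe, mem_covOrb, hs]
    constructor
    · rintro ⟨k, rfl⟩
      exact ⟨k, k.2, rfl⟩
    · rintro ⟨n, hn, rfl⟩
      exact ⟨⟨n, hn⟩, rfl⟩
  rw [Subgroup.relIndex, ← h2, h1, h3, Set.ncard_coe_finset]
  rfl

/-- A representation with an irreducible character is irreducible. -/
theorem cov_irr_of_char {G : Type*} [Group G] [Finite G] {V : Type*} [AddCommGroup V] [Module ℂ V]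
    [FiniteDimensional ℂ V] (σ : Representation ℂ G V) {θ : G → ℂ} (hθ : IsIrrCharacter G θ)
    (h : σ.character = θ) : σ.IsIrreducible := by
  obtain ⟨n, ρ, hρ, hc⟩ := hθ
  obtain ⟨e⟩ := H01.equiv_of_character_eq σ ρ (h.trans hc.symm)
  have hnt : Nontrivial V := by
    have hnt' : Nontrivial (Fin n → ℂ) := by
      by_contra h
      rw [not_nontrivial_iff_subsingleton] at h
      exact (bot_ne_top : (⊥ : Subrepresentation ρ) ≠ ⊤)
        (Subrepresentation.toSubmodule_injective (Subsingleton.elim _ _))
    exact e.toLinearEquiv.symm.injective.nontrivial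
  have key : ∀ S : Subrepresentation σ, S = ⊥ ∨ S = ⊤ := by
    intro S
    let S' : Subrepresentation ρ :=
      { toSubmodule := S.toSubmodule.comap e.toLinearEquiv.symm.toLinearMap
        apply_mem_toSubmodule := by
          intro g v hv
          rw [Submodule.mem_comap] at hv ⊢
          have h1 := S.apply_mem_toSubmodule g hv
          have h2 := Representation.IntertwiningMap.isIntertwining _ _ e.toIntertwiningMap g
            (e.toLinearEquiv.symm v)
          have h3 : e.toIntertwiningMap (e.toLinearEquiv.symm v) = v := e.toLinearEquiv.apply_symm_apply v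
          rw [h3] at h2
          have h4 : e.toLinearEquiv.symm.toLinearMap (ρ g v) = σ g (e.toLinearEquiv.symm v) := by
            rw [← h2]
            exact e.toLinearEquiv.symm_apply_apply _
          rw [h4]
          exact h1 }
    rcases hρ.eq_bot_or_eq_top S' with h' | h'
    · left
      apply Subrepresentation.toSubmodule_injective
      have h'' : S'.toSubmodule = ⊥ := congrArg Subrepresentation.toSubmodule h'
      show S.toSubmodule = ⊥
      rw [eq_bot_iff]
      intro v hv
      have h1 : e.toLinearEquiv v ∈ S'.toSubmodule := by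
        show e.toLinearEquiv.symm.toLinearMap (e.toLinearEquiv v) ∈ S.toSubmodule
        have hee : e.toLinearEquiv.symm.toLinearMap (e.toLinearEquiv v) = v :=
          e.toLinearEquiv.symm_apply_apply v
        rw [hee]
        exact hv
      rw [h'', Submodule.mem_bot] at h1
      simpa using h1
    · right
      apply Subrepresentation.toSubmodule_injective
      have h'' : S'.toSubmodule = ⊤ := congrArg Subrepresentation.toSubmodule h'
      show S.toSubmodule = ⊤
      rw [eq_top_iff]
      intro v _
      have h1 : e.toLinearEquiv v ∈ S'.toSubmodule := by rw [h'']; trivial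
      have h2 : e.toLinearEquiv.symm.toLinearMap (e.toLinearEquiv v) ∈ S.toSubmodule := h1
      have hee : e.toLinearEquiv.symm.toLinearMap (e.toLinearEquiv v) = v :=
        e.toLinearEquiv.symm_apply_apply v
      rwa [hee] at h2
  have hntS : Nontrivial (Subrepresentation σ) := by
    refine ⟨⟨⊥, ⊤, ?_⟩⟩
    intro hbt
    have := congrArg Subrepresentation.toSubmodule hbt
    exact (bot_ne_top : (⊥ : Submodule ℂ V) ≠ ⊤) this
  exact { eq_bot_or_eq_top := key }

/-- Principal block criterion: the central character is congruent to the class size. -/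
theorem cov_mem_principal {L : Type*} [Group L] {M : Ideal AlgInt} (hM : M.IsPrime) (ξ : IrrCharacter L)
    (h : ∀ y : L, ∃ s a : ℕ, (Subgroup.centralizer ({y} : Set L)).index = a * s ∧
      MemLocalIdeal M ((s : ℂ) * ξ.1 y / ξ.1 1 - s)) : ξ ∈ principalBlock M L := by
  haveI := hM
  intro y
  obtain ⟨s, a, hi, hs⟩ := h y
  have h1 := mli_neg (mli_mul_left hs (mlr_natCast (M := M) a))
  unfold centralChar
  rw [hi]
  convert h1 using 1
  push_cast
  ring


/-- Abstract form of the principal hypothesis `hB`. -/
theorem cov_hB {G : Type*} [Group G] [Fintype G] {M : Ideal AlgInt} (hP : M.IsPrime) (N : Subgroup G)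
    (θ : IrrCharacter N) (hθ : θ ∈ principalBlock M N) (B : G → ℂ)
    (hB : ∀ n : N, B n = θ.1 n / θ.1 1) (A : G → ℕ)
    (hA1 : ∀ k ∈ N, ∀ v, A (k * v * k⁻¹) = A v) (hA2 : ∀ v, v ∉ N → A v = 0) :
    MemLocalIdeal M (∑ v, (A v : ℂ) * (B v - 1)) := by
  classical
  haveI := hP
  haveI : Fintype (ConjClasses N) := Fintype.ofFinite _
  haveI : Fintype (IrrCharacter N) := Fintype.ofFinite _
  have h1 : ∑ v, (A v : ℂ) * (B v - 1) = ∑ n : N, (A n : ℂ) * (θ.1 n / θ.1 1 - 1) := by
    symm
    refine Finset.sum_of_injOn (fun n : N => (n : G)) (Subtype.val_injective.injOn) (fun _ _ => Finset.mem_coe.2 (Finset.mem_univ _)) ?_ ?_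
    · intro v _ hv
      have : v ∉ N := fun hvN => hv ⟨⟨v, hvN⟩, by simp, rfl⟩
      simp [hA2 v this]
    · intro n _
      simp [hB]
  rw [h1]
  have hcl : IsClassFunction N (fun n : N => (A n : ℂ) * (θ.1 n / θ.1 1 - 1)) := by
    intro g h
    have h2 : A ((h : G) * (g : G) * (h : G)⁻¹) = A g := hA1 h h.2 g
    have h3 := H21.isClassFunction_of_isCharacter (H21.isCharacter_of_irr θ.2) g h
    simp only [Subgroup.coe_mul, Subgroup.coe_inv]
    rw [h2, h3]
  rw [sum_classFun_eq _ hcl]
  refine mli_sum _ _ fun C _ => ?_
  have h2 := hθ C.out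
  unfold centralChar at h2
  have h3 := mli_mul_left (mli_neg h2) (mlr_natCast (M := M) (A C.out))
  convert h3 using 1
  simp only [div_one]
  ring

end Cfsg.Agent.H23
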