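import Cfsg.Agent.Lib.H23.CovLift
import Cfsg.Agent.Lib.H21.CharCore

/-!
# Covering core lemma (helper23)

`K ⊴ E`, `τ` a representation of `E` whose restriction to `K` is irreducible, with
`χ(v) = κ(v) d B(v)` on `K`, where `B` is "principal" at `M` on `K`-class sums.  If every coset
of `K` contains an element whose `K`-orbit has size prime to `p`, there is a linear character
`Λ` of `E` with `s(g) χ(g) / d ≡ s(g) Λ(g)`.
-/

set_option autoImplicit false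
set_option linter.unusedSectionVars false
set_option linter.style.haveILetI false

namespace Cfsg.Agent.H23

open Cfsg Cfsg.Agent.H22 Cfsg.Agent

section Core

variable {E : Type*} [Group E] [Fintype E] (K : Subgroup E)

/-- The `K`-orbit of `y` under conjugation. -/
noncomputable def covOrb (y : E) : Finset E :=
  (Set.toFinite {z | ∃ n ∈ K, z = n * y * n⁻¹}).toFinset

theorem mem_covOrb {y z : E} : z ∈ covOrb K y ↔ ∃ n ∈ K, z = n * y * n⁻¹ := by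
  simp [covOrb]

/-- Size of the `K`-orbit of `y`. -/
noncomputable def covS (y : E) : ℕ := (covOrb K y).card

theorem self_mem_covOrb (y : E) : y ∈ covOrb K y :=
  (mem_covOrb K).2 ⟨1, K.one_mem, by simp⟩

theorem covS_pos (y : E) : 0 < covS K y :=
  Finset.card_pos.2 ⟨y, self_mem_covOrb K y⟩

theorem covOrb_conj {k y z : E} (hk : k ∈ K) (hz : z ∈ covOrb K y) : k * z * k⁻¹ ∈ covOrb K y := by
  obtain ⟨n, hn, rfl⟩ := (mem_covOrb K).1 hz
  exact (mem_covOrb K).2 ⟨k * n, K.mul_mem hk hn, by group⟩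

theorem covS_one : covS K (1 : E) = 1 := by
  classical
  have : covOrb K (1 : E) = {1} := by
    ext z
    rw [mem_covOrb, Finset.mem_singleton]
    constructor
    · rintro ⟨n, -, rfl⟩; simp
    · rintro rfl; exact ⟨1, K.one_mem, by simp⟩
  rw [covS, this, Finset.card_singleton]

theorem covS_inv (y : E) : covS K y⁻¹ = covS K y := by
  classical
  refine Finset.card_bij (fun z _ => z⁻¹) ?_ ?_ ?_
  · intro z hz
    obtain ⟨n, hn, rfl⟩ := (mem_covOrb K).1 hz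
    exact (mem_covOrb K).2 ⟨n, hn, by group⟩
  · intro a _ b _ h
    exact inv_injective h
  · intro z hz
    obtain ⟨n, hn, rfl⟩ := (mem_covOrb K).1 hz
    exact ⟨n * y⁻¹ * n⁻¹, (mem_covOrb K).2 ⟨n, hn, rfl⟩, by group⟩

variable {W : Type*} [AddCommGroup W] [Module ℂ W] [FiniteDimensional ℂ W]
  (τ : Representation ℂ E W)

/-- The orbit sum operator. -/
noncomputable def covT (y : E) : Module.End ℂ W := ∑ z ∈ covOrb K y, τ z

/-- The trace function. -/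
noncomputable def covχ (g : E) : ℂ := LinearMap.trace ℂ W (τ g)

/-- The orbit central value. -/
noncomputable def covμ (y : E) : ℂ :=
  (covS K y : ℂ) * covχ τ y / (Module.finrank ℂ W : ℂ)

theorem covχ_conj (n y : E) : covχ τ (n * y * n⁻¹) = covχ τ y := by
  unfold covχ
  have h : τ (n * y * n⁻¹) = τ n * (τ y * τ n⁻¹) := by
    rw [mul_assoc, map_mul, map_mul]
  rw [h, LinearMap.trace_mul_comm, mul_assoc, ← map_mul, ← map_mul]
  simp

theorem covT_comm {k : E} (hk : k ∈ K) (y : E) : covT K τ y ∘ₗ τ k = τ k ∘ₗ covT K τ y := by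
  classical
  show covT K τ y * τ k = τ k * covT K τ y
  unfold covT
  rw [Finset.sum_mul, Finset.mul_sum]
  refine Finset.sum_bij (fun z _ => k⁻¹ * z * k) (fun z hz => ?_) ?_ ?_ ?_
  · have := covOrb_conj K (K.inv_mem hk) hz
    simpa using this
  · intro a _ b _ h
    simpa using h
  · intro z hz
    exact ⟨k * z * k⁻¹, covOrb_conj K hk hz, by group⟩
  · intro z _
    rw [← map_mul, ← map_mul]
    congr 1
    group

theorem covT_eq (hirr : Representation.IsIrreducible (MonoidHom.comp τ K.subtype : Representation ℂ K W))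
    (hd : (Module.finrank ℂ W : ℂ) ≠ 0) (y : E) :
    covT K τ y = covμ K τ y • (1 : Module.End ℂ W) := by
  obtain ⟨c, hc⟩ := H21.schur_scalar _ hirr (covT K τ y) (fun g => covT_comm K τ g.2 y)
  have htr : (covS K y : ℂ) * covχ τ y = c * (Module.finrank ℂ W : ℂ) := by
    have h1 := congrArg (LinearMap.trace ℂ W) hc
    rw [map_smul, LinearMap.trace_one, smul_eq_mul] at h1
    rw [← h1]
    unfold covT covS
    rw [map_sum, Finset.sum_congr rfl (g := fun _ => covχ τ y)]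
    · simp
    · intro z hz
      obtain ⟨n, -, rfl⟩ := (mem_covOrb K).1 hz
      exact covχ_conj τ n y
  have : covμ K τ y = c := by
    unfold covμ
    rw [htr]
    field_simp
  rw [this, hc]

theorem covμ_isIntegral (hirr : Representation.IsIrreducible (MonoidHom.comp τ K.subtype : Representation ℂ K W))
    (hd : (Module.finrank ℂ W : ℂ) ≠ 0) (y : E) : IsIntegral ℤ (covμ K τ y) := by
  classical
  let φ : MonoidAlgebra ℤ E →ₐ[ℤ] Module.End ℂ W := MonoidAlgebra.lift ℤ _ _ τ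
  let a : MonoidAlgebra ℤ E := ∑ z ∈ covOrb K y, MonoidAlgebra.single z 1
  have h1 : IsIntegral ℤ a := IsIntegral.of_finite ℤ a
  have h2 : φ a = covT K τ y := by
    simp [a, φ, covT, map_sum, MonoidAlgebra.lift_single]
  have h3 : IsIntegral ℤ (covT K τ y) := by
    rw [← h2]
    exact h1.map φ
  rw [covT_eq K τ hirr hd y] at h3
  haveI : Nontrivial W := by
    by_contra h
    rw [not_nontrivial_iff_subsingleton] at h
    apply hd
    rw [Module.finrank_zero_of_subsingleton]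
    simp
  have h4 : covμ K τ y • (1 : Module.End ℂ W) = algebraMap ℂ (Module.End ℂ W) (covμ K τ y) := by
    rw [Algebra.algebraMap_eq_smul_one]
  rw [h4] at h3
  exact (isIntegral_algebraMap_iff (FaithfulSMul.algebraMap_injective ℂ (Module.End ℂ W))).1 h3

theorem covμ_one (hd : (Module.finrank ℂ W : ℂ) ≠ 0) : covμ K τ (1 : E) = 1 := by
  unfold covμ covχ
  rw [covS_one, map_one, LinearMap.trace_one]
  simp only [Nat.cast_one, one_mul]
  exact div_self hd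

theorem covTriple_sum (hirr : Representation.IsIrreducible (MonoidHom.comp τ K.subtype : Representation ℂ K W))
    (hd : (Module.finrank ℂ W : ℂ) ≠ 0) (g₁ g₂ g₃ : E) :
    covμ K τ g₁ * covμ K τ g₂ * covμ K τ g₃ * (Module.finrank ℂ W : ℂ) =
      ∑ t ∈ covOrb K g₁ ×ˢ (covOrb K g₂ ×ˢ covOrb K g₃), covχ τ (t.1 * t.2.1 * t.2.2) := by
  have h1 : covT K τ g₁ * covT K τ g₂ * covT K τ g₃ =
      (covμ K τ g₁ * covμ K τ g₂ * covμ K τ g₃) • (1 : Module.End ℂ W) := by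
    rw [covT_eq K τ hirr hd g₁, covT_eq K τ hirr hd g₂, covT_eq K τ hirr hd g₃]
    simp only [mul_smul_comm, mul_one, smul_smul]
    congr 1
    ring
  have h2 := congrArg (LinearMap.trace ℂ W) h1
  rw [map_smul, LinearMap.trace_one, smul_eq_mul] at h2
  rw [← h2]
  have h3 : covT K τ g₁ * covT K τ g₂ * covT K τ g₃ =
      ∑ t ∈ covOrb K g₁ ×ˢ (covOrb K g₂ ×ˢ covOrb K g₃), τ (t.1 * t.2.1 * t.2.2) := by
    unfold covT
    rw [Finset.sum_product, Finset.sum_mul, Finset.sum_mul]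
    refine Finset.sum_congr rfl fun z₁ _ => ?_
    rw [Finset.sum_product, Finset.mul_sum (covOrb K g₂), Finset.sum_mul]
    refine Finset.sum_congr rfl fun z₂ _ => ?_
    rw [Finset.mul_sum]
    refine Finset.sum_congr rfl fun z₃ _ => ?_
    simp only [map_mul]
  rw [h3, map_sum]
  rfl

/-- Hypotheses of the covering core lemma. -/
structure CovHyp (p : ℕ) (M : Ideal AlgInt) (K : Subgroup E) (τ : Representation ℂ E W)
    (κ B : E → ℂ) : Prop where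
  hM : IsPModular p M
  normal : K.Normal
  hirr : Representation.IsIrreducible (MonoidHom.comp τ K.subtype : Representation ℂ K W)
  hd : (Module.finrank ℂ W : ℂ) ≠ 0
  κ_mul : ∀ u ∈ K, ∀ v ∈ K, κ (u * v) = κ u * κ v
  κ_conj : ∀ g : E, ∀ u ∈ K, κ (g * u * g⁻¹) = κ u
  κ_root : ∃ e : ℕ, ¬ p ∣ e ∧ ∀ u ∈ K, κ u ^ e = 1
  χ_eq : ∀ v ∈ K, covχ τ v = κ v * (Module.finrank ℂ W : ℂ) * B v
  hB : ∀ A : E → ℕ, (∀ k ∈ K, ∀ v, A (k * v * k⁻¹) = A v) → (∀ v, v ∉ K → A v = 0) →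
    MemLocalIdeal M (∑ v, (A v : ℂ) * (B v - 1))
  hgood : ∀ g : E, ∃ c : E, g * c⁻¹ ∈ K ∧ ¬ p ∣ covS K c

variable {p : ℕ} {M : Ideal AlgInt} {K} {τ} {κ B : E → ℂ}

namespace CovHyp

variable (h : CovHyp p M K τ κ B)

include h

theorem prime : M.IsPrime := h.hM.2.1.isPrime

theorem κ_ne {u : E} (hu : u ∈ K) : κ u ≠ 0 := by
  obtain ⟨e, he, hr⟩ := h.κ_root
  have he0 : e ≠ 0 := fun h0 => he (h0 ▸ dvd_zero p)
  intro h0
  have := hr u hu
  rw [h0, zero_pow he0] at this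
  exact zero_ne_one this

theorem κ_one : κ 1 = 1 := by
  have h1 := h.κ_mul 1 K.one_mem 1 K.one_mem
  rw [mul_one] at h1
  exact mul_left_cancel₀ (h.κ_ne K.one_mem) (by rw [mul_one]; exact h1.symm)

theorem κ_mlr {u : E} (hu : u ∈ K) : MemLocalRing M (κ u) := by
  obtain ⟨e, he, hr⟩ := h.κ_root
  have he0 : e ≠ 0 := fun h0 => he (h0 ▸ dvd_zero p)
  exact cov_mlr_of_root h.prime he0 (hr u hu)

theorem κ_comm {n : E} (hn : n ∈ K) (g : E) :
    n * (g * n⁻¹ * g⁻¹) ∈ K ∧ κ (n * (g * n⁻¹ * g⁻¹)) = 1 := by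
  haveI := h.normal
  have h1 : g * n⁻¹ * g⁻¹ ∈ K := ‹K.Normal›.conj_mem _ (K.inv_mem hn) g
  refine ⟨K.mul_mem hn h1, ?_⟩
  rw [h.κ_mul n hn _ h1, h.κ_conj g _ (K.inv_mem hn), ← h.κ_mul n hn _ (K.inv_mem hn),
    mul_inv_cancel, h.κ_one]

theorem orbit_form {g z : E} (hz : z ∈ covOrb K g) : ∃ a ∈ K, κ a = 1 ∧ z = a * g := by
  obtain ⟨n, hn, rfl⟩ := (mem_covOrb K).1 hz
  refine ⟨n * (g * n⁻¹ * g⁻¹), (h.κ_comm hn g).1, (h.κ_comm hn g).2, by group⟩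

theorem triple_κ {g₁ g₂ g₃ z₁ z₂ z₃ : E} (hg : g₁ * g₂ * g₃ ∈ K) (h₁ : z₁ ∈ covOrb K g₁)
    (h₂ : z₂ ∈ covOrb K g₂) (h₃ : z₃ ∈ covOrb K g₃) :
    z₁ * z₂ * z₃ ∈ K ∧ κ (z₁ * z₂ * z₃) = κ (g₁ * g₂ * g₃) := by
  haveI := h.normal
  obtain ⟨a₁, ha₁, hκ₁, rfl⟩ := h.orbit_form h₁
  obtain ⟨a₂, ha₂, hκ₂, rfl⟩ := h.orbit_form h₂
  obtain ⟨a₃, ha₃, hκ₃, rfl⟩ := h.orbit_form h₃
  have e : a₁ * g₁ * (a₂ * g₂) * (a₃ * g₃) =
      a₁ * (g₁ * a₂ * g₁⁻¹) * ((g₁ * g₂) * a₃ * (g₁ * g₂)⁻¹) * (g₁ * g₂ * g₃) := by group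
  have m₂ : g₁ * a₂ * g₁⁻¹ ∈ K := ‹K.Normal›.conj_mem _ ha₂ g₁
  have m₃ : (g₁ * g₂) * a₃ * (g₁ * g₂)⁻¹ ∈ K := ‹K.Normal›.conj_mem _ ha₃ _
  have m₁₂ := K.mul_mem ha₁ m₂
  have m₁₂₃ := K.mul_mem m₁₂ m₃
  rw [e]
  refine ⟨K.mul_mem m₁₂₃ hg, ?_⟩
  rw [h.κ_mul _ m₁₂₃ _ hg, h.κ_mul _ m₁₂ _ m₃, h.κ_mul _ ha₁ _ m₂, h.κ_conj _ _ ha₂,
    h.κ_conj _ _ ha₃, hκ₁, hκ₂, hκ₃]
  ring

theorem triple {g₁ g₂ g₃ : E} (hg : g₁ * g₂ * g₃ ∈ K) :
    MemLocalIdeal M (covμ K τ g₁ * covμ K τ g₂ * covμ K τ g₃ -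
      κ (g₁ * g₂ * g₃) * (covS K g₁ * covS K g₂ * covS K g₃ : ℕ)) := by
  classical
  haveI := h.normal
  haveI := h.prime
  set Tri := covOrb K g₁ ×ˢ (covOrb K g₂ ×ˢ covOrb K g₃) with hTri
  set P : E × E × E → E := fun t => t.1 * t.2.1 * t.2.2 with hP
  have hPm : ∀ t ∈ Tri, P t ∈ K ∧ κ (P t) = κ (g₁ * g₂ * g₃) := by
    intro t ht
    simp only [hTri, Finset.mem_product] at ht
    exact h.triple_κ hg ht.1 ht.2.1 ht.2.2
  have hsum := covTriple_sum K τ h.hirr h.hd g₁ g₂ g₃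
  have h1 : ∑ t ∈ Tri, covχ τ (P t) =
      κ (g₁ * g₂ * g₃) * (Module.finrank ℂ W : ℂ) * ∑ t ∈ Tri, B (P t) := by
    rw [Finset.mul_sum]
    refine Finset.sum_congr rfl fun t ht => ?_
    rw [h.χ_eq _ (hPm t ht).1, (hPm t ht).2]
  have h2 : covμ K τ g₁ * covμ K τ g₂ * covμ K τ g₃ =
      κ (g₁ * g₂ * g₃) * ∑ t ∈ Tri, B (P t) := by
    have h3 := h.hd
    apply mul_right_cancel₀ h3
    rw [hsum, h1]
    ring
  have hcard : (Tri.card : ℕ) = covS K g₁ * covS K g₂ * covS K g₃ := by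
    simp [hTri, covS, Finset.card_product, mul_assoc]
  let A : E → ℕ := fun v => (Tri.filter (fun t => P t = v)).card
  have hA1 : ∀ k ∈ K, ∀ v, A (k * v * k⁻¹) = A v := by
    intro k hk v
    refine Finset.card_nbij' (fun t => (k⁻¹ * t.1 * k, k⁻¹ * t.2.1 * k, k⁻¹ * t.2.2 * k))
      (fun t => (k * t.1 * k⁻¹, k * t.2.1 * k⁻¹, k * t.2.2 * k⁻¹)) ?_ ?_ ?_ ?_
    · intro t ht
      simp only [Finset.coe_filter, Set.mem_ofPred_eq, hTri, Finset.mem_product] at ht ⊢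
      obtain ⟨⟨h1, h2, h3⟩, h4⟩ := ht
      have hk' := K.inv_mem hk
      refine ⟨⟨?_, ?_, ?_⟩, ?_⟩
      · simpa using covOrb_conj K hk' h1
      · simpa using covOrb_conj K hk' h2
      · simpa using covOrb_conj K hk' h3
      · simp only [hP] at h4 ⊢
        have : k⁻¹ * t.1 * k * (k⁻¹ * t.2.1 * k) * (k⁻¹ * t.2.2 * k) =
            k⁻¹ * (t.1 * t.2.1 * t.2.2) * k := by group
        rw [this, h4]
        group
    · intro t ht
      simp only [Finset.coe_filter, Set.mem_ofPred_eq, hTri, Finset.mem_product] at ht ⊢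
      obtain ⟨⟨h1, h2, h3⟩, h4⟩ := ht
      refine ⟨⟨covOrb_conj K hk h1, covOrb_conj K hk h2, covOrb_conj K hk h3⟩, ?_⟩
      simp only [hP] at h4 ⊢
      rw [← h4]
      group
    · intro t _
      ext <;> simp <;> group
    · intro t _
      ext <;> simp <;> group
  have hA2 : ∀ v, v ∉ K → A v = 0 := by
    intro v hv
    refine Finset.card_eq_zero.2 (Finset.filter_eq_empty_iff.2 fun t ht hPt => ?_)
    exact hv (hPt ▸ (hPm t ht).1)
  have hB := h.hB A hA1 hA2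
  have h3 : ∑ v, (A v : ℂ) * (B v - 1) = ∑ t ∈ Tri, (B (P t) - 1) := by
    rw [← Finset.sum_fiberwise Tri P]
    refine Finset.sum_congr rfl fun v _ => ?_
    rw [Finset.sum_congr rfl (g := fun _ => B v - 1)]
    · simp [A]
      ring
    · intro t ht
      rw [(Finset.mem_filter.1 ht).2]
  rw [h3, Finset.sum_sub_distrib] at hB
  simp only [Finset.sum_const, nsmul_eq_mul, mul_one] at hB
  rw [hcard] at hB
  rw [h2, ← mul_sub]
  exact mli_mul_left hB (h.κ_mlr hg)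

theorem μ_mlr (g : E) : MemLocalRing M (covμ K τ g) := by
  haveI := h.prime
  exact mlr_of_isIntegral (covμ_isIntegral K τ h.hirr h.hd g)

theorem s_ne {c : E} (hc : ¬ p ∣ covS K c) : (covS K c : ℂ) ≠ 0 := by
  exact_mod_cast (covS_pos K c).ne'

theorem triple_inv {c : E} :
    MemLocalIdeal M (covμ K τ c * covμ K τ c⁻¹ - (covS K c : ℂ) ^ 2) := by
  haveI := h.prime
  have h1 := h.triple (g₁ := c) (g₂ := c⁻¹) (g₃ := 1) (by simp [K.one_mem])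
  rw [covμ_one K τ h.hd, covS_one, covS_inv] at h1
  simp only [mul_one, mul_inv_cancel, h.κ_one, one_mul] at h1
  rw [pow_two]
  push_cast at h1
  exact h1

theorem stepE {g c : E} (hk : g * c⁻¹ ∈ K) (hc : ¬ p ∣ covS K c) :
    MemLocalIdeal M (covμ K τ g - covS K g * (κ (g * c⁻¹) * covμ K τ c / covS K c)) := by
  haveI := h.prime
  have hinv : MemLocalRing M ((covS K c : ℂ)⁻¹) := mlr_inv_natCast h.hM hc
  have ht := h.s_ne hc
  have h1 := h.triple (g₁ := g) (g₂ := c⁻¹) (g₃ := 1) (by simpa using hk)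
  rw [covμ_one K τ h.hd, covS_one, covS_inv] at h1
  simp only [mul_one] at h1
  have h2 := h.triple_inv (c := c)
  have h3 : covμ K τ g - covS K g * (κ (g * c⁻¹) * covμ K τ c / covS K c) =
      (covμ K τ g * ((covS K c : ℂ) ^ 2 - covμ K τ c * covμ K τ c⁻¹) +
        covμ K τ c * (covμ K τ g * covμ K τ c⁻¹ - κ (g * c⁻¹) * ((covS K g * covS K c : ℕ) : ℂ))) *
        ((covS K c : ℂ)⁻¹ * (covS K c : ℂ)⁻¹) := by
    push_cast
    field_simp
    ring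
  rw [h3]
  refine mli_mul_right (mli_add (mli_mul_left ?_ (h.μ_mlr g)) (mli_mul_left h1 (h.μ_mlr c)))
    (mlr_mul hinv hinv)
  have := mli_neg h2
  rwa [neg_sub] at this

theorem stepF {g k c₁ c₂ c₃ : E} (h₁ : g * c₁⁻¹ ∈ K) (h₂ : k * c₂⁻¹ ∈ K) (h₃ : g * k * c₃⁻¹ ∈ K)
    (t₁ : ¬ p ∣ covS K c₁) (t₂ : ¬ p ∣ covS K c₂) (t₃ : ¬ p ∣ covS K c₃) :
    MemLocalIdeal M (κ (g * k * c₃⁻¹) * covμ K τ c₃ / covS K c₃ -
      (κ (g * c₁⁻¹) * covμ K τ c₁ / covS K c₁) * (κ (k * c₂⁻¹) * covμ K τ c₂ / covS K c₂)) := by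
  haveI := h.prime
  haveI := h.normal
  have i₁ : MemLocalRing M ((covS K c₁ : ℂ)⁻¹) := mlr_inv_natCast h.hM t₁
  have i₂ : MemLocalRing M ((covS K c₂ : ℂ)⁻¹) := mlr_inv_natCast h.hM t₂
  have i₃ : MemLocalRing M ((covS K c₃ : ℂ)⁻¹) := mlr_inv_natCast h.hM t₃
  have n₁ := h.s_ne t₁
  have n₂ := h.s_ne t₂
  have n₃ := h.s_ne t₃
  have hc : c₁ * c₂ * c₃⁻¹ ∈ K := by
    have e : c₁ * c₂ * c₃⁻¹ = (g * c₁⁻¹)⁻¹ * (g * (k * c₂⁻¹)⁻¹ * g⁻¹) * (g * k * c₃⁻¹) := by group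
    rw [e]
    exact K.mul_mem (K.mul_mem (K.inv_mem h₁) (‹K.Normal›.conj_mem _ (K.inv_mem h₂) g)) h₃
  have hκ : κ (g * k * c₃⁻¹) = κ (g * c₁⁻¹) * κ (k * c₂⁻¹) * κ (c₁ * c₂ * c₃⁻¹) := by
    have e : g * k * c₃⁻¹ = (g * c₁⁻¹) * (c₁ * (k * c₂⁻¹) * c₁⁻¹) * (c₁ * c₂ * c₃⁻¹) := by group
    have m : c₁ * (k * c₂⁻¹) * c₁⁻¹ ∈ K := ‹K.Normal›.conj_mem _ h₂ c₁
    rw [e, h.κ_mul _ (K.mul_mem h₁ m) _ hc, h.κ_mul _ h₁ _ m, h.κ_conj _ _ h₂]
  have T1 := h.triple hc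
  rw [covS_inv] at T1
  have T2 := h.triple_inv (c := c₃)
  have hw : MemLocalRing M (κ (g * c₁⁻¹) * κ (k * c₂⁻¹)) := mlr_mul (h.κ_mlr h₁) (h.κ_mlr h₂)
  have e : κ (g * k * c₃⁻¹) * covμ K τ c₃ / covS K c₃ -
      (κ (g * c₁⁻¹) * covμ K τ c₁ / covS K c₁) * (κ (k * c₂⁻¹) * covμ K τ c₂ / covS K c₂) =
      (-(κ (g * c₁⁻¹) * κ (k * c₂⁻¹))) *
        (covμ K τ c₃ * (covμ K τ c₁ * covμ K τ c₂ * covμ K τ c₃⁻¹ -
            κ (c₁ * c₂ * c₃⁻¹) * ((covS K c₁ * covS K c₂ * covS K c₃ : ℕ) : ℂ)) -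
          covμ K τ c₁ * covμ K τ c₂ * (covμ K τ c₃ * covμ K τ c₃⁻¹ - (covS K c₃ : ℂ) ^ 2)) *
        ((covS K c₁ : ℂ)⁻¹ * (covS K c₂ : ℂ)⁻¹ * ((covS K c₃ : ℂ)⁻¹ * (covS K c₃ : ℂ)⁻¹)) := by
    rw [hκ]
    push_cast
    field_simp
    ring
  rw [e]
  refine mli_mul_right (mli_mul_left (mli_sub (mli_mul_left T1 (h.μ_mlr _))
    (mli_mul_left T2 (mlr_mul (h.μ_mlr _) (h.μ_mlr _)))) (mlr_neg hw))
    (mlr_mul (mlr_mul i₁ i₂) (mlr_mul i₃ i₃))

theorem stepH {v c : E} (hv : v ∈ K) (hk : v * c⁻¹ ∈ K) (hc : ¬ p ∣ covS K c) :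
    MemLocalIdeal M (κ (v * c⁻¹) * covμ K τ c / covS K c - κ v) := by
  haveI := h.prime
  have i : MemLocalRing M ((covS K c : ℂ)⁻¹) := mlr_inv_natCast h.hM hc
  have n := h.s_ne hc
  have hcK : c ∈ K := by
    have : c = (v * c⁻¹)⁻¹ * v := by group
    rw [this]
    exact K.mul_mem (K.inv_mem hk) hv
  have T := h.triple (g₁ := c) (g₂ := 1) (g₃ := 1) (by simpa using hcK)
  rw [covμ_one K τ h.hd, covS_one] at T
  simp only [mul_one] at T
  have hκ : κ v = κ (v * c⁻¹) * κ c := by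
    rw [← h.κ_mul _ hk _ hcK]; simp
  have e : κ (v * c⁻¹) * covμ K τ c / covS K c - κ v =
      κ (v * c⁻¹) * (covμ K τ c - κ c * (covS K c : ℂ)) * (covS K c : ℂ)⁻¹ := by
    rw [hκ]
    field_simp
  rw [e]
  exact mli_mul_right (mli_mul_left T (h.κ_mlr hk)) i

/-- The covering core lemma. -/
theorem core : ∃ (Λ : E →* ℂˣ) (e : ℕ), ¬ p ∣ e ∧ (∀ g, (Λ g : ℂ) ^ e = 1) ∧
    (∀ v ∈ K, (Λ v : ℂ) = κ v) ∧
    ∀ g, MemLocalIdeal M (covμ K τ g - covS K g * (Λ g : ℂ)) := by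
  classical
  haveI := h.prime
  choose c hc hc' using h.hgood
  set N0 : E → ℂ := fun g => κ (g * (c g)⁻¹) * covμ K τ (c g) / covS K (c g) with hN0
  have hr : ∀ g, MemLocalRing M (N0 g) := fun g => by
    have i : MemLocalRing M ((covS K (c g) : ℂ)⁻¹) := mlr_inv_natCast h.hM (hc' g)
    simp only [hN0, div_eq_mul_inv]
    exact mlr_mul (mlr_mul (h.κ_mlr (hc g)) (h.μ_mlr _)) i
  have hm : ∀ g k, MemLocalIdeal M (N0 (g * k) - N0 g * N0 k) := fun g k =>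
    h.stepF (hc g) (hc k) (hc (g * k)) (hc' g) (hc' k) (hc' (g * k))
  have hH : ∀ v ∈ K, MemLocalIdeal M (N0 v - κ v) := fun v hv =>
    h.stepH hv (hc v) (hc' v)
  have h1 : MemLocalIdeal M (N0 1 - 1) := by
    have := hH 1 K.one_mem
    rwa [h.κ_one] at this
  obtain ⟨Λ, e, he, hΛ, hΛ'⟩ := cov_lift h.hM N0 hr hm h1
  refine ⟨Λ, e, he, hΛ, ?_, ?_⟩
  · intro v hv
    obtain ⟨e', he', hr'⟩ := h.κ_root
    have hpp : ¬ p ∣ e * e' := fun hd => ((Nat.Prime.dvd_mul h.hM.1).1 hd).elim he he'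
    refine cov_root_sep' h.hM hpp ?_ ?_ ?_
    · rw [pow_mul, hΛ, one_pow]
    · rw [mul_comm, pow_mul, hr' v hv, one_pow]
    · have h2 := mli_sub (hH v hv) (hΛ' v)
      rwa [show N0 v - κ v - (N0 v - (Λ v : ℂ)) = (Λ v : ℂ) - κ v by ring] at h2
  · intro g
    have h2 := h.stepE (hc g) (hc' g)
    have h3 := mli_mul_left (hΛ' g) (mlr_natCast (M := M) (covS K g))
    have h4 := mli_add h2 h3
    rwa [show covμ K τ g - (covS K g : ℂ) * (κ (g * (c g)⁻¹) * covμ K τ (c g) / (covS K (c g) : ℂ)) +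
      (covS K g : ℂ) * (N0 g - (Λ g : ℂ)) = covμ K τ g - (covS K g : ℂ) * (Λ g : ℂ) by
        simp only [hN0]; ring] at h4

end CovHyp

end Core

end Cfsg.Agent.H23
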