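import Cfsg.Agent.Lib.H22.PiKer

/-!
# Lifting a multiplicative map modulo `M` to a linear character (helper23)
-/

set_option autoImplicit false
set_option linter.unusedSectionVars false
set_option linter.style.haveILetI false

namespace Cfsg.Agent.H23

open Cfsg Cfsg.Agent.H22

section Lift

variable {p : ℕ} {M : Ideal AlgInt}

theorem cov_mlr_of_root (hP : M.IsPrime) {e : ℕ} (he : e ≠ 0) {ω : ℂ} (hω : ω ^ e = 1) :
    MemLocalRing M ω := by
  haveI := hP
  refine mlr_of_isIntegral ?_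
  refine IsIntegral.of_pow (Nat.pos_of_ne_zero he) ?_
  rw [hω]
  exact isIntegral_one

/-- Roots of unity of order prime to `p` are separated modulo `M`. -/
theorem cov_root_sep (hM : IsPModular p M) {e : ℕ} (he : ¬ p ∣ e) {ω : ℂ} (hω : ω ^ e = 1)
    (h : MemLocalIdeal M (ω - 1)) : ω = 1 := by
  haveI hP : M.IsPrime := hM.2.1.isPrime
  have he0 : e ≠ 0 := fun h0 => he (h0 ▸ dvd_zero p)
  have hωr : MemLocalRing M ω := cov_mlr_of_root hP he0 hω
  by_contra hne
  have h0 : ∑ i ∈ Finset.range e, ω ^ i = 0 := by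
    have h1 := geom_sum_mul ω e
    rw [hω, sub_self] at h1
    exact (mul_eq_zero.1 h1).resolve_right (sub_ne_zero.2 hne)
  have hpow : ∀ i : ℕ, MemLocalIdeal M (ω ^ i - 1) := by
    intro i
    have h1 := geom_sum_mul ω i
    rw [← h1]
    exact mli_mul_left h (mlr_sum _ _ fun j _ => by
      rw [show ω ^ j = ∏ _k ∈ Finset.range j, ω by simp]
      exact mlr_prod _ _ fun _ _ => hωr)
  have hsum : MemLocalIdeal M (∑ i ∈ Finset.range e, (ω ^ i - 1)) :=
    mli_sum _ _ fun i _ => hpow i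
  rw [Finset.sum_sub_distrib, h0] at hsum
  simp only [Finset.sum_const, Finset.card_range, nsmul_eq_mul, mul_one, zero_sub] at hsum
  have := mli_neg hsum
  rw [neg_neg] at this
  exact he ((mli_natCast_iff hM e).1 this)

theorem cov_root_sep' (hM : IsPModular p M) {e : ℕ} (he : ¬ p ∣ e) {x y : ℂ} (hx : x ^ e = 1)
    (hy : y ^ e = 1) (h : MemLocalIdeal M (x - y)) : x = y := by
  haveI hP : M.IsPrime := hM.2.1.isPrime
  have he0 : e ≠ 0 := fun h0 => he (h0 ▸ dvd_zero p)
  have hy0 : y ≠ 0 := by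
    intro h0
    rw [h0, zero_pow he0] at hy
    exact zero_ne_one hy
  have hyi : MemLocalRing M y⁻¹ := by
    refine cov_mlr_of_root hP he0 (e := e) ?_
    rw [inv_pow, hy, inv_one]
  have hω : (x * y⁻¹) ^ e = 1 := by rw [mul_pow, inv_pow, hx, hy]; simp
  have h2 : MemLocalIdeal M (x * y⁻¹ - 1) := by
    have := mli_mul_right h hyi
    rwa [sub_mul, mul_inv_cancel₀ hy0] at this
  have := cov_root_sep hM he hω h2
  field_simp at this
  exact this

theorem cov_mli_prod {ι : Type*} (hP : M.IsPrime) (s : Finset ι) (f : ι → ℂ)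
    (hf : ∀ i ∈ s, MemLocalRing M (f i))
    (h : MemLocalIdeal M (∏ i ∈ s, f i)) : ∃ i ∈ s, MemLocalIdeal M (f i) := by
  classical
  haveI := hP
  induction s using Finset.induction_on with
  | empty =>
    rw [Finset.prod_empty] at h
    exact absurd h not_mli_one
  | insert a s ha ih =>
    rw [Finset.prod_insert ha] at h
    rcases (mli_mul_iff (hf a (Finset.mem_insert_self a s))
      (mlr_prod _ _ fun i hi => hf i (Finset.mem_insert_of_mem hi))).1 h with h1 | h1
    · exact ⟨a, Finset.mem_insert_self a s, h1⟩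
    · obtain ⟨i, hi, h2⟩ := ih (fun i hi => hf i (Finset.mem_insert_of_mem hi)) h1
      exact ⟨i, Finset.mem_insert_of_mem hi, h2⟩

/-- An element with `x^e ≡ 1` is congruent to an `e`-th root of unity. -/
theorem cov_exists_root (hP : M.IsPrime) {e : ℕ} (he : e ≠ 0) {x : ℂ} (hx : MemLocalRing M x)
    (h : MemLocalIdeal M (x ^ e - 1)) : ∃ ζ : ℂ, ζ ^ e = 1 ∧ MemLocalIdeal M (x - ζ) := by
  classical
  haveI := hP
  have hprim : IsPrimitiveRoot (Complex.exp (2 * Real.pi * Complex.I / e)) e :=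
    Complex.isPrimitiveRoot_exp e he
  have hfac := Polynomial.X_pow_sub_one_eq_prod (Nat.pos_of_ne_zero he) hprim
  have heval := congrArg (Polynomial.eval x) hfac
  simp only [Polynomial.eval_sub, Polynomial.eval_pow, Polynomial.eval_X, Polynomial.eval_one,
    Polynomial.eval_prod, Polynomial.eval_C] at heval
  rw [heval] at h
  obtain ⟨ζ, hζ, h1⟩ := cov_mli_prod hP _ (fun ζ => x - ζ) (fun ζ hζ => by
    refine mlr_sub hx (cov_mlr_of_root hP he (e := e) ?_)
    exact (Polynomial.mem_nthRootsFinset (Nat.pos_of_ne_zero he) 1).1 hζ) h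
  exact ⟨ζ, (Polynomial.mem_nthRootsFinset (Nat.pos_of_ne_zero he) 1).1 hζ, h1⟩

/-- Frobenius: `y ^ (p ^ a) ≡ 1` gives `y ≡ 1`. -/
theorem cov_frobenius (hM : IsPModular p M) {y : ℂ} (hy : MemLocalRing M y) (a : ℕ)
    (h : MemLocalIdeal M (y ^ p ^ a - 1)) : MemLocalIdeal M (y - 1) := by
  haveI hP : M.IsPrime := hM.2.1.isPrime
  have hu : MemLocalRing M (y - 1) := mlr_sub hy mlr_one
  obtain ⟨r, hr⟩ := exists_add_pow_prime_pow_eq hM.1 (⟨y - 1, hu⟩ : locR M) (1 : locR M) a
  have hr' := congrArg (fun z : locR M => (z : ℂ)) hr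
  simp only [Subring.coe_add, Subring.coe_pow, Subring.coe_mul, Subring.coe_one, one_pow, mul_one,
    map_natCast, Subring.coe_natCast] at hr'
  rw [sub_add_cancel] at hr'
  have hp : MemLocalIdeal M (p : ℂ) := (mli_natCast_iff hM p).2 dvd_rfl
  have h1 : MemLocalIdeal M ((y - 1) ^ p ^ a) := by
    have h2 : (y - 1) ^ p ^ a = (y ^ p ^ a - 1) - (p : ℂ) * (y - 1) * (r : ℂ) := by
      rw [hr']; ring
    rw [h2]
    refine mli_sub h ?_
    exact mli_mul_right (mli_mul_right hp hu) r.2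
  exact mli_of_pow hu h1

theorem cov_lift {E : Type*} [Group E] [Finite E] (hM : IsPModular p M) (N0 : E → ℂ)
    (hr : ∀ g, MemLocalRing M (N0 g))
    (hm : ∀ g h, MemLocalIdeal M (N0 (g * h) - N0 g * N0 h))
    (h1 : MemLocalIdeal M (N0 1 - 1)) :
    ∃ (Λ : E →* ℂˣ) (e : ℕ), ¬ p ∣ e ∧ (∀ g, (Λ g : ℂ) ^ e = 1) ∧
      ∀ g, MemLocalIdeal M (N0 g - Λ g) := by
  classical
  haveI hP : M.IsPrime := hM.2.1.isPrime
  obtain ⟨a, e, he, hn⟩ : ∃ a e : ℕ, ¬ p ∣ e ∧ Nat.card E = p ^ a * e :=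
    let h := Nat.exists_eq_pow_mul_and_not_dvd (Nat.card_pos (α := E)).ne' p hM.1.ne_one
    ⟨h.choose, h.choose_spec.choose, h.choose_spec.choose_spec.1, h.choose_spec.choose_spec.2⟩
  have he0 : e ≠ 0 := fun h0 => he (h0 ▸ dvd_zero p)
  have hpow : ∀ (g : E) (k : ℕ), MemLocalIdeal M (N0 (g ^ k) - N0 g ^ k) := by
    intro g k
    induction k with
    | zero => simpa using h1
    | succ k ih =>
      have h2 := hm (g ^ k) g
      have h3 : N0 (g ^ (k + 1)) - N0 g ^ (k + 1) =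
          (N0 (g ^ k * g) - N0 (g ^ k) * N0 g) + (N0 (g ^ k) - N0 g ^ k) * N0 g := by
        rw [pow_succ, pow_succ]; ring
      rw [h3]
      exact mli_add h2 (mli_mul_right ih (hr g))
  have hroot : ∀ g : E, ∃ ζ : ℂ, ζ ^ e = 1 ∧ MemLocalIdeal M (N0 g - ζ) := by
    intro g
    have hg : g ^ Nat.card E = 1 := pow_card_eq_one'
    have h2 := hpow g (Nat.card E)
    rw [hg] at h2
    have h3 : MemLocalIdeal M (N0 g ^ Nat.card E - 1) := by
      have := mli_sub h1 h2
      rwa [show N0 1 - 1 - (N0 1 - N0 g ^ Nat.card E) = N0 g ^ Nat.card E - 1 by ring] at this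
    have hxr : ∀ k : ℕ, MemLocalRing M (N0 g ^ k) := fun k => by
      rw [show N0 g ^ k = ∏ _i ∈ Finset.range k, N0 g by simp]
      exact mlr_prod _ _ fun _ _ => hr g
    rw [hn, mul_comm, pow_mul] at h3
    have h4 := cov_frobenius hM (hxr e) a h3
    exact cov_exists_root hP he0 (hr g) h4
  choose ζ hζ hζ' using hroot
  have hζne : ∀ g, ζ g ≠ 0 := fun g h0 => by
    have := hζ g
    rw [h0, zero_pow he0] at this
    exact zero_ne_one this
  have hmul : ∀ g h, ζ (g * h) = ζ g * ζ h := by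
    intro g h
    refine cov_root_sep' hM he (hζ _) (by rw [mul_pow, hζ, hζ, one_mul]) ?_
    have hrr : ∀ g, MemLocalRing M (ζ g) := fun g => cov_mlr_of_root hP he0 (hζ g)
    have h2 : ζ (g * h) - ζ g * ζ h =
        -(N0 (g * h) - ζ (g * h)) + (N0 (g * h) - N0 g * N0 h) +
          (N0 g - ζ g) * N0 h + ζ g * (N0 h - ζ h) := by ring
    rw [h2]
    exact mli_add (mli_add (mli_add (mli_neg (hζ' _)) (hm g h)) (mli_mul_right (hζ' g) (hr h)))
      (mli_mul_left (hζ' h) (hrr g))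
  have hone : ζ 1 = 1 := by
    have h2 := hmul 1 1
    rw [mul_one] at h2
    exact mul_left_cancel₀ (hζne 1) (by rw [mul_one]; exact h2.symm)
  let f : E →* ℂ :=
    { toFun := ζ
      map_one' := hone
      map_mul' := hmul }
  refine ⟨f.toHomUnits, e, he, fun g => ?_, fun g => ?_⟩
  · rw [MonoidHom.coe_toHomUnits]; exact hζ g
  · rw [MonoidHom.coe_toHomUnits]; exact hζ' g

end Lift

end Cfsg.Agent.H23
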