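import Cfsg.Agent.Lib.H23.LinInd

set_option autoImplicit false

namespace Cfsg.Agent.H23

open Cfsg Cfsg.Agent.H21 Cfsg.Agent.H06
open scoped ComplexConjugate

universe u

section GO

variable {H : Type u} [Group H] [Fintype H]

/-- Generalized orthogonality. -/
theorem sum_char_shift_conj (μ ξ : IrrCharacter H) (x : H) :
    ∑ h : H, μ.1 (x * h) * conj (ξ.1 h) =
      if μ = ξ then (Nat.card H : ℂ) / μ.1 1 * μ.1 x else 0 := by
  classical
  have hHne : (Nat.card H : ℂ) ≠ 0 := by exact_mod_cast Nat.card_pos.ne'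
  obtain ⟨μ, d, σ, hσ, rfl⟩ := μ
  have h1 : (σ.character 1) ≠ 0 := irr_one_ne_zero' ⟨d, σ, hσ, rfl⟩
  let T : Module.End ℂ (Fin d → ℂ) := ∑ h : H, conj (ξ.1 h) • σ h
  have hT : ∀ k : H, T ∘ₗ σ k = σ k ∘ₗ T := by
    intro k
    have e1 : T ∘ₗ σ k = ∑ h : H, conj (ξ.1 h) • σ (h * k) := by
      refine LinearMap.ext fun v => ?_
      simp [T, LinearMap.sum_apply, map_mul]
    have e2 : σ k ∘ₗ T = ∑ h : H, conj (ξ.1 h) • σ (k * h) := by
      refine LinearMap.ext fun v => ?_
      simp [T, LinearMap.sum_apply, map_mul, map_sum]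
    rw [e1, e2]
    refine (Fintype.sum_equiv (MulAut.conj k).toEquiv _ _ fun h => ?_).symm
    simp only [MulEquiv.toEquiv_eq_coe, MulEquiv.coe_toEquiv, MulAut.conj_apply]
    rw [isCharacter_conj (isCharacter_of_irr ξ.2)]
    congr 2
    group
  obtain ⟨c, hc⟩ := schur_scalar σ hσ T hT
  have htr : LinearMap.trace ℂ _ T = c * σ.character 1 := by
    have hs : σ 1 = 1 := map_one σ
    rw [hc, map_smul, smul_eq_mul]
    simp only [Representation.character, hs]
  have htr2 : LinearMap.trace ℂ _ T = (Nat.card H : ℂ) * classInner σ.character ξ.1 := by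
    simp only [T, map_sum, map_smul, smul_eq_mul, classInner]
    rw [mul_inv_cancel_left₀ hHne]
    refine Finset.sum_congr rfl fun h _ => ?_
    rw [mul_comm]
    rfl
  have hshift : ∑ h : H, σ.character (x * h) * conj (ξ.1 h) = c * σ.character x := by
    have e1 : σ x ∘ₗ T = c • σ x := by
      rw [hc]
      refine LinearMap.ext fun v => ?_
      simp
    have e2 : LinearMap.trace ℂ _ (σ x ∘ₗ T) = ∑ h : H, σ.character (x * h) * conj (ξ.1 h) := by
      simp only [T]
      have e3 : σ x ∘ₗ (∑ h : H, conj (ξ.1 h) • σ h) = ∑ h : H, conj (ξ.1 h) • σ (x * h) := by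
        refine LinearMap.ext fun v => ?_
        simp [LinearMap.sum_apply, map_mul, map_sum]
      rw [e3, map_sum]
      refine Finset.sum_congr rfl fun h _ => ?_
      rw [map_smul, smul_eq_mul, mul_comm]
      rfl
    rw [← e2, e1, map_smul, smul_eq_mul]
    rfl
  rw [hshift]
  have hcval : c = (Nat.card H : ℂ) * classInner σ.character ξ.1 / σ.character 1 := by
    rw [← htr2, htr]
    field_simp
  rw [hcval]
  have hin := classInner_irr ⟨σ.character, d, σ, hσ, rfl⟩ ξ
  simp only at hin
  rw [hin]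
  split_ifs <;> simp

end GO

section Mult

variable {n : Type*} [Fintype n] [DecidableEq n] {H : Type*} [Group H] [Fintype H]

/-- Averaging over a multiplicative family of matrices. -/
noncomputable def mAvg (B : H → Matrix n n ℂ) : Module.End ℂ (Matrix n n ℂ) :=
  (Nat.card H : ℂ)⁻¹ • ∑ h : H, sandwichL (B h)

theorem sandwich_mAvg {B : H → Matrix n n ℂ} (hB : ∀ h k, B (h * k) = B h * B k) (g : H) :
    (sandwichL (B g) : Module.End ℂ _) * mAvg B = mAvg B := by
  unfold mAvg
  rw [mul_smul_comm, Finset.mul_sum]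
  simp only [Module.End.mul_eq_comp, sandwich_mul, ← hB]
  congr 1
  exact Fintype.sum_equiv (Equiv.mulLeft g) _ _ fun x => rfl

theorem mAvg_idem {B : H → Matrix n n ℂ} (hB : ∀ h k, B (h * k) = B h * B k) :
    mAvg B * mAvg B = mAvg B := by
  have hne : (Nat.card H : ℂ) ≠ 0 := by exact_mod_cast Nat.card_pos.ne'
  conv_lhs => lhs; unfold mAvg
  rw [smul_mul_assoc, Finset.sum_mul]
  simp only [sandwich_mAvg hB]
  rw [Finset.sum_const, Finset.card_univ, ← Nat.card_eq_fintype_card, ← Nat.cast_smul_eq_nsmul ℂ,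
    smul_smul, inv_mul_cancel₀ hne, one_smul]

theorem mAvg_comm (B : H → Matrix n n ℂ) :
    (transposeL : Module.End ℂ _) * mAvg B = mAvg B * transposeL := by
  unfold mAvg
  rw [mul_smul_comm, smul_mul_assoc, Finset.mul_sum, Finset.sum_mul]
  simp only [Module.End.mul_eq_comp, transpose_sandwich_comm]

theorem trace_mAvg (B : H → Matrix n n ℂ) : LinearMap.trace ℂ _ (mAvg B) =
    (Nat.card H : ℂ)⁻¹ * ∑ h : H, (B h).trace ^ 2 := by
  unfold mAvg
  rw [map_smul, map_sum, smul_eq_mul]
  simp only [trace_sandwich]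

theorem trace_transpose_mAvg {B : H → Matrix n n ℂ} (hB : ∀ h k, B (h * k) = B h * B k) :
    LinearMap.trace ℂ _ ((transposeL : Module.End ℂ _) * mAvg B) =
    (Nat.card H : ℂ)⁻¹ * ∑ h : H, (B (h * h)).trace := by
  unfold mAvg
  rw [mul_smul_comm, Finset.mul_sum, map_smul, map_sum, smul_eq_mul]
  simp only [Module.End.mul_eq_comp, trace_transpose_sandwich, hB]

/-- If the traces agree then the whole image is symmetric. -/
theorem transpose_mAvg_eq {B : H → Matrix n n ℂ} (hB : ∀ h k, B (h * k) = B h * B k)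
    (ht : LinearMap.trace ℂ _ (mAvg B) =
      LinearMap.trace ℂ _ ((transposeL : Module.End ℂ _) * mAvg B)) :
    (transposeL : Module.End ℂ _) * mAvg B = mAvg B := by
  have h1 : (transposeL : Module.End ℂ (Matrix n n ℂ)) * transposeL = 1 := transpose_transpose_L
  have hQ := idem_half_aux (mAvg B) (transposeL : Module.End ℂ _) h1 (mAvg_comm B) (mAvg_idem hB) (-1)
    (by norm_num)
  have h2 : LinearMap.trace ℂ _ ((1/2 : ℂ) • (mAvg B + (-1 : ℂ) • ((transposeL : Module.End ℂ _) * mAvg B))) = 0 := by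
    rw [map_smul, map_add, map_smul, ← ht, smul_eq_mul, smul_eq_mul]
    ring
  have h3 := LinearMap.IsIdempotentElem.eq_zero_of_trace_eq_zero hQ h2
  have h4 : mAvg B + (-1 : ℂ) • ((transposeL : Module.End ℂ _) * mAvg B) = 0 := by
    have h5 := smul_eq_zero.1 h3
    rcases h5 with h5 | h5
    · norm_num at h5
    · exact h5
  have h6 : ∀ {R : Type _} [Ring R] [Algebra ℂ R] (P Q : R), P + (-1 : ℂ) • Q = 0 → Q = P := by
    intro R _ _ P Q h
    have h7 : (-1 : ℂ) • Q = -Q := by simp
    rw [h7, add_neg_eq_zero] at h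
    exact h.symm
  exact h6 _ _ h4

end Mult

section Sign

variable {G : Type u} [Group G] [Fintype G] (K : Subgroup G) [Fintype K]

/-- The projector of a real irreducible character of `K`, in a representation of `G`. -/
noncomputable def projE {n : ℕ} (ρ : Representation ℂ G (Fin n → ℂ)) (ξ : IrrCharacter K) :
    Matrix (Fin n) (Fin n) ℂ :=
  (ξ.1 1 / (Nat.card K : ℂ)) • ∑ h : K, ξ.1 h • repMat ρ (h : G)

variable {K} {n : ℕ} (ρ : Representation ℂ G (Fin n → ℂ)) (ξ : IrrCharacter K)

theorem repMat_one : repMat ρ 1 = 1 := by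
  simp [repMat]

theorem projE_comm (x : K) : repMat ρ (x : G) * projE K ρ ξ = projE K ρ ξ * repMat ρ (x : G) := by
  unfold projE
  rw [mul_smul_comm, smul_mul_assoc, Finset.mul_sum, Finset.sum_mul]
  congr 1
  simp only [mul_smul_comm, smul_mul_assoc, ← repMat_mul]
  refine Fintype.sum_equiv (MulAut.conj x).toEquiv _ _ fun h => ?_
  simp only [MulEquiv.toEquiv_eq_coe, MulEquiv.coe_toEquiv, MulAut.conj_apply]
  rw [isCharacter_conj (isCharacter_of_irr ξ.2)]
  congr 2
  simp

theorem sum_convolution (ξ : IrrCharacter K) (y : K) :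
    ∑ h : K, ξ.1 h * ξ.1 (h⁻¹ * y) = (Nat.card K : ℂ) / ξ.1 1 * ξ.1 y := by
  classical
  have h2 := sum_char_shift_conj ξ ξ y
  rw [if_pos rfl] at h2
  rw [← h2]
  refine Fintype.sum_equiv (Equiv.mulLeft y⁻¹) _ _ fun h => ?_
  simp only [Equiv.coe_mulLeft, mul_inv_cancel_left]
  rw [← isCharacter_inv (isCharacter_of_irr ξ.2)]
  congr 2
  group

theorem projE_idem : projE K ρ ξ * projE K ρ ξ = projE K ρ ξ := by
  classical
  have hKne : (Nat.card K : ℂ) ≠ 0 := by exact_mod_cast Nat.card_pos.ne'
  have h1 := irr_one_ne_zero' ξ.2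
  set c : ℂ := ξ.1 1 / (Nat.card K : ℂ) with hc
  have hc0 : c ≠ 0 := div_ne_zero h1 hKne
  have hexp : (∑ h : K, ξ.1 h • repMat ρ (h : G)) * (∑ k : K, ξ.1 k • repMat ρ (k : G))
      = c⁻¹ • ∑ y : K, ξ.1 y • repMat ρ (y : G) := by
    rw [Finset.sum_mul]
    simp only [Finset.mul_sum, mul_smul_comm, smul_mul_assoc, ← repMat_mul]
    have h2 : ∀ h : K, ∑ k : K, ξ.1 k • ξ.1 h • repMat ρ ((h : G) * (k : G))
        = ∑ y : K, (ξ.1 h * ξ.1 (h⁻¹ * y)) • repMat ρ (y : G) := by
      intro h
      refine Fintype.sum_equiv (Equiv.mulLeft h) _ _ fun k => ?_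
      simp only [Equiv.coe_mulLeft, inv_mul_cancel_left, Subgroup.coe_mul, smul_smul]
      rw [mul_comm]
    simp only [h2]
    rw [Finset.sum_comm, Finset.smul_sum]
    refine Finset.sum_congr rfl fun y _ => ?_
    rw [← Finset.sum_smul, sum_convolution, smul_smul, hc, inv_div]
  unfold projE
  rw [smul_mul_smul_comm, hexp, smul_smul, ← hc, mul_assoc, mul_inv_cancel₀ hc0, mul_one]

theorem trace_mul_projE [Fintype (IrrCharacter K)] (hr : ∀ k, conj (ξ.1 k) = ξ.1 k)
    (hm : classInner (fun k : K => ρ.character k) ξ.1 = 1) (x : K) :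
    (repMat ρ (x : G) * projE K ρ ξ).trace = ξ.1 x := by
  classical
  have hKne : (Nat.card K : ℂ) ≠ 0 := by exact_mod_cast Nat.card_pos.ne'
  have h1 := irr_one_ne_zero' ξ.2
  have hRc : IsClassFunction K (fun k : K => ρ.character k) :=
    isClassFunction_of_isCharacter (isCharacter_restrict K (isCharacter_of_rep ρ))
  have hexp := classFunction_expansion _ hRc
  have h2 : ∑ h : K, ξ.1 h * ρ.character ((x : G) * (h : G))
      = (Nat.card K : ℂ) / ξ.1 1 * ξ.1 x := by
    have h3 : ∀ h : K, ρ.character ((x : G) * (h : G)) = ∑ μ : IrrCharacter K,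
        classInner (fun k : K => ρ.character k) μ.1 * μ.1 (x * h) := by
      intro h
      have := congrFun hexp (x * h)
      simpa [Finset.sum_apply] using this
    simp only [h3, Finset.mul_sum]
    rw [Finset.sum_comm, Finset.sum_eq_single ξ]
    · have h4 : ∀ h : K, ξ.1 h * (classInner (fun k : K => ρ.character k) ξ.1 * ξ.1 (x * h))
          = ξ.1 (x * h) * conj (ξ.1 h) := by
        intro h
        rw [hm, hr]; ring
      simp only [h4]
      rw [sum_char_shift_conj, if_pos rfl]
    · intro μ _ hμ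
      have h4 : ∀ h : K, ξ.1 h * (classInner (fun k : K => ρ.character k) μ.1 * μ.1 (x * h))
          = classInner (fun k : K => ρ.character k) μ.1 * (μ.1 (x * h) * conj (ξ.1 h)) := by
        intro h
        rw [hr]; ring
      simp only [h4]
      rw [← Finset.mul_sum, sum_char_shift_conj, if_neg hμ, mul_zero]
    · intro h
      exact absurd (Finset.mem_univ _) h
  unfold projE
  rw [mul_smul_comm, Finset.mul_sum, Matrix.trace_smul, Matrix.trace_sum]
  simp only [mul_smul_comm, ← repMat_mul, Matrix.trace_smul, repMat_trace, smul_eq_mul]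
  rw [h2]
  field_simp

/-- Schur's lemma for matrices. -/
theorem schur_matrix (hρ : ρ.IsIrreducible) (T : Matrix (Fin n) (Fin n) ℂ)
    (hT : ∀ k, T * repMat ρ k = repMat ρ k * T) : ∃ κ : ℂ, T = κ • 1 := by
  have h1 : ∀ k, Matrix.toLin' T ∘ₗ ρ k = ρ k ∘ₗ Matrix.toLin' T := by
    intro k
    apply LinearMap.toMatrix'.injective
    rw [LinearMap.toMatrix'_comp, LinearMap.toMatrix'_comp, LinearMap.toMatrix'_toLin']
    exact hT k
  obtain ⟨κ, hκ⟩ := schur_scalar ρ hρ _ h1
  refine ⟨κ, ?_⟩
  have h2 := congrArg LinearMap.toMatrix' hκ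
  rw [LinearMap.toMatrix'_toLin'] at h2
  rw [h2]
  ext i j
  simp [LinearMap.toMatrix'_apply, Matrix.one_apply, Pi.single_apply]

theorem alg_neg_one_smul {R : Type*} [Ring R] [Algebra ℂ R] (Q : R) : (-1 : ℂ) • Q = -Q := by simp

/-- The sign lemma: a real irreducible character with a constituent of multiplicity one and
indicator one has indicator one. -/
theorem fsInd_eq_one_of_mult_one (χ : IrrCharacter G) (hχr : ∀ g, conj (χ.1 g) = χ.1 g)
    (ξ : IrrCharacter K) (hν : fsInd ξ.1 = 1)
    (hm : classInner (fun k : K => χ.1 k) ξ.1 = 1) : fsInd χ.1 = 1 := by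
  classical
  haveI : Fintype (IrrCharacter G) := Fintype.ofFinite _
  haveI : Fintype (IrrCharacter K) := Fintype.ofFinite _
  have hKne : (Nat.card K : ℂ) ≠ 0 := by exact_mod_cast Nat.card_pos.ne'
  have hGne : (Nat.card G : ℂ) ≠ 0 := by exact_mod_cast Nat.card_pos.ne'
  have hξr := real_of_fsInd_ne_zero ξ (by rw [hν]; norm_num)
  rcases fsInd_of_real χ hχr with h | hneg
  · exact h
  exfalso
  have hχnorm : classInner χ.1 χ.1 = 1 := classInner_self_irr χ
  obtain ⟨χ', n, ρ, hρ, rfl⟩ := χ
  simp only at hχr hm hneg hχnorm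
  set A := repMat ρ with hA
  have hAmul : ∀ h k : G, A (h * k) = A h * A k := repMat_mul ρ
  set E := projE K ρ ξ with hE
  have hEE : E * E = E := projE_idem ρ ξ
  have hEcomm : ∀ x : K, A (x : G) * E = E * A (x : G) := projE_comm ρ ξ
  have htr := trace_mul_projE ρ ξ hξr hm
  -- the skew invariant
  let P : Module.End ℂ (Matrix (Fin n) (Fin n) ℂ) := mAvg A
  let τ : Module.End ℂ (Matrix (Fin n) (Fin n) ℂ) := transposeL
  have hτ : τ * τ = 1 := transpose_transpose_L
  have hτP : τ * P = P * τ := mAvg_comm A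
  have hPP : P * P = P := mAvg_idem hAmul
  let Q : Module.End ℂ (Matrix (Fin n) (Fin n) ℂ) := (1/2 : ℂ) • (P + (-1 : ℂ) • (τ * P))
  have hQ : IsIdempotentElem Q := idem_half_aux P τ hτ hτP hPP (-1) (by norm_num)
  have htP : LinearMap.trace ℂ _ P = 1 := by
    rw [trace_mAvg, ← hχnorm, classInner]
    congr 1
    refine Finset.sum_congr rfl fun g _ => ?_
    rw [hχr g, repMat_trace, sq]
  have htτP : LinearMap.trace ℂ _ (τ * P) = -1 := by
    change LinearMap.trace ℂ _ ((transposeL : Module.End ℂ _) * mAvg A) = -1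
    rw [trace_transpose_mAvg hAmul, ← hneg, fsInd]
    congr 1
    exact Finset.sum_congr rfl fun g _ => repMat_trace ρ _
  have htQ : LinearMap.trace ℂ _ Q = 1 := by
    simp only [Q]
    rw [map_smul, map_add, map_smul, htP, htτP, smul_eq_mul, smul_eq_mul]
    norm_num
  have hQne : Q ≠ 0 := by
    intro h0
    rw [h0, map_zero] at htQ
    exact zero_ne_one htQ
  obtain ⟨X₀, hX₀⟩ : ∃ X₀, Q X₀ ≠ 0 := by
    by_contra hc
    push Not at hc
    exact hQne (LinearMap.ext hc)
  set X := Q X₀ with hX
  have hSP : ∀ g : G, (sandwichL (A g) : Module.End ℂ _) * P = P := sandwich_mAvg hAmul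
  have hSQ : ∀ g : G, (sandwichL (A g) : Module.End ℂ _) * Q = Q := by
    intro g
    simp only [Q]
    rw [mul_smul_comm, mul_add, mul_smul_comm, hSP]
    congr 3
    have h1 : (sandwichL (A g) : Module.End ℂ _) * τ = τ * sandwichL (A g) :=
      (transpose_sandwich_comm (A g)).symm
    rw [← mul_assoc, h1, mul_assoc, hSP]
  have hXinv : ∀ g : G, A g * X * (A g).transpose = X := by
    intro g
    have h1 := congrArg (fun f : Module.End ℂ _ => f X₀) (hSQ g)
    exact h1
  have hτQ : τ * Q = (-1 : ℂ) • Q := by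
    simp only [Q]
    rw [mul_smul_comm, mul_add, mul_smul_comm, ← mul_assoc τ τ P, hτ, one_mul, smul_comm]
    congr 1
    rw [smul_add, smul_smul]
    norm_num
    rw [add_comm]
    exact congrArg (· + τ * P) (alg_neg_one_smul (R := Module.End ℂ (Matrix (Fin n) (Fin n) ℂ)) _)
  have hXT : X.transpose = (-1 : ℂ) • X := by
    have h1 := congrArg (fun f : Module.End ℂ _ => f X₀) hτQ
    exact h1
  -- intertwining
  have hAX : ∀ g : G, A g * X = X * (A g⁻¹).transpose := by
    intro g
    have h1 : (A g).transpose * (A g⁻¹).transpose = 1 := by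
      rw [← Matrix.transpose_mul, ← hAmul, inv_mul_cancel, hA, repMat_one, Matrix.transpose_one]
    calc A g * X = (A g * X * (A g).transpose) * (A g⁻¹).transpose := by
          rw [mul_assoc (A g * X), h1, mul_one]
      _ = X * (A g⁻¹).transpose := by rw [hXinv g]
  have hEX : E * X = X * E.transpose := by
    simp only [hE, projE]
    rw [smul_mul_assoc, Matrix.transpose_smul, mul_smul_comm, Finset.sum_mul,
      Matrix.transpose_sum, Finset.mul_sum]
    congr 1
    simp only [smul_mul_assoc, Matrix.transpose_smul, mul_smul_comm, ← hA, hAX]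
    refine Fintype.sum_equiv (Equiv.inv K) _ _ fun h => ?_
    simp only [Equiv.inv_apply]
    rw [isCharacter_inv (isCharacter_of_irr ξ.2), hξr]
    rfl
  have hEne : E * X ≠ 0 := by
    intro h0
    let T : Matrix (Fin n) (Fin n) ℂ := ∑ g : G, A g * E * A g⁻¹
    have hinv : ∀ k : G, A k * A k⁻¹ = 1 := fun k => by
      rw [← hAmul, mul_inv_cancel, hA, repMat_one]
    have hinv' : ∀ k : G, A k⁻¹ * A k = 1 := fun k => by
      rw [← hAmul, inv_mul_cancel, hA, repMat_one]
    have hT : ∀ k, T * repMat ρ k = repMat ρ k * T := by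
      intro k
      simp only [T]
      rw [Finset.sum_mul, Finset.mul_sum]
      refine Fintype.sum_equiv (Equiv.mulLeft k⁻¹) _ _ fun g => ?_
      simp only [Equiv.coe_mulLeft, ← hA]
      rw [show (k⁻¹ * g)⁻¹ = g⁻¹ * k by group, hAmul k⁻¹ g, hAmul g⁻¹ k]
      simp only [mul_assoc]
      rw [← mul_assoc (A k), hinv, one_mul]
    obtain ⟨κ, hκ⟩ := schur_matrix ρ hρ T hT
    have htrT : T.trace = (Nat.card G : ℂ) * ξ.1 1 := by
      simp only [T]
      rw [Matrix.trace_sum]
      have h1 : ∀ g : G, (A g * E * A g⁻¹).trace = ξ.1 1 := by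
        intro g
        rw [Matrix.trace_mul_comm, ← mul_assoc, hinv', one_mul]
        have h2 := htr 1
        simpa [repMat_one] using h2
      simp only [h1, Finset.sum_const, Finset.card_univ, nsmul_eq_mul]
      rw [Nat.card_eq_fintype_card]
    have hκ0 : κ ≠ 0 := by
      rintro rfl
      rw [hκ, zero_smul, Matrix.trace_zero] at htrT
      exact mul_ne_zero hGne (irr_one_ne_zero' ξ.2) htrT.symm
    have hTX : T * X = 0 := by
      simp only [T]
      rw [Finset.sum_mul]
      refine Finset.sum_eq_zero fun g _ => ?_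
      have h1 : A g⁻¹ * X = X * (A g).transpose := by
        rw [hAX, inv_inv]
      calc A g * E * A g⁻¹ * X = A g * E * (A g⁻¹ * X) := by rw [mul_assoc]
        _ = A g * (E * X) * (A g).transpose := by rw [h1]; simp only [mul_assoc]
        _ = 0 := by rw [h0]; simp
    rw [hκ, smul_mul_assoc, one_mul] at hTX
    exact hX₀ ((smul_eq_zero.1 hTX).resolve_left hκ0)
  -- the projected form
  let B : K → Matrix (Fin n) (Fin n) ℂ := fun h => A (h : G) * E
  have hB : ∀ h k, B (h * k) = B h * B k := by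
    intro h k
    simp only [B, Subgroup.coe_mul]
    rw [hAmul]
    calc A h * A k * E = A h * A k * (E * E) := by rw [hEE]
      _ = A h * (A k * E) * E := by simp only [mul_assoc]
      _ = A h * (E * A k) * E := by rw [hEcomm]
      _ = A h * E * (A k * E) := by simp only [mul_assoc]
  have hBtr : ∀ h, (B h).trace = ξ.1 h := htr
  have hΩ1 : LinearMap.trace ℂ _ (mAvg B) = 1 := by
    rw [trace_mAvg]
    have h1 : classInner ξ.1 ξ.1 = 1 := classInner_self_irr ξ
    rw [← h1, classInner]
    congr 1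
    refine Finset.sum_congr rfl fun h _ => ?_
    rw [hBtr, hξr, sq]
  have hΩ2 : LinearMap.trace ℂ _ ((transposeL : Module.End ℂ _) * mAvg B) = 1 := by
    rw [trace_transpose_mAvg hB, ← hν, fsInd]
    congr 1
    exact Finset.sum_congr rfl fun h _ => hBtr _
  have hτΩ := transpose_mAvg_eq hB (hΩ1.trans hΩ2.symm)
  -- the element `Y`
  set Y := E * X * E.transpose with hY
  have hEtE : E.transpose * E.transpose = E.transpose := by
    rw [← Matrix.transpose_mul, hEE]
  have hSY : ∀ h : K, B h * Y * (B h).transpose = Y := by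
    intro h
    simp only [B, hY]
    rw [Matrix.transpose_mul]
    have h1 : E.transpose * (A (h : G)).transpose = (A (h : G)).transpose * E.transpose := by
      rw [← Matrix.transpose_mul, ← Matrix.transpose_mul, hEcomm]
    calc A (h : G) * E * (E * X * E.transpose) * (E.transpose * (A (h : G)).transpose)
        = A (h : G) * (E * E) * X * (E.transpose * E.transpose) * (A (h : G)).transpose := by
          simp only [mul_assoc]
      _ = (A (h : G) * E) * X * (E.transpose * (A (h : G)).transpose) := by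
          rw [hEE, hEtE]; simp only [mul_assoc]
      _ = (E * A (h : G)) * X * ((A (h : G)).transpose * E.transpose) := by rw [hEcomm, h1]
      _ = E * (A (h : G) * X * (A (h : G)).transpose) * E.transpose := by simp only [mul_assoc]
      _ = E * X * E.transpose := by rw [hXinv]
  have hΩY : mAvg B Y = Y := by
    unfold mAvg
    simp only [LinearMap.smul_apply, LinearMap.sum_apply]
    have h1 : ∀ h : K, sandwichL (B h) Y = Y := hSY
    simp only [h1, Finset.sum_const, Finset.card_univ]
    rw [← Nat.card_eq_fintype_card, ← Nat.cast_smul_eq_nsmul ℂ, smul_smul, inv_mul_cancel₀ hKne,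
      one_smul]
  have hYT : Y.transpose = Y := by
    have h1 := congrArg (fun f : Module.End ℂ _ => f Y) hτΩ
    simp only [Module.End.mul_apply, hΩY] at h1
    exact h1
  have hYT2 : Y.transpose = (-1 : ℂ) • Y := by
    simp only [hY]
    rw [Matrix.transpose_mul, Matrix.transpose_mul, Matrix.transpose_transpose, hXT]
    simp [mul_assoc]
  have hY0 : Y = 0 := by
    have h1 : Y = -Y := by
      conv_lhs => rw [← hYT, hYT2]
      simp
    ext i j
    have h2 := congrFun (congrFun h1 i) j
    simp only [Matrix.neg_apply] at h2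
    simpa using self_eq_neg.mp h2
  apply hEne
  calc E * X = (E * E) * X := by rw [hEE]
    _ = E * (E * X) := by rw [mul_assoc]
    _ = E * (X * E.transpose) := by rw [hEX]
    _ = Y := by rw [hY, mul_assoc]
    _ = 0 := hY0

/-- Induction preserves the indicator one, when the induced character is irreducible. -/
theorem fsInd_ind_of_irr (ξ : IrrCharacter K) (hν : fsInd ξ.1 = 1)
    (hirr : IsIrrCharacter G (indFun K ξ.1)) : fsInd (indFun K ξ.1) = 1 := by
  classical
  haveI : Fintype (IrrCharacter K) := Fintype.ofFinite _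
  have hξr := real_of_fsInd_ne_zero ξ (by rw [hν]; norm_num)
  have hreal : ∀ g, conj (indFun K ξ.1 g) = indFun K ξ.1 g := by
    intro g
    simp only [indFun, map_mul, map_inv₀, map_natCast, map_sum]
    congr 1
    refine Finset.sum_congr rfl fun x _ => ?_
    by_cases hx : x⁻¹ * g * x ∈ K
    · have h1 := extendByZero_coe K ξ.1 ⟨_, hx⟩
      simp only at h1
      rw [h1, hξr]
    · rw [extendByZero_of_not_mem _ _ hx, map_zero]
  have hm : classInner (fun k : K => indFun K ξ.1 k) ξ.1 = 1 := by
    have h1 := frobenius_reciprocity K ξ.1 (indFun K ξ.1) (indFun_isClass K ξ.1)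
    rw [classInner_irr_self hirr] at h1
    rw [← classInner_comm_conj, ← h1, map_one]
  exact fsInd_eq_one_of_mult_one (K := K) ⟨_, hirr⟩ hreal ξ hν hm

end Sign

end Cfsg.Agent.H23
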