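import Cfsg.Agent.Lib.H23.RealDeg1
import Cfsg.Agent.Lib.H06.CharGalois

set_option autoImplicit false
set_option linter.style.haveILetI false
set_option linter.unusedSectionVars false

namespace Cfsg.Agent.H23

open Cfsg Cfsg.Agent Cfsg.Agent.H21 Cfsg.Agent.H06
open scoped ComplexConjugate

section Act
universe u
variable {H : Type u} [Group H] [Fintype H]

/-- The Galois-type action on irreducible characters. -/
noncomputable def galIrr (k : ℕ) (hk : k.Coprime (Nat.card H)) (μ : IrrCharacter H) : IrrCharacter H :=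
  ⟨fun n => μ.1 (n ^ k), isIrrCharacter_comp_pow hk μ.2⟩

theorem galIrr_apply (k : ℕ) (hk : k.Coprime (Nat.card H)) (μ : IrrCharacter H) (n : H) :
    (galIrr k hk μ).1 n = μ.1 (n ^ k) := rfl

theorem galIrr_iterate (k : ℕ) (hk : k.Coprime (Nat.card H)) (m : ℕ) (μ : IrrCharacter H) (n : H) :
    ((galIrr k hk)^[m] μ).1 n = μ.1 (n ^ (k ^ m)) := by
  induction m generalizing μ with
  | zero => simp
  | succ m ih =>
    rw [Function.iterate_succ_apply, ih, galIrr_apply, pow_succ', ← pow_mul, mul_comm]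

theorem pow_eq_self_of_modEq {K : Type*} [Group K] [Finite K] {a : ℕ}
    (h : a ≡ 1 [MOD Nat.card K]) (n : K) : n ^ a = n := by
  have h1 : n ^ a = n ^ 1 := by
    rw [pow_eq_pow_iff_modEq]
    exact h.of_dvd (orderOf_dvd_natCard n)
  rwa [pow_one] at h1

/-- Bijectivity of the power map. -/
noncomputable def powEquiv (k : ℕ) (hk : k.Coprime (Nat.card H)) : H ≃ H :=
  powCoprime (Nat.coprime_comm.mp hk)

@[simp] theorem powEquiv_apply (k : ℕ) (hk : k.Coprime (Nat.card H)) (n : H) :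
    powEquiv k hk n = n ^ k := rfl

theorem sum_pow (k : ℕ) (hk : k.Coprime (Nat.card H)) {A : Type*} [AddCommMonoid A] (f : H → A) :
    ∑ n : H, f (n ^ k) = ∑ n : H, f n :=
  Fintype.sum_equiv (powEquiv k hk) _ _ fun _ => rfl

end Act

section
universe u
variable {G : Type u} [Group G] [Fintype G] (N : Subgroup G) [hN : N.Normal] [Fintype N]

theorem coprime_card_sub {k : ℕ} (hk : k.Coprime (Nat.card G)) : k.Coprime (Nat.card N) :=
  Nat.Coprime.coprime_dvd_right (Subgroup.card_subgroup_dvd_card N) hk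

/-- Multiplicities are preserved. -/
theorem inner_galIrr {k : ℕ} (hk : k.Coprime (Nat.card G)) (χ : G → ℂ)
    (hχ : ∀ g : G, χ (g ^ k) = χ g) (μ : IrrCharacter N) :
    classInner (fun n : N => χ n) (galIrr k (coprime_card_sub N hk) μ).1 =
      classInner (fun n : N => χ n) μ.1 := by
  simp only [classInner]
  congr 1
  rw [← sum_pow k (coprime_card_sub N hk) (fun n : N => χ n * conj (μ.1 n))]
  refine Finset.sum_congr rfl fun n _ => ?_
  rw [galIrr_apply]
  have : ((n ^ k : N) : G) = (n : G) ^ k := rfl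
  rw [this, hχ]

variable [Fintype (IrrCharacter G)] [Fintype (IrrCharacter N)]

/-- Constituents of a Galois-fixed character are Galois-fixed when the index is prime to `p`. -/
theorem galois_fixed_constituent (p : ℕ) [Fact p.Prime] (hidx : ¬ p ∣ N.index) (k e : ℕ)
    (hk : k.Coprime (Nat.card G)) (hke : k ^ (p ^ e) ≡ 1 [MOD Nat.card G]) (χ : IrrCharacter G)
    (hχ : ∀ g : G, χ.1 (g ^ k) = χ.1 g) (θ : IrrCharacter N)
    (hθ : classInner (fun n : N => χ.1 n) θ.1 ≠ 0) (n : N) : θ.1 (n ^ k) = θ.1 n := by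
  classical
  have hkN := coprime_card_sub N hk
  -- the set of constituents is the orbit of `θ`
  letI := irrTwistAction N
  let Ω := {μ : IrrCharacter N // classInner (fun n : N => χ.1 n) μ.1 ≠ 0}
  have hpres : ∀ μ : Ω, classInner (fun n : N => χ.1 n) (galIrr k hkN μ.1).1 ≠ 0 := by
    intro μ
    rw [inner_galIrr N hk χ.1 hχ]
    exact μ.2
  let f : Function.End Ω := fun μ => ⟨galIrr k hkN μ.1, hpres μ⟩
  have hfit : ∀ (m : ℕ) (μ : Ω), ((f ^ m) μ).1 = (galIrr k hkN)^[m] μ.1 := by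
    intro m μ
    induction m with
    | zero => rfl
    | succ m ih =>
      rw [pow_succ', Function.iterate_succ_apply']
      show galIrr k hkN ((f ^ m) μ).1 = _
      rw [ih]
  have hf : f ^ p ^ e = 1 := by
    funext μ
    apply Subtype.ext
    rw [hfit]
    apply Subtype.ext
    funext n
    rw [galIrr_iterate]
    show μ.1.1 (n ^ k ^ p ^ e) = μ.1.1 n
    rw [pow_eq_self_of_modEq (hke.of_dvd (Subgroup.card_subgroup_dvd_card N)) n]
  -- `|Ω|` is prime to `p`
  have hΩ : ¬ p ∣ Fintype.card Ω := by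
    have h1 : Ω ≃ MulAction.orbit G θ := by
      refine Equiv.ofBijective (fun μ => ⟨μ.1, ?_⟩) ⟨?_, ?_⟩
      · obtain ⟨g, hg⟩ := over_conj N χ θ μ.1 hθ μ.2
        refine ⟨g⁻¹, Subtype.ext ?_⟩
        rw [hg]
        change twist N θ.1 g⁻¹⁻¹ = _
        rw [inv_inv]
      · rintro a b h
        apply Subtype.ext
        exact congrArg (fun x : MulAction.orbit G θ => x.1) h
      · rintro ⟨μ, g, rfl⟩
        refine ⟨⟨g • θ, ?_⟩, rfl⟩
        show classInner (fun n : N => χ.1 n) (twist N θ.1 g⁻¹) ≠ 0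
        rwa [inner_twist_class N _ (isClassFunction_of_isCharacter (isCharacter_of_irr χ.2))]
    have h2 : Fintype.card Ω = (MulAction.stabilizer G θ).index := by
      rw [MulAction.index_stabilizer, ← Nat.card_coe_set_eq, ← Nat.card_congr h1,
        Nat.card_eq_fintype_card]
    rw [h2]
    intro hdvd
    apply hidx
    refine hdvd.trans (Subgroup.index_dvd_of_le ?_)
    intro m hm
    rw [MulAction.mem_stabilizer_iff]
    apply Subtype.ext
    change twist N θ.1 m⁻¹ = θ.1
    funext x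
    simp only [twist]
    exact isClassFunction_of_isCharacter (isCharacter_of_irr θ.2) x ⟨m⁻¹, N.inv_mem hm⟩
  have hmod := Equiv.Perm.card_fixedPoints_modEq hf
  have hfix : Nonempty f.fixedPoints := by
    rw [← Fintype.card_pos_iff]
    by_contra h0
    have h3 : Fintype.card f.fixedPoints = 0 := by omega
    rw [h3] at hmod
    exact hΩ ((Nat.modEq_zero_iff_dvd).mp hmod)
  obtain ⟨⟨θ₁, hθ₁⟩⟩ := hfix
  have hθ₁' : ∀ n : N, θ₁.1.1 (n ^ k) = θ₁.1.1 n := by
    intro n
    have h3 : f θ₁ = θ₁ := hθ₁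
    have h4 := congrArg (fun x : Ω => x.1.1 n) h3
    exact h4
  obtain ⟨g, hg⟩ := over_conj N χ θ₁.1 θ θ₁.2 hθ
  rw [hg]
  simp only [twist]
  have h5 : (⟨g * ((n ^ k : N) : G) * g⁻¹, hN.conj_mem _ (n ^ k).2 g⟩ : N) =
      (⟨g * (n : G) * g⁻¹, hN.conj_mem _ n.2 g⟩ : N) ^ k := by
    apply Subtype.ext
    show g * (n : G) ^ k * g⁻¹ = (g * (n : G) * g⁻¹) ^ k
    rw [conj_pow]
  rw [h5, hθ₁']

end

end Cfsg.Agent.H23
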