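import Cfsg.Agent.Lib.H23.RealDeg3
import Cfsg.Agent.Lib.H21.BlockBasics

/-!
# Real characters of degree prime to `p` and normal subgroups in the commutator subgroup of a Sylow
`p`-subgroup.
-/

set_option autoImplicit false
set_option linter.unusedSectionVars false
set_option linter.style.haveILetI false
set_option linter.unusedSimpArgs false

namespace Cfsg.Agent.H23

open Cfsg Cfsg.Agent.H21 Cfsg.Agent.H06
open scoped ComplexConjugate

universe u

section

variable {G : Type u} [Group G] [Fintype G]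

theorem exists_linear_constituent {p : ℕ} [hp : Fact p.Prime] (P : Subgroup G) [Fintype P]
    [Fintype (IrrCharacter P)] (hP : IsPGroup p P) (χ : IrrCharacter G)
    (hχ : ¬ p ∣ charDegree χ.1) (m : IrrCharacter P → ℕ)
    (hm : (fun x : P => χ.1 x) = ∑ ψ : IrrCharacter P, m ψ • (ψ : P → ℂ)) :
    ∃ β : IrrCharacter P, charDegree β.1 = 1 ∧ m β ≠ 0 := by
  classical
  have hχc := isCharacter_of_irr χ.2
  have hdeg : (charDegree χ.1 : ℂ) = ∑ β : IrrCharacter P, (m β : ℂ) * (charDegree β.1 : ℂ) := by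
    have h1 := congrFun hm 1
    simp only [Finset.sum_apply, Pi.smul_apply] at h1
    rw [← one_eq_charDegree hχc]
    have h2 : χ.1 ((1 : P) : G) = χ.1 1 := rfl
    rw [← h2, h1]
    refine Finset.sum_congr rfl fun β _ => ?_
    rw [← one_eq_charDegree (isCharacter_of_irr β.2)]
    simp
  have hdeg' : charDegree χ.1 = ∑ β : IrrCharacter P, m β * charDegree β.1 := by
    exact_mod_cast hdeg
  by_contra hall
  push Not at hall
  apply hχ
  rw [hdeg']
  apply Finset.dvd_sum
  intro β _
  by_cases h0 : m β = 0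
  · rw [h0, zero_mul]
    exact dvd_zero _
  · apply Dvd.dvd.mul_left
    by_contra hnd
    apply h0
    apply hall β
    obtain ⟨n, hn⟩ := IsPGroup.iff_card.1 hP
    have h1 := Cfsg.Agent.H22.charDegree_dvd_card β
    rw [hn] at h1
    obtain ⟨j, _, hj⟩ := (Nat.dvd_prime_pow hp.out).1 h1
    rcases Nat.eq_zero_or_pos j with h | h
    · rw [hj, h, pow_zero]
    · exfalso
      apply hnd
      rw [hj]
      exact dvd_pow_self p h.ne'

theorem linear_trivial_commutator (P : Subgroup G) [Fintype P] {β : P → ℂ} (hβ : IsCharacter P β)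
    (h1 : charDegree β = 1) (y : P) (hy : y ∈ commutator P) : β y = 1 := by
  have hb1 := linear_one hβ h1
  have hmul := linear_mul hβ h1
  let X : Subgroup P :=
    { carrier := {x | β x = 1}
      one_mem' := hb1
      mul_mem' := by
        intro a b ha hb
        show β (a * b) = 1
        rw [hmul, ha, hb, one_mul]
      inv_mem' := by
        intro a ha
        have h2 := hmul a a⁻¹
        rw [mul_inv_cancel, hb1, ha, one_mul] at h2
        exact h2.symm }
  have hle : commutator P ≤ X := by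
    rw [commutator, Subgroup.commutator_le]
    intro a _ b _
    show β (a * b * a⁻¹ * b⁻¹) = 1
    have h2 := hmul a a⁻¹
    have h3 := hmul b b⁻¹
    rw [mul_inv_cancel, hb1] at h2 h3
    rw [hmul, hmul, hmul]
    linear_combination (β b * β b⁻¹ ) * h2.symm + h3.symm
  exact hle hy

variable (M : Subgroup G) [hM : M.Normal] [Fintype M]

/-- If the trivial character of `M` is under `χ` then `M` is in the kernel of `χ`. -/
theorem ker_of_inner_one_ne [Fintype (IrrCharacter G)] [Fintype (IrrCharacter M)]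
    (χ : IrrCharacter G)
    (hne : classInner (fun n : M => χ.1 n) (fun _ => 1) ≠ 0) (m : G) (hm : m ∈ M) :
    χ.1 m = χ.1 1 := by
  classical
  have hone : IsIrrCharacter M (fun _ => (1:ℂ)) := isIrrCharacter_one
  have hval : ∀ n : M, χ.1 n = classInner (fun n : M => χ.1 n) (fun _ => 1) /
      classInner (fun n : M => indFun M (fun _ => 1) n) (fun _ => 1) *
      ((Nat.card M : ℂ)⁻¹ * ∑ _g : G, 1) := by
    intro n
    have h1 := res_eq_of_over M hone χ hne n
    rw [h1, indFun_coe_eq_sum_twist]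
    rfl
  have h1 := hval ⟨m, hm⟩
  have h2 := hval 1
  simp only at h1
  rw [h1]
  exact h2.symm

theorem real_kernel {p : ℕ} [hp : Fact p.Prime] (P : Subgroup G) [Fintype P]
    [Fintype (IrrCharacter G)] (hP : IsPGroup p P) (χ : IrrCharacter G)
    (hχ : ¬ p ∣ charDegree χ.1) (hMP : M ≤ ⁅P, P⁆) (m : G) (hm : m ∈ M) : χ.1 m = χ.1 1 := by
  classical
  haveI : Fintype (IrrCharacter P) := Fintype.ofFinite _
  haveI : Fintype (IrrCharacter M) := Fintype.ofFinite _
  apply ker_of_inner_one_ne M χ _ m hm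
  have hχc := isCharacter_of_irr χ.2
  obtain ⟨mm, hmm, hmm'⟩ := isCharacter_decomp (isCharacter_restrict P hχc)
  obtain ⟨β₀, hβ₀, hβ₀m⟩ := exists_linear_constituent P hP χ hχ mm hmm
  have hMP2 : M ≤ P := by
    refine hMP.trans ?_
    rw [← Subgroup.map_subtype_commutator]
    exact Subgroup.map_subtype_le _
  let inc : M →* P := Subgroup.inclusion hMP2
  have hin : ∀ β : IrrCharacter P, ∃ a : ℕ, classInner (fun n : M => β.1 (inc n)) (fun _ => 1) = a := by
    intro β
    exact classInner_isCharacter_nat (isCharacter_comp inc (isCharacter_of_irr β.2))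
      (isCharacter_one (G := M))
  choose a ha using hin
  have hdecomp : (fun n : M => χ.1 n) = ∑ β : IrrCharacter P, (mm β : ℂ) • (fun n : M => β.1 (inc n)) := by
    funext n
    have h1 := congrFun hmm (inc n)
    simp only [Finset.sum_apply, Pi.smul_apply, nsmul_eq_mul] at h1
    simp only [Finset.sum_apply, Pi.smul_apply, smul_eq_mul]
    exact h1
  rw [hdecomp, classInner_sum_left]
  simp only [classInner_smul_left, ha]
  have hb : a β₀ ≠ 0 := by
    have h1 : (fun n : M => β₀.1 (inc n)) = fun _ => 1 := by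
      funext n
      have h2 : (n : G) ∈ ⁅P, P⁆ := hMP n.2
      rw [← Subgroup.map_subtype_commutator] at h2
      obtain ⟨y, hy, hye⟩ := h2
      have h3 : y = inc n := Subtype.ext hye
      rw [← h3]
      exact linear_trivial_commutator P (isCharacter_of_irr β₀.2) hβ₀ y hy
    have h2 := ha β₀
    rw [h1] at h2
    have h3 : classInner (fun _ : M => (1:ℂ)) (fun _ => (1:ℂ)) = 1 := by
      have := classInner_irr_self (isIrrCharacter_one (G := M))
      exact this
    rw [h3] at h2
    intro h0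
    rw [h0] at h2
    simp at h2
  have h5 : ((∑ β : IrrCharacter P, mm β * a β : ℕ) : ℂ) ≠ 0 := by
    have h6 : 0 < ∑ β : IrrCharacter P, mm β * a β :=
      Finset.sum_pos' (fun _ _ => Nat.zero_le _) ⟨β₀, Finset.mem_univ _, Nat.mul_pos
        (Nat.pos_of_ne_zero hβ₀m) (Nat.pos_of_ne_zero hb)⟩
    exact_mod_cast h6.ne'
  push_cast at h5
  exact h5

end

section Lift

variable {G : Type*} [Group G] [Finite G]

theorem conj_odd_pow {Q : Type*} [Group Q] (a b : Q) (h : a * b * a⁻¹ = b⁻¹) (c : ℕ) :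
    a ^ (2 * c + 1) * b * (a ^ (2 * c + 1))⁻¹ = b⁻¹ := by
  have h2 : a * b⁻¹ * a⁻¹ = b := by
    have := congrArg (·⁻¹) h
    simpa [mul_assoc] using this
  induction c with
  | zero => simpa using h
  | succ c ih =>
    have : a ^ (2 * (c + 1) + 1) * b * (a ^ (2 * (c + 1) + 1))⁻¹ =
        a * (a * (a ^ (2 * c + 1) * b * (a ^ (2 * c + 1))⁻¹) * a⁻¹) * a⁻¹ := by
      rw [show 2 * (c + 1) + 1 = 1 + (1 + (2 * c + 1)) by ring, pow_add, pow_add, pow_one]
      group
    rw [this, ih, h2, h]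

/-- Lifting an inverted element of the quotient by a normal subgroup of odd order. -/
theorem real_lift (M : Subgroup G) [hM : M.Normal] (hodd : Odd (Nat.card M)) (x g : G)
    (hg : (QuotientGroup.mk' M) (g * x * g⁻¹) = ((QuotientGroup.mk' M) x)⁻¹) :
    ∃ y, (QuotientGroup.mk' M) y = (QuotientGroup.mk' M) x ∧ IsConj y y⁻¹ := by
  classical
  haveI : Fintype G := Fintype.ofFinite _
  let π := QuotientGroup.mk' M
  -- make `g` a 2-element
  obtain ⟨k, b, hb, hab⟩ := Nat.exists_eq_pow_mul_and_not_dvd (orderOf_pos g).ne' 2 (by norm_num)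
  have hbodd : Odd b := Nat.odd_iff.2 (by omega)
  obtain ⟨c, hc⟩ := hbodd
  obtain ⟨g', hg'⟩ : ∃ g', g' = g ^ b := ⟨_, rfl⟩
  have hg'2 : g' ^ (2 ^ k) = 1 := by
    rw [hg', ← pow_mul, mul_comm, ← hab, pow_orderOf_eq_one]
  have hg'x : π (g' * x * g'⁻¹) = (π x)⁻¹ := by
    have hg0 : π g * π x * (π g)⁻¹ = (π x)⁻¹ := by
      have h := hg
      rw [map_mul, map_mul, map_inv] at h
      exact h
    have h1 := conj_odd_pow (π g) (π x) hg0 c
    rw [hg', hc]
    simpa [map_mul, map_inv, map_pow] using h1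
  -- the coset
  let X := {y : G // π y = π x}
  haveI : Fintype X := Fintype.ofFinite _
  have hcardX : Nat.card X = Nat.card M := by
    apply Nat.card_congr
    refine ⟨fun y => ⟨x⁻¹ * y.1, ?_⟩, fun m => ⟨x * m.1, ?_⟩, ?_, ?_⟩
    · have : π (x⁻¹ * y.1) = 1 := by
        rw [map_mul, y.2, map_inv]
        simp
      exact (QuotientGroup.eq_one_iff _).1 this
    · have : π m.1 = 1 := (QuotientGroup.eq_one_iff _).2 m.2
      rw [map_mul, this, mul_one]
    · intro y
      apply Subtype.ext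
      simp
    · intro m
      apply Subtype.ext
      simp
  let f : Function.End X := fun y => ⟨(g' * y.1 * g'⁻¹)⁻¹, by
    have hcj : π (g' * y.1 * g'⁻¹) = π (g' * x * g'⁻¹) := by
      simp only [map_mul, map_inv, y.2]
    rw [map_inv, hcj, hg'x, inv_inv]⟩
  have hfpow : ∀ (n : ℕ) (y : X), ((f ^ (2 * n)) y).1 = g' ^ (2 * n) * y.1 * (g' ^ (2 * n))⁻¹ := by
    intro n y
    induction n with
    | zero =>
      simp only [Nat.mul_zero, pow_zero]
      show y.1 = 1 * y.1 * 1⁻¹
      simp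
    | succ n ih =>
      have h1 : f ^ (2 * (n + 1)) = f * f * f ^ (2 * n) := by
        rw [show 2 * (n + 1) = 2 + 2 * n by ring, pow_add, pow_two]
      rw [h1]
      show (f (f ((f ^ (2 * n)) y))).1 = _
      have h2 : ∀ u : X, (f (f u)).1 = g' * g' * u.1 * (g' * g')⁻¹ := by
        intro u
        show (g' * (g' * u.1 * g'⁻¹)⁻¹ * g'⁻¹)⁻¹ = _
        simp only [mul_inv_rev, inv_inv, mul_assoc]
      rw [h2, ih, show 2 * (n + 1) = 2 + 2 * n by ring, pow_add, pow_two]
      group
  have hf1 : f ^ (2 ^ (k + 1)) = 1 := by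
    funext y
    apply Subtype.ext
    have h1 := hfpow (2 ^ k) y
    have h2 : g' ^ (2 * 2 ^ k) = 1 := by
      rw [mul_comm, pow_mul, hg'2, one_pow]
    rw [h2] at h1
    rw [pow_succ']
    show ((f ^ (2 * 2 ^ k)) y).1 = y.1
    rw [h1]
    simp
  haveI : Fact (Nat.Prime 2) := ⟨Nat.prime_two⟩
  have hmod := Equiv.Perm.card_fixedPoints_modEq (p := 2) (n := k + 1) hf1
  have hne : Nonempty f.fixedPoints := by
    by_contra hempty
    rw [not_nonempty_iff] at hempty
    have h0 : Fintype.card f.fixedPoints = 0 := Fintype.card_eq_zero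
    rw [h0, ← Nat.card_eq_fintype_card, hcardX] at hmod
    have := (Nat.modEq_zero_iff_dvd).1 hmod
    rw [Nat.odd_iff] at hodd
    omega
  obtain ⟨⟨y, hy⟩⟩ := hne
  refine ⟨y.1, y.2, ?_⟩
  have h1 : (g' * y.1 * g'⁻¹)⁻¹ = y.1 := congrArg Subtype.val hy
  refine isConj_iff.2 ⟨g', ?_⟩
  have := congrArg (·⁻¹) h1
  simpa using this

end Lift

/-- If all real characters contain `M` (of odd order) in their kernels then `M` has no nontrivial
elements which are real in `G`. -/
theorem no_real_in_kernel {G : Type u} [Group G] [Fintype G] (M : Subgroup G) [hM : M.Normal]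
    (hodd : Odd (Nat.card M))
    (hall : ∀ χ : IrrCharacter G, (∀ g, (χ.1 g).im = 0) → ∀ m ∈ M, χ.1 m = χ.1 1)
    (v : G) (hv : v ∈ M) (hr : IsConj v v⁻¹) : v = 1 := by
  classical
  haveI : Fintype (G ⧸ M) := Fintype.ofFinite _
  let π : G →* G ⧸ M := QuotientGroup.mk' M
  have hπ : Function.Surjective π := QuotientGroup.mk'_surjective M
  have h1 := card_real_irr_eq (G := G)
  have h2 := card_real_irr_eq (G := G ⧸ M)
  have h3 : Nat.card {χ : IrrCharacter (G ⧸ M) // ∀ g, (χ.1 g).im = 0} =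
      Nat.card {χ : IrrCharacter G // ∀ g, (χ.1 g).im = 0} := by
    refine Nat.card_eq_of_bijective (fun χ => ⟨⟨χ.1.1 ∘ π,
      isIrrCharacter_comp_of_surjective π hπ χ.1.2⟩, fun g => χ.2 (π g)⟩) ⟨?_, ?_⟩
    · intro a b e
      apply Subtype.ext
      apply Subtype.ext
      funext x
      obtain ⟨g, rfl⟩ := hπ x
      have := congrArg (fun z : {χ : IrrCharacter G // ∀ g, (χ.1 g).im = 0} => z.1.1 g) e
      exact this
    · rintro ⟨χ, hχ⟩
      obtain ⟨χ', hχ', e⟩ := exists_descend M χ.2 (hall χ hχ)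
      refine ⟨⟨⟨χ', hχ'⟩, ?_⟩, ?_⟩
      · intro x
        obtain ⟨g, rfl⟩ := hπ x
        have := hχ g
        rw [← e] at this
        exact this
      · apply Subtype.ext
        apply Subtype.ext
        exact e
  let ψ : {K : ConjClasses G // ∀ g, ConjClasses.mk g = K → IsConj g g⁻¹} →
      {K : ConjClasses (G ⧸ M) // ∀ g, ConjClasses.mk g = K → IsConj g g⁻¹} := fun K =>
    ⟨ConjClasses.map π K.1, by
      obtain ⟨K, hK⟩ := K
      obtain ⟨g, rfl⟩ := ConjClasses.mk_surjective K
      intro x hx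
      have hx' : IsConj x (π g) := ConjClasses.mk_eq_mk_iff_isConj.1 hx
      have h4 : IsConj (π g) (π g)⁻¹ := by
        rw [← map_inv]
        exact MonoidHom.map_isConj π (hK g rfl)
      exact hx'.trans (h4.trans (isConj_inv_inv hx').symm)⟩
  have hsurj : Function.Surjective ψ := by
    rintro ⟨K, hK⟩
    obtain ⟨x, rfl⟩ := ConjClasses.mk_surjective K
    obtain ⟨x₀, rfl⟩ := hπ x
    have h4 := hK (π x₀) rfl
    obtain ⟨c, hc⟩ := isConj_iff.1 h4
    obtain ⟨g, rfl⟩ := hπ c
    obtain ⟨y, hy, hyr⟩ := real_lift M hodd x₀ g (by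
      have : π (g * x₀ * g⁻¹) = (π x₀)⁻¹ := by
        rw [map_mul, map_mul, map_inv]
        exact hc
      exact this)
    refine ⟨⟨ConjClasses.mk y, ?_⟩, ?_⟩
    · intro z hz
      have hz' : IsConj z y := ConjClasses.mk_eq_mk_iff_isConj.1 hz
      exact hz'.trans (hyr.trans (isConj_inv_inv hz').symm)
    · apply Subtype.ext
      show ConjClasses.mk (π y) = ConjClasses.mk (π x₀)
      have : π y = π x₀ := hy
      rw [this]
  have hcard : Nat.card {K : ConjClasses G // ∀ g, ConjClasses.mk g = K → IsConj g g⁻¹} ≤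
      Nat.card {K : ConjClasses (G ⧸ M) // ∀ g, ConjClasses.mk g = K → IsConj g g⁻¹} := by
    rw [← h1, ← h2, h3]
  have hbij := hsurj.bijective_of_nat_card_le hcard
  have hreal1 : ∀ g, ConjClasses.mk g = ConjClasses.mk (1 : G) → IsConj g g⁻¹ := by
    intro g hg
    have h5 : IsConj g 1 := ConjClasses.mk_eq_mk_iff_isConj.1 hg
    rw [isConj_one_right.1 h5.symm]
    simp
  have hrealv : ∀ g, ConjClasses.mk g = ConjClasses.mk v → IsConj g g⁻¹ := by
    intro g hg
    have h5 : IsConj g v := ConjClasses.mk_eq_mk_iff_isConj.1 hg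
    exact h5.trans (hr.trans (isConj_inv_inv h5).symm)
  have h6 := hbij.1 (a₁ := ⟨ConjClasses.mk v, hrealv⟩) (a₂ := ⟨ConjClasses.mk 1, hreal1⟩) (by
    apply Subtype.ext
    show ConjClasses.mk (π v) = ConjClasses.mk (π 1)
    have : π v = 1 := (QuotientGroup.eq_one_iff _).2 hv
    rw [this, map_one])
  have h7 : ConjClasses.mk v = ConjClasses.mk (1 : G) := congrArg Subtype.val h6
  have h8 : IsConj v 1 := ConjClasses.mk_eq_mk_iff_isConj.1 h7
  exact isConj_one_right.1 h8.symm

/-- Main theorem of this file: a normal subgroup of `G` inside `P'` is centralized by all the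
2-elements, if all real irreducible characters have degree prime to the odd prime `p`. -/
theorem real_central {G : Type u} [Group G] [Finite G] (p : ℕ) [hp : Fact p.Prime] (hp2 : p ≠ 2)
    (hreal : ∀ χ : IrrCharacter G, (∀ g, (χ.1 g).im = 0) → ¬ p ∣ charDegree χ.1)
    (P : Subgroup G) (hP : IsPGroup p P) (M : Subgroup G) [hM : M.Normal] (hMP : M ≤ ⁅P, P⁆) :
    primeGen G 2 ≤ Subgroup.centralizer (M : Set G) := by
  classical
  haveI : Fintype G := Fintype.ofFinite _
  haveI : Fintype M := Fintype.ofFinite _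
  haveI : Fintype P := Fintype.ofFinite _
  haveI : Fintype (IrrCharacter G) := Fintype.ofFinite _
  have hpp := hp.out
  have hMP2 : M ≤ P := by
    refine hMP.trans ?_
    rw [← Subgroup.map_subtype_commutator]
    exact Subgroup.map_subtype_le _
  have hodd : Odd (Nat.card M) := by
    have hMp : IsPGroup p M := hP.to_le hMP2
    obtain ⟨n, hn⟩ := IsPGroup.iff_card.1 hMp
    rw [hn]
    exact Odd.pow (hpp.odd_of_ne_two hp2)
  have hall : ∀ χ : IrrCharacter G, (∀ g, (χ.1 g).im = 0) → ∀ m ∈ M, χ.1 m = χ.1 1 := fun χ hχ m hm =>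
    real_kernel M P hP χ (hreal χ hχ) hMP m hm
  have hnr := no_real_in_kernel M hodd hall
  rw [Subgroup.closure_le]
  rintro t ⟨k, hk⟩
  -- the power of `t` acting as an involution
  by_contra hnot
  have hex : ∃ j, ∀ n ∈ M, t ^ (2 ^ j) * n = n * t ^ (2 ^ j) :=
    ⟨k, fun n _ => by rw [← hk, pow_orderOf_eq_one]; simp⟩
  have hj := Nat.find_spec hex
  have hj0 : Nat.find hex ≠ 0 := by
    intro h0
    rw [h0] at hj
    apply hnot
    rw [SetLike.mem_coe, Subgroup.mem_centralizer_iff]
    intro n hn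
    have := hj n hn
    simpa using this.symm
  obtain ⟨i, hi⟩ : ∃ i, Nat.find hex = i + 1 := Nat.exists_eq_succ_of_ne_zero hj0
  have hnot2 : ¬ ∀ n ∈ M, t ^ (2 ^ i) * n = n * t ^ (2 ^ i) :=
    Nat.find_min hex (by omega)
  push Not at hnot2
  obtain ⟨a, ha, hne⟩ := hnot2
  obtain ⟨s, hs⟩ : ∃ s, s = t ^ (2 ^ i) := ⟨_, rfl⟩
  rw [← hs] at hne
  have hs2 : ∀ n ∈ M, s * s * n = n * (s * s) := by
    intro n hn
    have := hj n hn
    rw [hi, pow_succ, pow_mul, pow_two, ← hs] at this
    exact this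
  obtain ⟨b, hb⟩ : ∃ b, b = a⁻¹ * (s * a * s⁻¹) := ⟨_, rfl⟩
  have hbM : b ∈ M := by
    rw [hb]
    exact M.mul_mem (M.inv_mem ha) (hM.conj_mem a ha s)
  have hs22 : s * (s * a * s⁻¹) * s⁻¹ = a := by
    have h1 := hs2 a ha
    calc s * (s * a * s⁻¹) * s⁻¹ = (s * s * a) * (s * s)⁻¹ := by group
      _ = a := by rw [h1]; group
  have hbinv : s * b * s⁻¹ = b⁻¹ := by
    rw [hb]
    have h1 : s * (a⁻¹ * (s * a * s⁻¹)) * s⁻¹ = (s * a * s⁻¹)⁻¹ * (s * (s * a * s⁻¹) * s⁻¹) := by
      group
    have h2 : (a⁻¹ * (s * a * s⁻¹))⁻¹ = (s * a * s⁻¹)⁻¹ * a := by group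
    rw [h1, hs22, h2]
  have hb1 := hnr b hbM (isConj_iff.2 ⟨s, hbinv⟩)
  apply hne
  rw [hb] at hb1
  have h1 : s * a * s⁻¹ = a := by
    have := congrArg (a * ·) hb1
    simpa using this
  have h2 := congrArg (· * s) h1
  simpa using h2

end Cfsg.Agent.H23
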