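import Cfsg.Agent.Lib.H22.ExtraUnique
import Cfsg.Agent.Lib.H09.KSeq2
import Cfsg.Agent.Lib.H14.UniqueSub
import Cfsg.Agent.Lib.H06.CoherInd
import Cfsg.Agent.Lib.H23.RealDeg4

/-!
# `p`-groups whose nonlinear irreducible characters of equal degree are Galois conjugate.
-/

set_option autoImplicit false
set_option linter.unusedSectionVars false
set_option linter.style.haveILetI false
set_option linter.unusedSimpArgs false

namespace Cfsg.Agent.H23

open Cfsg Cfsg.Agent.H21 Cfsg.Agent.H06 Cfsg.Agent.H22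
open scoped ComplexConjugate commutatorElement

universe u

/-- The Galois-conjugacy condition on characters of equal degree. -/
def GalDeg (P : Type u) [Group P] [Finite P] : Prop :=
  ∀ χ ψ : IrrCharacter P, charDegree χ.1 ≠ 1 → charDegree χ.1 = charDegree ψ.1 →
    ∃ k : ℕ, Nat.Coprime k (Nat.card P) ∧ ∀ g : P, ψ.1 g = χ.1 (g ^ k)

section
variable {P : Type u} [Group P] [Finite P]

theorem GalDeg.ker_iff (h : GalDeg P) (χ ψ : IrrCharacter P) (h1 : charDegree χ.1 ≠ 1)
    (h2 : charDegree χ.1 = charDegree ψ.1) (g : P) : χ.1 g = χ.1 1 ↔ ψ.1 g = ψ.1 1 := by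
  obtain ⟨k, hk, hψ⟩ := h χ ψ h1 h2
  have hψ1 : ψ.1 1 = χ.1 1 := by rw [hψ, one_pow]
  let K := charKer χ.1 (isCharacter_of_irr χ.2)
  have hcop : Nat.Coprime k (orderOf g) := Nat.Coprime.coprime_dvd_right (orderOf_dvd_natCard g) hk
  constructor
  · intro hg
    have h3 : g ∈ K := hg
    have h4 : g ^ k ∈ K := K.pow_mem h3 k
    rw [hψ, hψ1]
    exact h4
  · intro hg
    rw [hψ, hψ1] at hg
    have h4 : g ^ k ∈ K := hg
    obtain ⟨m, hm⟩ := exists_pow_eq_self_of_coprime hcop
    have h5 : (g ^ k) ^ m ∈ K := K.pow_mem h4 m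
    rw [hm] at h5
    exact h5

theorem GalDeg.quot (h : GalDeg P) (N : Subgroup P) [hN : N.Normal] : GalDeg (P ⧸ N) := by
  intro χ ψ h1 h2
  obtain ⟨k, hk, hψ⟩ := h ⟨_, isIrr_inflate N χ.2⟩ ⟨_, isIrr_inflate N ψ.2⟩
    (by show charDegree (χ.1 ∘ QuotientGroup.mk' N) ≠ 1; rwa [charDegree_comp_mk])
    (by
      show charDegree (χ.1 ∘ QuotientGroup.mk' N) = charDegree (ψ.1 ∘ QuotientGroup.mk' N)
      rw [charDegree_comp_mk, charDegree_comp_mk, h2])
  refine ⟨k, ?_, ?_⟩
  · apply Nat.Coprime.coprime_dvd_right _ hk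
    exact Subgroup.card_quotient_dvd_card N
  · intro g
    obtain ⟨x, rfl⟩ := QuotientGroup.mk'_surjective N g
    have := hψ x
    simp only [Function.comp_apply, map_pow] at this
    exact this

/-- Central elements of prime order lie in the commutator subgroup. -/
theorem GalDeg.mem_commutator (h : GalDeg P) (hna : commutator P ≠ ⊥) {p : ℕ} [hp : Fact p.Prime]
    {z : P} (hz : z ∈ Subgroup.center P) (hzp : orderOf z = p) : z ∈ commutator P := by
  by_contra hzc
  haveI hn : (Subgroup.zpowers z).Normal := by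
    constructor
    intro n hn g
    have h1 : g * n * g⁻¹ = n := by
      have h2 : n ∈ Subgroup.center P :=
        (Subgroup.zpowers_le.2 hz) hn
      rw [(Subgroup.mem_center_iff.1 h2 g)]
      group
    rwa [h1]
  have hnot : ¬ commutator P ≤ Subgroup.zpowers z := by
    intro hle
    apply hzc
    have hcard : Nat.card (Subgroup.zpowers z) = p := by
      rw [Nat.card_zpowers, hzp]
    have h1 : Nat.card (commutator P) ∣ p := by
      rw [← hcard]
      exact Subgroup.card_dvd_of_le hle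
    rcases (Nat.dvd_prime hp.out).1 h1 with h2 | h2
    · exact absurd (Subgroup.card_eq_one.1 h2) hna
    · have h3 : commutator P = Subgroup.zpowers z :=
        Subgroup.eq_of_le_of_card_ge hle (by rw [h2, hcard])
      rw [h3]
      exact Subgroup.mem_zpowers z
  obtain ⟨β, hβ, hβz⟩ := exists_nonlinear_of_not_le (Subgroup.zpowers z) hnot
  obtain ⟨l, hl1, hl2⟩ := exists_linear_ne hzc
  let ψ : IrrCharacter P := ⟨fun t => l.1 t * β.1 t,
    isIrr_linear_mul β.2 (isCharacter_of_irr l.2) hl1⟩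
  have hdeg : charDegree ψ.1 = charDegree β.1 := by
    unfold charDegree
    show ⌊(l.1 1 * β.1 1).re⌋₊ = _
    rw [linear_one (isCharacter_of_irr l.2) hl1, one_mul]
  have h2 := (h.ker_iff β ψ hβ hdeg.symm z).1 (hβz z (Subgroup.mem_zpowers z))
  apply hl2
  have h3 : β.1 z = β.1 1 := hβz z (Subgroup.mem_zpowers z)
  have h4 : β.1 1 ≠ 0 := irr_one_ne_zero' β.2
  have h5 : l.1 z * β.1 z = l.1 1 * β.1 1 := h2
  rw [h3, linear_one (isCharacter_of_irr l.2) hl1, one_mul] at h5
  exact mul_right_cancel₀ h4 (h5.trans (one_mul _).symm)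

end

section Structure

variable {Q : Type u} [Group Q] [Finite Q] {p : ℕ} [hp : Fact p.Prime]

theorem commutator_le_center_of_card (hQ : IsPGroup p Q) (hc : Nat.card (commutator Q) = p) :
    commutator Q ≤ Subgroup.center Q := by
  have hne : commutator Q ≠ ⊥ := by
    intro h
    rw [h, Subgroup.card_bot] at hc
    exact hp.out.one_lt.ne hc
  have h := H09.normal_inf_center_ne_bot hQ (commutator Q) hne
  have h1 : Nat.card (commutator Q ⊓ Subgroup.center Q : Subgroup Q) ∣ p := by
    rw [← hc]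
    exact Subgroup.card_dvd_of_le inf_le_left
  rcases (Nat.dvd_prime hp.out).1 h1 with h2 | h2
  · exact absurd (Subgroup.card_eq_one.1 h2) h
  · have h3 : commutator Q ⊓ Subgroup.center Q = commutator Q :=
      Subgroup.eq_of_le_of_card_ge inf_le_left (by rw [h2, hc])
    exact inf_eq_left.1 h3

/-- An element of a `p`-group of order not one has a power of order `p`, inside the subgroup. -/
theorem exists_pow_orderOf_eq (hQ : IsPGroup p Q) {z : Q} (hz : z ≠ 1) :
    ∃ m : ℕ, orderOf (z ^ m) = p := by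
  obtain ⟨n, hn⟩ := hQ z
  obtain ⟨j, hj, hzj⟩ := (Nat.dvd_prime_pow hp.out).1 (orderOf_dvd_of_pow_eq_one hn)
  rcases j with _ | j
  · exact absurd (orderOf_eq_one_iff.1 (by simpa using hzj)) hz
  · refine ⟨p ^ j, ?_⟩
    rw [orderOf_pow_of_dvd (pow_ne_zero _ hp.out.ne_zero) (by rw [hzj, pow_succ]; exact Dvd.intro _ rfl), hzj,
      pow_succ, Nat.mul_div_cancel_left _ (pow_pos hp.out.pos _)]

theorem nonlinear_faithful_center (hQ : IsPGroup p Q) (hc : Nat.card (commutator Q) = p)
    (hmem : ∀ z ∈ Subgroup.center Q, orderOf z = p → z ∈ commutator Q) (χ : IrrCharacter Q)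
    (hχ : charDegree χ.1 ≠ 1) (z : Q) (hz : z ∈ Subgroup.center Q) (hk : χ.1 z = χ.1 1) : z = 1 := by
  by_contra hne
  obtain ⟨m, hm⟩ := exists_pow_orderOf_eq hQ hne
  let K := charKer χ.1 (isCharacter_of_irr χ.2)
  have hzK : z ∈ K := hk
  have h1 : z ^ m ∈ K := K.pow_mem hzK m
  have h2 : z ^ m ∈ commutator Q := hmem _ ((Subgroup.center Q).pow_mem hz m) hm
  have h3 : commutator Q ≤ K := by
    have h4 : Subgroup.zpowers (z ^ m) ≤ commutator Q := Subgroup.zpowers_le.2 h2
    have h5 : Subgroup.zpowers (z ^ m) = commutator Q :=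
      Subgroup.eq_of_le_of_card_ge h4 (by rw [Nat.card_zpowers, hm, hc])
    rw [← h5]
    exact Subgroup.zpowers_le.2 h1
  exact hχ (degree_one_of_commutator_ker χ.2 fun x hx => h3 hx)

theorem nonlinear_faithful (hQ : IsPGroup p Q) (hc : Nat.card (commutator Q) = p)
    (hmem : ∀ z ∈ Subgroup.center Q, orderOf z = p → z ∈ commutator Q) (χ : IrrCharacter Q)
    (hχ : charDegree χ.1 ≠ 1) (g : Q) (hk : χ.1 g = χ.1 1) : g = 1 := by
  by_contra hne
  let K := charKer χ.1 (isCharacter_of_irr χ.2)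
  have hK : K ≠ ⊥ := by
    intro h
    have : g ∈ K := hk
    rw [h, Subgroup.mem_bot] at this
    exact hne this
  have h1 := H09.normal_inf_center_ne_bot hQ K hK
  obtain ⟨⟨z, hz1, hz2⟩, hz3⟩ := Subgroup.ne_bot_iff_exists_ne_one.1 h1
  have h2 := nonlinear_faithful_center hQ hc hmem χ hχ z hz2 hz1
  exact hz3 (Subtype.ext h2)

theorem nonlinear_vanish (hQ : IsPGroup p Q) (hc : Nat.card (commutator Q) = p)
    (hmem : ∀ z ∈ Subgroup.center Q, orderOf z = p → z ∈ commutator Q) (χ : IrrCharacter Q)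
    (hχ : charDegree χ.1 ≠ 1) (g : Q) (hg : g ∉ Subgroup.center Q) : χ.1 g = 0 := by
  classical
  haveI := Fintype.ofFinite Q
  haveI := Fintype.ofFinite (IrrCharacter Q)
  have hex : ∃ h : Q, h * g ≠ g * h := by
    by_contra hcon
    push Not at hcon
    exact hg (Subgroup.mem_center_iff.2 hcon)
  obtain ⟨h, hh⟩ := hex
  let c : Q := h * g * h⁻¹ * g⁻¹
  have hcc : c ∈ commutator Q := by
    have := Subgroup.commutator_mem_commutator (Subgroup.mem_top h) (Subgroup.mem_top g)
    rwa [commutatorElement_def] at this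
  have hcne : c ≠ 1 := by
    intro h0
    apply hh
    have h1 : h * g * h⁻¹ * g⁻¹ = 1 := h0
    calc h * g = (h * g * h⁻¹ * g⁻¹) * (g * h) := by group
      _ = g * h := by rw [h1, one_mul]
  have hcz : c ∈ Subgroup.center Q := commutator_le_center_of_card hQ hc hcc
  have h1 := irr_central_mul χ.2 hcz g
  have h2 : c * g = h * g * h⁻¹ := by
    show h * g * h⁻¹ * g⁻¹ * g = _
    group
  rw [h2, isCharacter_conj (isCharacter_of_irr χ.2)] at h1
  have h3 : χ.1 c ≠ χ.1 1 := fun h => hcne (nonlinear_faithful_center hQ hc hmem χ hχ c hcz h)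
  rw [one_eq_charDegree (isCharacter_of_irr χ.2)] at h3
  have h4 : χ.1 g * ((charDegree χ.1 : ℂ) - χ.1 c) = 0 := by
    rw [mul_sub, h1]
    ring
  rcases mul_eq_zero.1 h4 with h5 | h5
  · exact h5
  · exact absurd (sub_eq_zero.1 h5).symm h3

/-- A degree formula for characters vanishing off the centre. -/
theorem deg_sq_of_vanish {X : Type u} [Group X] [Finite X] {χ : X → ℂ} (hχ : IsIrrCharacter X χ)
    (hv : ∀ g, g ∉ Subgroup.center X → χ g = 0) :
    charDegree χ ^ 2 * Nat.card (Subgroup.center X) = Nat.card X := by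
  classical
  haveI := Fintype.ofFinite X
  haveI : Fintype (IrrCharacter X) := Fintype.ofFinite _
  have h1 := classInner_irr_self hχ
  rw [classInner_self_eq_real] at h1
  have h2 : (Nat.card X : ℝ)⁻¹ * ∑ x : X, ‖χ x‖ ^ 2 = 1 := by exact_mod_cast h1
  have hX : (Nat.card X : ℝ) ≠ 0 := Nat.cast_ne_zero.mpr Nat.card_pos.ne'
  have h3 : ∑ x : X, ‖χ x‖ ^ 2 = Nat.card X := by
    field_simp at h2
    linarith
  have h4 : ∑ x : X, ‖χ x‖ ^ 2 = ∑ x ∈ Finset.univ.filter (· ∈ Subgroup.center X), (charDegree χ : ℝ) ^ 2 := by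
    rw [Finset.sum_filter]
    refine Finset.sum_congr rfl fun x _ => ?_
    split_ifs with hx
    · rw [irr_norm_central hχ hx]
    · rw [hv x hx]
      simp
  have h6 : (Finset.univ.filter (· ∈ Subgroup.center X)).card = Nat.card (Subgroup.center X) := by
    rw [Nat.card_eq_fintype_card, Fintype.card_subtype]
  rw [h4, Finset.sum_const, h6, nsmul_eq_mul] at h3
  have h7 : ((charDegree χ ^ 2 * Nat.card (Subgroup.center X) : ℕ) : ℝ) = (Nat.card X : ℝ) := by
    push_cast
    linarith
  exact_mod_cast h7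

end Structure

section Cases

variable {P : Type u} [Group P] [Finite P] {p : ℕ} [hp : Fact p.Prime]

/-- Cardinality of the commutator subgroup of a quotient. -/
theorem card_commutator_quot (N : Subgroup P) [hN : N.Normal] (hle : N ≤ commutator P) :
    Nat.card (commutator (P ⧸ N)) * Nat.card N = Nat.card (commutator P) := by
  have h1 : commutator (P ⧸ N) = (commutator P).map (QuotientGroup.mk' N) := by
    rw [commutator_def, commutator_def, Subgroup.map_commutator, Subgroup.map_top_of_surjective _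
      (QuotientGroup.mk'_surjective N)]
  let f : commutator P →* P ⧸ N := (QuotientGroup.mk' N).comp (commutator P).subtype
  have h2 : f.range = commutator (P ⧸ N) := by
    rw [h1, MonoidHom.range_comp, Subgroup.range_subtype]
  have h3 : Nat.card f.ker = Nat.card N := by
    have hk : f.ker = N.subgroupOf (commutator P) := by
      ext x
      simp [f, MonoidHom.mem_ker, Subgroup.mem_subgroupOf]
    rw [hk]
    exact Nat.card_congr (Subgroup.subgroupOfEquivOfLe hle).toEquiv
  rw [← h2, ← h3]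
  have h4 := Subgroup.card_mul_index f.ker
  rw [Subgroup.index_ker] at h4
  rw [mul_comm]
  exact h4

/-- For `M` central of order `p` with `|(P/M)'| = p`, the preimage of the centre of `P/M`. -/
def zM (M : Subgroup P) [hM : M.Normal] : Subgroup P :=
  (Subgroup.center (P ⧸ M)).comap (QuotientGroup.mk' M)

theorem mem_zM {M : Subgroup P} [hM : M.Normal] {y : P} :
    y ∈ zM M ↔ ∀ g : P, y * g * y⁻¹ * g⁻¹ ∈ M := by
  unfold zM
  rw [Subgroup.mem_comap, Subgroup.mem_center_iff]
  constructor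
  · intro h g
    have h1 := h (g : P ⧸ M)
    rw [← QuotientGroup.eq_one_iff]
    simp only [QuotientGroup.mk'_apply] at h1
    simp only [QuotientGroup.mk_mul, QuotientGroup.mk_inv]
    rw [← h1]
    group
  · intro h g
    obtain ⟨x, rfl⟩ := QuotientGroup.mk'_surjective M g
    have h1 := h x
    rw [← QuotientGroup.eq_one_iff] at h1
    simp only [QuotientGroup.mk_mul, QuotientGroup.mk_inv] at h1
    simp only [QuotientGroup.mk'_apply]
    calc (x : P ⧸ M) * (y : P ⧸ M)
        = ((y : P ⧸ M) * x * (y : P ⧸ M)⁻¹ * (x : P ⧸ M)⁻¹)⁻¹ * (y * x) := by group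
      _ = y * x := by rw [h1, inv_one, one_mul]

theorem center_le_zM (M : Subgroup P) [hM : M.Normal] : Subgroup.center P ≤ zM M := by
  intro y hy
  rw [mem_zM]
  intro g
  have h1 : y * g * y⁻¹ * g⁻¹ = 1 := by
    rw [← Subgroup.mem_center_iff.1 hy g]
    group
  rw [h1]
  exact M.one_mem

/-- `zM` contains `p`-th roots of central elements. -/
theorem pow_mem_center_of_zM {M : Subgroup P} [hM : M.Normal] (hMc : M ≤ Subgroup.center P)
    (hMp : ∀ m ∈ M, m ^ p = 1) {y : P} (hy : y ∈ zM M) : y ^ p ∈ Subgroup.center P := by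
  rw [Subgroup.mem_center_iff]
  intro g
  have h1 := (mem_zM.1 hy) g
  obtain ⟨m, hm⟩ : ∃ m, m = y * g * y⁻¹ * g⁻¹ := ⟨_, rfl⟩
  have hmM : m ∈ M := hm ▸ h1
  have hmc := Subgroup.mem_center_iff.1 (hMc hmM)
  have h2 : g * y * g⁻¹ = m⁻¹ * y := by
    rw [hm]
    group
  have h3 : g * y ^ p * g⁻¹ = y ^ p := by
    rw [← conj_pow, h2]
    have hcomm : Commute m⁻¹ y := by
      have := hmc y
      exact (Commute.inv_left (show Commute m y from (hmc y).symm))
    rw [hcomm.mul_pow, inv_pow, hMp m hmM, inv_one, one_mul]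
  calc g * y ^ p = (g * y ^ p * g⁻¹) * g := by group
    _ = y ^ p * g := by rw [h3]

/-- The central quotient of `zM` has order at most `p`. -/
theorem relIndex_center_zM_le {M : Subgroup P} [hM : M.Normal] (hMc : M ≤ Subgroup.center P)
    (hMp : ∀ m ∈ M, m ^ p = 1) (hcyc : IsCyclic (Subgroup.center (P ⧸ M))) :
    (Subgroup.center P).relIndex (zM M) ≤ p := by
  classical
  obtain ⟨c, hc⟩ := IsCyclic.exists_generator (α := Subgroup.center (P ⧸ M))
  obtain ⟨y₀, hy₀⟩ := QuotientGroup.mk'_surjective M (c : P ⧸ M)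
  have hy₀z : y₀ ∈ zM M := by
    show QuotientGroup.mk' M y₀ ∈ Subgroup.center (P ⧸ M)
    rw [hy₀]
    exact c.2
  let S : Subgroup (zM M) := (Subgroup.center P).subgroupOf (zM M)
  let Y : zM M := ⟨y₀, hy₀z⟩
  have hYp : Y ^ p ∈ S := by
    show ((Y ^ p : zM M) : P) ∈ Subgroup.center P
    simpa [Y] using pow_mem_center_of_zM hMc hMp hy₀z
  let f : Fin p → zM M ⧸ S := fun i => ((Y ^ (i : ℕ) : zM M) : zM M ⧸ S)
  haveI : Fact (0 < p) := ⟨hp.out.pos⟩
  have hsurj : Function.Surjective f := by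
    intro q
    obtain ⟨y, rfl⟩ := QuotientGroup.mk_surjective q
    have hy1 : QuotientGroup.mk' M (y : P) ∈ Subgroup.center (P ⧸ M) := y.2
    have h2 := hc ⟨_, hy1⟩
    rw [← mem_powers_iff_mem_zpowers] at h2
    obtain ⟨n, hn⟩ := h2
    have h3 : (c : P ⧸ M) ^ n = QuotientGroup.mk' M (y : P) := by
      have := congrArg Subtype.val hn
      simpa using this
    rw [← hy₀, ← map_pow] at h3
    have h4 : (y₀ ^ n)⁻¹ * (y : P) ∈ M := by
      rw [← QuotientGroup.eq_one_iff]
      have := h3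
      simp only [QuotientGroup.mk'_apply] at this
      rw [QuotientGroup.mk_mul, QuotientGroup.mk_inv, this, inv_mul_cancel]
    have hn2 : n = n % p + p * (n / p) := (Nat.mod_add_div n p).symm
    refine ⟨⟨n % p, Nat.mod_lt _ hp.out.pos⟩, ?_⟩
    show ((Y ^ (n % p) : zM M) : zM M ⧸ S) = ((y : zM M) : zM M ⧸ S)
    rw [QuotientGroup.eq]
    show (((Y ^ (n % p))⁻¹ * y : zM M) : P) ∈ Subgroup.center P
    have h5 : y₀ ^ n = y₀ ^ (n % p) * (y₀ ^ p) ^ (n / p) := by
      conv_lhs => rw [hn2, pow_add, pow_mul]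
    have h6 : (((Y ^ (n % p))⁻¹ * y : zM M) : P) =
        (y₀ ^ p) ^ (n / p) * ((y₀ ^ n)⁻¹ * (y : P)) := by
      simp only [Y, Subgroup.coe_mul, Subgroup.coe_inv, SubmonoidClass.coe_pow]
      rw [h5]
      group
    rw [h6]
    exact Subgroup.mul_mem _ (Subgroup.pow_mem _ (pow_mem_center_of_zM hMc hMp hy₀z) _) (hMc h4)
  have h7 := Nat.card_le_card_of_surjective f hsurj
  have h8 : (Subgroup.center P).relIndex (zM M) = Nat.card (zM M ⧸ S) := rfl
  rw [h8]
  simpa using h7


theorem center_cyclic_of_galDeg (hP : IsPGroup p P) (hG : GalDeg P) (hc : Nat.card (commutator P) = p) :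
    IsCyclic (Subgroup.center P) := by
  have hna : commutator P ≠ ⊥ := by
    intro h
    rw [h, Subgroup.card_bot] at hc
    exact hp.out.one_lt.ne hc
  apply H14.isCyclic_of_comm_uniqueP (hP.to_subgroup _)
  · intro x y
    exact Subtype.ext (Subgroup.mem_center_iff.1 x.2 y).symm
  · intro x y hx hy
    have hx' : orderOf (x : P) = p := by rw [Subgroup.orderOf_coe, hx]
    have hy' : orderOf (y : P) = p := by rw [Subgroup.orderOf_coe, hy]
    have h1 := hG.mem_commutator hna x.2 hx'
    have h2 := hG.mem_commutator hna y.2 hy'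
    have h3 : Subgroup.zpowers (x : P) = commutator P :=
      Subgroup.eq_of_le_of_card_ge (Subgroup.zpowers_le.2 h1) (by rw [Nat.card_zpowers, hx', hc])
    rw [← h3] at h2
    obtain ⟨k, hk⟩ := Subgroup.mem_zpowers_iff.1 h2
    exact Subgroup.mem_zpowers_iff.2 ⟨k, Subtype.ext (by simpa using hk)⟩

theorem type_one (hP : IsPGroup p P) (hG : GalDeg P) (M : Subgroup P) [hM : M.Normal]
    (hc : Nat.card (commutator (P ⧸ M)) = p) :
    ∃ χ : IrrCharacter P, charDegree χ.1 ≠ 1 ∧ (∀ g, χ.1 g = χ.1 1 ↔ g ∈ M) ∧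
      charDegree χ.1 ^ 2 = (zM M).index := by
  have hQ : IsPGroup p (P ⧸ M) := hP.to_quotient M
  have hQG := hG.quot M
  have hna : commutator (P ⧸ M) ≠ ⊥ := by
    intro h
    rw [h, Subgroup.card_bot] at hc
    exact hp.out.one_lt.ne hc
  have hmem : ∀ z ∈ Subgroup.center (P ⧸ M), orderOf z = p → z ∈ commutator (P ⧸ M) :=
    fun z hz ho => hQG.mem_commutator hna hz ho
  obtain ⟨β, hβ, -⟩ := exists_nonlinear_of_not_le (⊥ : Subgroup (P ⧸ M)) (by
    rw [le_bot_iff]
    exact hna)
  refine ⟨⟨_, isIrr_inflate M β.2⟩, ?_, ?_, ?_⟩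
  · show charDegree (β.1 ∘ QuotientGroup.mk' M) ≠ 1
    rwa [charDegree_comp_mk]
  · intro g
    show β.1 (QuotientGroup.mk' M g) = β.1 (QuotientGroup.mk' M 1) ↔ _
    rw [map_one, ← QuotientGroup.eq_one_iff]
    constructor
    · intro h
      exact nonlinear_faithful hQ hc hmem β hβ _ h
    · intro h
      have h2 : QuotientGroup.mk' M g = 1 := h
      rw [h2]
  · show charDegree (β.1 ∘ QuotientGroup.mk' M) ^ 2 = _
    rw [charDegree_comp_mk]
    have h1 := deg_sq_of_vanish β.2 (fun g hg => nonlinear_vanish hQ hc hmem β hβ g hg)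
    have h2 := Subgroup.card_mul_index (Subgroup.center (P ⧸ M))
    have h3 : (zM M).index = (Subgroup.center (P ⧸ M)).index :=
      Subgroup.index_comap_of_surjective _ (QuotientGroup.mk'_surjective M)
    rw [h3]
    have h4 : Nat.card (Subgroup.center (P ⧸ M)) * charDegree β.1 ^ 2 =
        Nat.card (Subgroup.center (P ⧸ M)) * (Subgroup.center (P ⧸ M)).index := by
      rw [h2, mul_comm, h1]
    exact Nat.eq_of_mul_eq_mul_left Nat.card_pos h4

theorem index_center_eq (hP : IsPGroup p P) (hG : GalDeg P) (M : Subgroup P) [hM : M.Normal]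
    (hMc : M ≤ Subgroup.center P) (hMp : ∀ m ∈ M, m ^ p = 1)
    (hc : Nat.card (commutator (P ⧸ M)) = p) :
    (Subgroup.center P).index = (zM M).index ∨ (Subgroup.center P).index = p * (zM M).index := by
  have hQG := hG.quot M
  have hcyc := center_cyclic_of_galDeg (hP.to_quotient M) hQG hc
  have h1 := relIndex_center_zM_le hMc hMp hcyc
  have h2 := Subgroup.relIndex_mul_index (center_le_zM M)
  obtain ⟨n, hn⟩ := IsPGroup.iff_card.1 hP
  have h3 : (Subgroup.center P).relIndex (zM M) ∣ p ^ n := by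
    rw [← hn]
    exact (Dvd.intro _ h2).trans (Subgroup.index_dvd_card _)
  obtain ⟨j, _, hj⟩ := (Nat.dvd_prime_pow hp.out).1 h3
  rcases j with _ | j
  · left
    rw [← h2, hj]
    simp
  · rcases j with _ | j
    · right
      rw [← h2, hj]
      simp
    · exfalso
      rw [hj] at h1
      have h4 : p ^ 1 < p ^ (j + 1 + 1) := Nat.pow_lt_pow_right hp.out.one_lt (by omega)
      rw [pow_one] at h4
      omega

theorem sq_ne_prime_mul_sq (a b : ℕ) (hb : b ≠ 0) : a ^ 2 ≠ p * b ^ 2 := by
  intro h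
  have ha : a ≠ 0 := by
    rintro rfl
    have : p * b ^ 2 ≠ 0 := mul_ne_zero hp.out.ne_zero (pow_ne_zero _ hb)
    rw [← h] at this
    simp at this
  have h1 := congrArg (fun n => n.factorization p) h
  simp only [Nat.factorization_pow, Nat.factorization_mul hp.out.ne_zero (pow_ne_zero 2 hb),
    Finsupp.add_apply, Finsupp.smul_apply, smul_eq_mul, hp.out.factorization_self] at h1
  omega

/-- Linear characters are trivial on the commutator subgroup. -/
theorem linear_on_commutator (χ : IrrCharacter P) (h1 : charDegree χ.1 = 1) {x : P}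
    (hx : x ∈ commutator P) : χ.1 x = χ.1 1 := by
  have hc := isCharacter_of_irr χ.2
  let K := charKer χ.1 hc
  have hle : commutator P ≤ K := by
    rw [commutator_def, Subgroup.commutator_le]
    intro a _ b _
    show χ.1 ⁅a, b⁆ = χ.1 1
    rw [commutatorElement_def, linear_mul hc h1, linear_mul hc h1, linear_mul hc h1]
    have h2 : χ.1 a * χ.1 a⁻¹ = 1 := by
      rw [← linear_mul hc h1, mul_inv_cancel, linear_one hc h1]
    have h3 : χ.1 b * χ.1 b⁻¹ = 1 := by
      rw [← linear_mul hc h1, mul_inv_cancel, linear_one hc h1]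
    rw [linear_one hc h1]
    calc χ.1 a * χ.1 b * χ.1 a⁻¹ * χ.1 b⁻¹ = (χ.1 a * χ.1 a⁻¹) * (χ.1 b * χ.1 b⁻¹) := by ring
      _ = 1 := by rw [h2, h3, one_mul]
  exact hle hx

/-- Vanishing off the centre, from faithfulness on the central commutator subgroup. -/
theorem vanish_of_faithful (hle : commutator P ≤ Subgroup.center P) (χ : IrrCharacter P)
    (hf : ∀ c ∈ commutator P, χ.1 c = χ.1 1 → c = 1) (g : P) (hg : g ∉ Subgroup.center P) :
    χ.1 g = 0 := by
  classical
  haveI := Fintype.ofFinite P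
  haveI := Fintype.ofFinite (IrrCharacter P)
  have hex : ∃ h : P, h * g ≠ g * h := by
    by_contra hcon
    push Not at hcon
    exact hg (Subgroup.mem_center_iff.2 hcon)
  obtain ⟨h, hh⟩ := hex
  let c : P := h * g * h⁻¹ * g⁻¹
  have hcc : c ∈ commutator P := by
    have := Subgroup.commutator_mem_commutator (Subgroup.mem_top h) (Subgroup.mem_top g)
    rwa [commutatorElement_def] at this
  have hcne : c ≠ 1 := by
    intro h0
    apply hh
    have h1 : h * g * h⁻¹ * g⁻¹ = 1 := h0
    calc h * g = (h * g * h⁻¹ * g⁻¹) * (g * h) := by group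
      _ = g * h := by rw [h1, one_mul]
  have hcz : c ∈ Subgroup.center P := hle hcc
  have h1 := irr_central_mul χ.2 hcz g
  have h2 : c * g = h * g * h⁻¹ := by
    show h * g * h⁻¹ * g⁻¹ * g = _
    group
  rw [h2, isCharacter_conj (isCharacter_of_irr χ.2)] at h1
  have h3 : χ.1 c ≠ χ.1 1 := fun h => hcne (hf c hcc h)
  rw [one_eq_charDegree (isCharacter_of_irr χ.2)] at h3
  have h4 : χ.1 g * ((charDegree χ.1 : ℂ) - χ.1 c) = 0 := by
    rw [mul_sub, h1]
    ring
  rcases mul_eq_zero.1 h4 with h5 | h5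
  · exact h5
  · exact absurd (sub_eq_zero.1 h5).symm h3

theorem zp_normal {z : P} (hz : z ∈ Subgroup.center P) : (Subgroup.zpowers z).Normal := by
  constructor
  intro n hn g
  have h1 : g * n * g⁻¹ = n := by
    have h2 : n ∈ Subgroup.center P := (Subgroup.zpowers_le.2 hz) hn
    rw [(Subgroup.mem_center_iff.1 h2 g)]
    group
  rwa [h1]

theorem zp_pow {z : P} (hz : orderOf z = p) : ∀ m ∈ Subgroup.zpowers z, m ^ p = 1 := by
  intro m hm
  obtain ⟨k, rfl⟩ := Subgroup.mem_zpowers_iff.1 hm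
  rw [← zpow_natCast, zpow_comm, zpow_natCast, ← hz, pow_orderOf_eq_one, one_zpow]

theorem zp_quot_card {z : P} (hz : z ∈ Subgroup.center P) (hzc : z ∈ commutator P) (ho : orderOf z = p)
    (hcard : Nat.card (commutator P) = p ^ 2) :
    haveI := zp_normal hz
    Nat.card (commutator (P ⧸ Subgroup.zpowers z)) = p := by
  haveI := zp_normal hz
  have h1 := card_commutator_quot (Subgroup.zpowers z) (Subgroup.zpowers_le.2 hzc)
  rw [hcard, Nat.card_zpowers, ho, sq] at h1
  exact Nat.eq_of_mul_eq_mul_right hp.out.pos h1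

theorem cyclic_unique {C : Type*} [Group C] [Finite C] [IsCyclic C] (x y : C) (hx : orderOf x = p)
    (hy : y ^ p = 1) : y ∈ Subgroup.zpowers x := by
  classical
  haveI := Fintype.ofFinite C
  have h1 := IsCyclic.card_pow_eq_one_le (α := C) hp.out.pos
  have h2 : (Finset.univ.filter (· ∈ Subgroup.zpowers x)).card = p := by
    rw [← hx, ← Nat.card_zpowers, Nat.card_eq_fintype_card, Fintype.card_subtype]
  have h3 : (Finset.univ.filter (· ∈ Subgroup.zpowers x)) ⊆ (Finset.univ.filter fun a : C => a ^ p = 1) := by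
    intro a ha
    simp only [Finset.mem_filter, Finset.mem_univ, true_and] at ha ⊢
    obtain ⟨k, rfl⟩ := Subgroup.mem_zpowers_iff.1 ha
    rw [← zpow_natCast, zpow_comm, zpow_natCast, ← hx, pow_orderOf_eq_one, one_zpow]
  have h4 := Finset.eq_of_subset_of_card_le h3 (by rw [h2]; exact h1)
  have h5 : y ∈ (Finset.univ.filter fun a : C => a ^ p = 1) := by simp [hy]
  rw [← h4] at h5
  simpa using h5

theorem deg_sq_eq_index {X : Type u} [Group X] [Finite X] {χ : X → ℂ} (hχ : IsIrrCharacter X χ)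
    (hv : ∀ g, g ∉ Subgroup.center X → χ g = 0) : charDegree χ ^ 2 = (Subgroup.center X).index := by
  have h1 := deg_sq_of_vanish hχ hv
  have h2 := Subgroup.card_mul_index (Subgroup.center X)
  have h4 : Nat.card (Subgroup.center X) * charDegree χ ^ 2 =
      Nat.card (Subgroup.center X) * (Subgroup.center X).index := by
    rw [h2, mul_comm, h1]
  exact Nat.eq_of_mul_eq_mul_left Nat.card_pos h4

/-- `P'` central and cyclic of order `p²` is impossible. -/
theorem no_central_cyclic (hP : IsPGroup p P) (hG : GalDeg P) (hcard : Nat.card (commutator P) = p ^ 2)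
    (hcen : commutator P ≤ Subgroup.center P) (hcyc : IsCyclic (commutator P)) : False := by
  have hdvd : p ∣ Nat.card (commutator P) := by
    rw [hcard]
    exact dvd_pow_self _ two_ne_zero
  obtain ⟨w, hw⟩ := exists_prime_orderOf_dvd_card' p hdvd
  have hzo : orderOf (w : P) = p := by rw [Subgroup.orderOf_coe, hw]
  have hzne : (w : P) ≠ 1 := by
    intro h
    rw [h, orderOf_one] at hzo
    exact hp.out.one_lt.ne hzo
  have hzc := hcen w.2
  haveI := zp_normal hzc
  obtain ⟨χ₁, h1a, h1b, h1c⟩ := type_one hP hG (Subgroup.zpowers (w : P)) (zp_quot_card hzc w.2 hzo hcard)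
  have hr := index_center_eq hP hG (Subgroup.zpowers (w : P)) (Subgroup.zpowers_le.2 hzc) (zp_pow hzo)
    (zp_quot_card hzc w.2 hzo hcard)
  obtain ⟨χ₂, h2⟩ := exists_irr_ne_of_ne_one hzne
  have h2a : charDegree χ₂.1 ≠ 1 := fun h => h2 (linear_on_commutator χ₂ h w.2)
  -- faithfulness on the commutator subgroup
  have hf : ∀ c ∈ commutator P, χ₂.1 c = χ₂.1 1 → c = 1 := by
    intro c hc hk
    by_contra hne
    obtain ⟨m, hm⟩ := exists_pow_orderOf_eq hP hne
    let K := charKer χ₂.1 (isCharacter_of_irr χ₂.2)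
    have hcK : c ∈ K := hk
    have hcm : c ^ m ∈ K := K.pow_mem hcK m
    have hcm2 : c ^ m ∈ commutator P := (commutator P).pow_mem hc m
    have hu : (w : P) ∈ Subgroup.zpowers (c ^ m) := by
      let C : commutator P := ⟨c ^ m, hcm2⟩
      have hCo : orderOf C = p := by rw [← Subgroup.orderOf_coe]; exact hm
      have h3 := cyclic_unique C w hCo (by rw [← hw]; exact pow_orderOf_eq_one w)
      obtain ⟨k, hk⟩ := Subgroup.mem_zpowers_iff.1 h3
      exact Subgroup.mem_zpowers_iff.2 ⟨k, by
        have := congrArg Subtype.val hk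
        simpa [C] using this⟩
    exact h2 (Subgroup.zpowers_le.2 hcm hu)
  have h2c := deg_sq_eq_index χ₂.2 (fun g hg => vanish_of_faithful hcen χ₂ hf g hg)
  have hd1 : charDegree χ₁.1 ≠ 0 := (irr_charDegree_pos χ₁.2).ne'
  have hne : charDegree χ₁.1 ≠ charDegree χ₂.1 := by
    intro h
    exact h2 ((hG.ker_iff χ₁ χ₂ h1a h (w : P)).1 ((h1b _).2 (Subgroup.mem_zpowers _)))
  rcases hr with h | h
  · apply hne
    rw [← h2c, ← h1c] at h
    exact (Nat.pow_left_injective (n := 2) (by omega) h).symm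
  · rw [← h2c, ← h1c] at h
    exact sq_ne_prime_mul_sq _ _ hd1 h

/-- `P'` central, elementary of order `p²` is impossible. -/
theorem no_central_noncyclic (hP : IsPGroup p P) (hG : GalDeg P) (hcard : Nat.card (commutator P) = p ^ 2)
    (hcen : commutator P ≤ Subgroup.center P) (hcyc : ¬ IsCyclic (commutator P)) : False := by
  -- all nonidentity elements have order `p`
  have hord : ∀ x ∈ commutator P, x ≠ 1 → orderOf x = p := by
    intro x hx hne
    have h1 : orderOf x ∣ p ^ 2 := by
      rw [← hcard]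
      have := orderOf_dvd_natCard (⟨x, hx⟩ : commutator P)
      rwa [Subgroup.orderOf_mk] at this
    obtain ⟨j, hj, hjo⟩ := (Nat.dvd_prime_pow hp.out).1 h1
    have : j = 0 ∨ j = 1 ∨ j = 2 := by omega
    rcases this with rfl | rfl | rfl
    · exact absurd (orderOf_eq_one_iff.1 (by simpa using hjo)) hne
    · simpa using hjo
    · exfalso
      apply hcyc
      apply isCyclic_of_orderOf_eq_card (⟨x, hx⟩ : commutator P)
      rw [Subgroup.orderOf_mk, hjo, hcard]
  -- the key step
  have key : ∀ x ∈ commutator P, ∀ y ∈ commutator P, x ≠ 1 → y ≠ 1 →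
      (∀ (hx : (Subgroup.zpowers x).Normal) (hy : (Subgroup.zpowers y).Normal), (zM (Subgroup.zpowers x)).index = (zM (Subgroup.zpowers y)).index) →
      Subgroup.zpowers x = Subgroup.zpowers y := by
    intro x hx y hy hx1 hy1 hi
    haveI hxn := zp_normal (hcen hx)
    haveI hyn := zp_normal (hcen hy)
    obtain ⟨χ₁, h1a, h1b, h1c⟩ := type_one hP hG (Subgroup.zpowers x) (zp_quot_card (hcen hx) hx (hord x hx hx1) hcard)
    obtain ⟨χ₂, h2a, h2b, h2c⟩ := type_one hP hG (Subgroup.zpowers y) (zp_quot_card (hcen hy) hy (hord y hy hy1) hcard)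
    have hdeg : charDegree χ₁.1 = charDegree χ₂.1 := by
      have := hi hxn hyn
      rw [← h1c, ← h2c] at this
      exact Nat.pow_left_injective (n := 2) (by omega) this
    ext g
    rw [← h1b, ← h2b]
    exact hG.ker_iff χ₁ χ₂ h1a hdeg g
  have hidx : ∀ x ∈ commutator P, x ≠ 1 → ∀ (hx : (Subgroup.zpowers x).Normal),
      (Subgroup.center P).index = (zM (Subgroup.zpowers x)).index ∨
      (Subgroup.center P).index = p * (zM (Subgroup.zpowers x)).index := by
    intro x hx hx1 hxn
    exact index_center_eq hP hG (Subgroup.zpowers x) (Subgroup.zpowers_le.2 (hcen hx)) (zp_pow (hord x hx hx1))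
      (zp_quot_card (hcen hx) hx (hord x hx hx1) hcard)
  -- three elements
  haveI : Nontrivial (commutator P) := by
    apply Finite.one_lt_card_iff_nontrivial.1
    rw [hcard]
    exact Nat.one_lt_pow two_ne_zero hp.out.one_lt
  obtain ⟨a, ha⟩ := exists_ne (1 : commutator P)
  have ha1 : (a : P) ≠ 1 := fun h => ha (Subtype.ext h)
  have haP := a.2
  have hb : ∃ b ∈ commutator P, b ∉ Subgroup.zpowers (a : P) := by
    by_contra hcon
    push Not at hcon
    have h1 : Nat.card (commutator P) ≤ Nat.card (Subgroup.zpowers (a : P)) :=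
      Subgroup.card_le_of_le hcon
    rw [hcard, Nat.card_zpowers, hord _ haP ha1] at h1
    have : p < p ^ 2 := by
      rw [sq]
      exact Nat.lt_mul_self_iff.2 hp.out.one_lt
    omega
  obtain ⟨b, hbP, hbn⟩ := hb
  have hb1 : b ≠ 1 := by
    rintro rfl
    exact hbn (Subgroup.one_mem _)
  have hcP : (a : P) * b ∈ commutator P := (commutator P).mul_mem haP hbP
  have hc1 : (a : P) * b ≠ 1 := by
    intro h
    apply hbn
    have : b = (a : P)⁻¹ := (eq_inv_of_mul_eq_one_right h)
    rw [this]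
    exact Subgroup.inv_mem _ (Subgroup.mem_zpowers _)
  have hn1 : Subgroup.zpowers (a : P) ≠ Subgroup.zpowers b := by
    intro h
    apply hbn
    rw [h]
    exact Subgroup.mem_zpowers _
  have hn2 : Subgroup.zpowers (a : P) ≠ Subgroup.zpowers ((a : P) * b) := by
    intro h
    apply hbn
    have h1 : (a : P) * b ∈ Subgroup.zpowers (a : P) := by
      rw [h]
      exact Subgroup.mem_zpowers _
    have h2 : b = (a : P)⁻¹ * ((a : P) * b) := by group
    rw [h2]
    exact Subgroup.mul_mem _ (Subgroup.inv_mem _ (Subgroup.mem_zpowers _)) h1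
  have hn3 : Subgroup.zpowers b ≠ Subgroup.zpowers ((a : P) * b) := by
    intro h
    have h1 : (a : P) * b ∈ Subgroup.zpowers b := by
      rw [h]
      exact Subgroup.mem_zpowers _
    have h2 : (a : P) = ((a : P) * b) * b⁻¹ := by group
    have h3 : (a : P) ∈ Subgroup.zpowers b := by
      rw [h2]
      exact Subgroup.mul_mem _ h1 (Subgroup.inv_mem _ (Subgroup.mem_zpowers _))
    have h4 : Subgroup.zpowers (a : P) ≤ Subgroup.zpowers b := Subgroup.zpowers_le.2 h3
    have h5 : Subgroup.zpowers (a : P) = Subgroup.zpowers b :=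
      Subgroup.eq_of_le_of_card_ge h4 (by
        rw [Nat.card_zpowers, Nat.card_zpowers, hord _ haP ha1, hord _ hbP hb1])
    exact hn1 h5
  haveI hna := zp_normal (hcen haP)
  haveI hnb := zp_normal (hcen hbP)
  haveI hnc := zp_normal (hcen hcP)
  have ra := hidx _ haP ha1 hna
  have rb := hidx _ hbP hb1 hnb
  have rc := hidx _ hcP hc1 hnc
  have hp0 := hp.out.pos
  have eq_of : ∀ {A B C : ℕ}, (A = B ∨ A = p * B) → (A = C ∨ A = p * C) → (A ≠ 0) →
      B ≠ C → (A = B ∧ A = p * C) ∨ (A = p * B ∧ A = C) := by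
    rintro A B C (h1 | h1) (h2 | h2) h0 hne
    · exact absurd (h1.symm.trans h2) hne
    · exact Or.inl ⟨h1, h2⟩
    · exact Or.inr ⟨h1, h2⟩
    · exact absurd (Nat.eq_of_mul_eq_mul_left hp0 (h1.symm.trans h2)) hne
  have hA : (Subgroup.center P).index ≠ 0 := Subgroup.index_ne_zero_of_finite
  have hab : (zM (Subgroup.zpowers (a : P))).index ≠ (zM (Subgroup.zpowers b)).index :=
    fun h => hn1 (key _ haP _ hbP ha1 hb1 (fun _ _ => h))
  have hac : (zM (Subgroup.zpowers (a : P))).index ≠ (zM (Subgroup.zpowers ((a : P) * b))).index :=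
    fun h => hn2 (key _ haP _ hcP ha1 hc1 (fun _ _ => h))
  have hbc : (zM (Subgroup.zpowers b)).index ≠ (zM (Subgroup.zpowers ((a : P) * b))).index :=
    fun h => hn3 (key _ hbP _ hcP hb1 hc1 (fun _ _ => h))
  rcases ra with ra | ra <;> rcases rb with rb | rb <;> rcases rc with rc | rc
  · exact hab (ra.symm.trans rb)
  · exact hab (ra.symm.trans rb)
  · exact hac (ra.symm.trans rc)
  · exact hbc (Nat.eq_of_mul_eq_mul_left hp0 (rb.symm.trans rc))
  · exact hbc (rb.symm.trans rc)
  · exact hac (Nat.eq_of_mul_eq_mul_left hp0 (ra.symm.trans rc))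
  · exact hab (Nat.eq_of_mul_eq_mul_left hp0 (ra.symm.trans rb))
  · exact hab (Nat.eq_of_mul_eq_mul_left hp0 (ra.symm.trans rb))

end Cases

end Cfsg.Agent.H23
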