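import Cfsg.Agent.Lib.H23.GalAct
import Cfsg.Agent.Lib.H23.RealOver

set_option autoImplicit false
set_option linter.style.haveILetI false
set_option linter.unusedSectionVars false

namespace Cfsg.Agent.H23

open Cfsg Cfsg.Agent Cfsg.Agent.H21 Cfsg.Agent.H06
open scoped ComplexConjugate

universe u

section
variable {G : Type u} [Group G] [Fintype G] (N : Subgroup G) [hN : N.Normal] [Fintype N]

/-- Modulo a normal subgroup of odd index, the power map inverts. -/
theorem gal_quot_pow (hodd : Odd N.index) {k : ℕ} (hk₂ : ∀ g : G, Odd (orderOf g) → g ^ k = g⁻¹)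
    (g : G) : ((g ^ k : G) : G ⧸ N) = (g : G ⧸ N)⁻¹ := by
  have hm0 : orderOf g ≠ 0 := (orderOf_pos g).ne'
  obtain ⟨a, b, hb, hm⟩ := Nat.exists_eq_two_pow_mul_odd hm0
  have h2a : (2:ℕ) ^ a ≠ 0 := by positivity
  have hv : orderOf (g ^ (2 ^ a)) = b := by
    rw [orderOf_pow_of_dvd h2a (by rw [hm]; exact Dvd.intro _ rfl), hm,
      Nat.mul_div_cancel_left _ (Nat.pos_of_ne_zero h2a)]
  have h1 := hk₂ (g ^ (2 ^ a)) (by rw [hv]; exact hb)
  set q : G ⧸ N := (g : G ⧸ N) with hq
  have h2 : ((q ^ (2 ^ a)) ^ k) = (q ^ (2 ^ a))⁻¹ := by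
    have := congrArg (fun x : G => (x : G ⧸ N)) h1
    simpa [hq] using this
  have h3 : (q ^ (k + 1)) ^ (2 ^ a) = 1 := by
    rw [← pow_mul, mul_comm, pow_mul, pow_succ, h2, inv_mul_cancel]
  have hcard : Odd (Nat.card (G ⧸ N)) := by
    rw [← Subgroup.index_eq_card]; exact hodd
  have h4 : orderOf (q ^ (k + 1)) ∣ 2 ^ a := orderOf_dvd_of_pow_eq_one h3
  have h5 : orderOf (q ^ (k + 1)) ∣ Nat.card (G ⧸ N) := orderOf_dvd_natCard _
  have hcop : Nat.Coprime (2 ^ a) (Nat.card (G ⧸ N)) :=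
    Nat.Coprime.pow_left _ (Nat.coprime_two_left.mpr hcard)
  have h6 : orderOf (q ^ (k + 1)) = 1 := Nat.eq_one_of_dvd_coprimes hcop h4 h5
  have h7 : q ^ (k + 1) = 1 := orderOf_eq_one_iff.mp h6
  rw [QuotientGroup.mk_pow]
  rw [pow_succ] at h7
  exact eq_inv_of_mul_eq_one_left h7

variable [Fintype (IrrCharacter G)] [Fintype (IrrCharacter N)]

/-- There is exactly one Galois-fixed irreducible character over a Galois-fixed irreducible
character of a normal subgroup of odd index. -/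
theorem sum_gal_over (hodd : Odd N.index) {k : ℕ} (hk : k.Coprime (Nat.card G))
    (hk₂ : ∀ g : G, Odd (orderOf g) → g ^ k = g⁻¹) {φ : N → ℂ} (hφ : IsIrrCharacter N φ)
    (hr : ∀ n : N, φ (n ^ k) = φ n) :
    ∑ χ ∈ overSet N φ, (if ∀ g, χ.1 (g ^ k) = χ.1 g then (1:ℂ) else 0) = 1 := by
  classical
  have hGne : (Nat.card G : ℂ) ≠ 0 := by exact_mod_cast Nat.card_pos.ne'
  have hNne : (Nat.card N : ℂ) ≠ 0 := by exact_mod_cast Nat.card_pos.ne'
  have hφc := isCharacter_of_irr hφ
  have hΦ := isCharacter_indFun N hφc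
  have hΦc := indFun_isClass N φ
  set Φ := indFun N φ with hΦdef
  set E := classInner (fun n : N => Φ n) φ with hEdef
  have hE : E ≠ 0 := ind_inner_ne_zero N hφ
  obtain ⟨Em, hEm⟩ := classInner_isCharacter_nat (isCharacter_restrict N hΦ) hφc
  have hEconj : conj E = E := by
    have hEm' : E = Em := hEm
    rw [hEm']; simp
  let e : IrrCharacter G → ℂ := fun χ => classInner (fun n : N => χ.1 n) φ
  have he : ∀ χ : IrrCharacter G, conj (e χ) = e χ := by
    intro χ
    obtain ⟨m, hm⟩ := classInner_isCharacter_nat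
      (isCharacter_restrict N (isCharacter_of_irr χ.2)) hφc
    change conj (classInner (fun n : N => χ.1 n) φ) = classInner (fun n : N => χ.1 n) φ
    rw [hm]; simp
  have hΦσ : ∀ n : N, Φ ((n ^ k : N) : G) = Φ n := by
    intro n
    have h1 := indFun_restrict_eq_sum_twist N φ
    have h2 := congrFun h1 n
    have h3 := congrFun h1 (n ^ k)
    simp only [Pi.smul_apply, Finset.sum_apply, smul_eq_mul] at h2 h3
    rw [hΦdef, h3, h2]
    congr 1
    refine Finset.sum_congr rfl fun g _ => ?_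
    simp only [twist]
    have h4 : (⟨g * ((n ^ k : N) : G) * g⁻¹, hN.conj_mem _ (n ^ k).2 g⟩ : N) =
        (⟨g * (n : G) * g⁻¹, hN.conj_mem _ n.2 g⟩ : N) ^ k := by
      apply Subtype.ext
      show g * (n : G) ^ k * g⁻¹ = (g * (n : G) * g⁻¹) ^ k
      rw [conj_pow]
    rw [h4, hr]
  have hsq : ∑ n : N, Φ n * conj (Φ n) = (Nat.card G : ℂ) * E := by
    have h1 : classInner (fun n : N => Φ n) (fun n : N => Φ n) = _ := inner_ind_res N φ Φ hΦc
    have h3 : classInner φ (fun n : N => Φ n) = E := by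
      rw [← classInner_comm_conj]; exact hEconj
    rw [h3, classInner] at h1
    have h2 : ∑ n : N, Φ n * conj (Φ n) =
        (Nat.card N : ℂ) * ((Nat.card N : ℂ)⁻¹ * ∑ n : N, Φ n * conj (Φ n)) := by
      rw [mul_inv_cancel_left₀ hNne]
    rw [h2, h1]
    field_simp
  have hsume : ∑ χ ∈ overSet N φ, e χ * e χ = E := by
    have h1 : classInner Φ Φ = E := by
      rw [hΦdef, frobenius_reciprocity N φ _ (indFun_isClass N φ), ← hΦdef,
        ← classInner_comm_conj, ← hEdef, hEconj]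
    rw [classInner_parseval hΦc hΦc] at h1
    rw [← h1]
    have h2 : ∀ χ : IrrCharacter G, classInner Φ χ.1 = e χ := by
      intro χ
      rw [hΦdef, frobenius_reciprocity N φ _ (isClassFunction_of_isCharacter (isCharacter_of_irr χ.2)),
        ← classInner_comm_conj]
      exact he χ
    simp only [h2, he]
    apply Finset.sum_subset (Finset.subset_univ _)
    intro χ _ hχ
    have : e χ = 0 := by
      by_contra h
      exact hχ ((mem_overSet N).2 h)
    rw [this, mul_zero]
  have hres : ∀ χ ∈ overSet N φ, ∀ n : N, χ.1 n = e χ / E * Φ n := fun χ hχ n =>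
    res_eq_of_over N hφ χ ((mem_overSet N).1 hχ) n
  have hNsum : ∑ χ ∈ overSet N φ, ∑ n : N, conj (χ.1 n) * χ.1 ((n : G) ^ k) = (Nat.card G : ℂ) := by
    have h1 : ∀ χ ∈ overSet N φ, ∑ n : N, conj (χ.1 n) * χ.1 ((n : G) ^ k)
        = e χ * e χ * ((Nat.card G : ℂ) / E) := by
      intro χ hχ
      have h2 : ∀ n : N, conj (χ.1 n) * χ.1 ((n : G) ^ k) =
          (e χ / E) * (e χ / E) * (Φ n * conj (Φ n)) := by
        intro n
        have h3 : χ.1 ((n : G) ^ k) = e χ / E * Φ n := by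
          have := hres χ hχ (n ^ k)
          rw [hΦσ] at this
          exact this
        rw [h3, hres χ hχ n, map_mul, map_div₀, he, hEconj]
        ring
      simp only [h2]
      rw [← Finset.mul_sum, hsq]
      field_simp
    rw [Finset.sum_congr rfl h1, ← Finset.sum_mul, hsume]
    field_simp
  -- orthogonality
  have hS : ∀ χ ∈ overSet N φ, ∀ ψ, ψ ∉ overSet N φ →
      classInner (fun n : N => χ.1 n) (fun n : N => ψ.1 n) = 0 := by
    intro χ hχ ψ hψ
    have h1 : (fun n : N => χ.1 n) = (e χ / E) • (fun n : N => Φ n) := by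
      funext n
      simpa using hres χ hχ n
    have h2 : classInner (fun n : N => ψ.1 n) φ = 0 := by
      by_contra h
      exact hψ ((mem_overSet N).2 h)
    rw [h1, classInner_smul_left, hΦdef,
      inner_ind_res N φ _ (isClassFunction_of_isCharacter (isCharacter_of_irr ψ.2)),
      ← classInner_comm_conj, h2]
    simp
  -- the kernel vanishes off `N`
  have hK : ∀ g : G, g ∉ N → ∑ χ ∈ overSet N φ, conj (χ.1 g) * χ.1 (g ^ k) = 0 := by
    intro g hg
    let f : G → ℂ := fun x => if IsConj (x : G ⧸ N) (g : G ⧸ N) then 1 else 0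
    have hfN : ∀ (n : N) (x : G), f ((n : G) * x) = f x := by
      intro n x
      have : (((n : G) * x : G) : G ⧸ N) = (x : G ⧸ N) := by
        rw [QuotientGroup.mk_mul, (QuotientGroup.eq_one_iff (n : G)).2 n.2, one_mul]
      simp only [f, this]
    have hfc : IsClassFunction G f := by
      intro x y
      have : IsConj ((y * x * y⁻¹ : G) : G ⧸ N) (x : G ⧸ N) := by
        rw [isConj_comm, isConj_iff]
        exact ⟨(y : G ⧸ N), by simp⟩
      simp only [f]
      exact if_congr ⟨fun h => this.symm.trans h, fun h => this.trans h⟩ rfl rfl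
    have hfr : ∀ x, conj (f x) = f x := by
      intro x
      simp only [f]
      split_ifs <;> simp
    have hk' := kernel_symm N (overSet N φ) hS f hfN hfc hfr g (g ^ k)
    have hfg : f g = 1 := by
      simp only [f]
      rw [if_pos (IsConj.refl _)]
    have hfi : f (g ^ k) = 0 := by
      simp only [f]
      rw [if_neg]
      intro hc
      have hcard : Odd (Nat.card (G ⧸ N)) := by
        rw [← Subgroup.index_eq_card]; exact hodd
      rw [gal_quot_pow N hodd hk₂] at hc
      have h2 := eq_one_of_isConj_inv_of_odd hcard _ hc.symm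
      exact hg ((QuotientGroup.eq_one_iff g).1 h2)
    rw [hfg, hfi, one_mul, zero_mul] at hk'
    exact hk'
  -- the total
  have htot : ∑ χ ∈ overSet N φ, ∑ g : G, conj (χ.1 g) * χ.1 (g ^ k) = (Nat.card G : ℂ) := by
    rw [Finset.sum_comm, sum_eq_sum_subgroup N _ hK, Finset.sum_comm]
    exact hNsum
  have hδ : ∀ χ : IrrCharacter G, (Nat.card G : ℂ)⁻¹ * ∑ g : G, conj (χ.1 g) * χ.1 (g ^ k)
      = if ∀ g, χ.1 (g ^ k) = χ.1 g then (1:ℂ) else 0 := by
    intro χ
    have h1 := classInner_irr_fun (isIrrCharacter_comp_pow hk χ.2) χ.2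
    rw [classInner] at h1
    have h2 : ∑ g : G, conj (χ.1 g) * χ.1 (g ^ k) = ∑ g : G, χ.1 (g ^ k) * conj (χ.1 g) :=
      Finset.sum_congr rfl fun g _ => mul_comm _ _
    rw [h2, h1]
    exact if_congr ⟨fun h g => congrFun h g, fun h => funext h⟩ rfl rfl
  simp only [← hδ]
  rw [← Finset.mul_sum, htot, inv_mul_cancel₀ hGne]

/-- The unique fixed character. -/
theorem existsUnique_gal_over (hodd : Odd N.index) {k : ℕ} (hk : k.Coprime (Nat.card G))
    (hk₂ : ∀ g : G, Odd (orderOf g) → g ^ k = g⁻¹) {φ : N → ℂ} (hφ : IsIrrCharacter N φ)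
    (hr : ∀ n : N, φ (n ^ k) = φ n) :
    ∃ χ : IrrCharacter G, (classInner (fun n : N => χ.1 n) φ ≠ 0 ∧ ∀ g, χ.1 (g ^ k) = χ.1 g) ∧
      ∀ χ' : IrrCharacter G, classInner (fun n : N => χ'.1 n) φ ≠ 0 →
        (∀ g, χ'.1 (g ^ k) = χ'.1 g) → χ' = χ := by
  classical
  have h := sum_gal_over N hodd hk hk₂ hφ hr
  rw [Finset.sum_boole] at h
  have hcard : ((overSet N φ).filter fun χ => ∀ g, χ.1 (g ^ k) = χ.1 g).card = 1 := by
    exact_mod_cast h
  obtain ⟨χ₀, hχ₀⟩ := Finset.card_eq_one.1 hcard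
  have hmem : ∀ χ : IrrCharacter G, χ ∈ ((overSet N φ).filter fun χ => ∀ g, χ.1 (g ^ k) = χ.1 g) ↔
      χ = χ₀ := by
    intro χ
    rw [hχ₀, Finset.mem_singleton]
  have h0 := (hmem χ₀).2 rfl
  rw [Finset.mem_filter, mem_overSet] at h0
  refine ⟨χ₀, ⟨h0.1, h0.2⟩, fun χ' h1 h2 => ?_⟩
  apply (hmem χ').1
  rw [Finset.mem_filter, mem_overSet]
  exact ⟨h1, h2⟩

end

end Cfsg.Agent.H23
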