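import Cfsg.Agent.Lib.H23.Tate
import Cfsg.Agent.Lib.H23.CharAvg
import Cfsg.Agent.Lib.H23.Ito2
import Cfsg.Agent.Lib.H22.Orbit
import Cfsg.Agent.Lib.H22.Ord
import Cfsg.Agent.Lib.H21.BlockBasics
import Cfsg.Agent.Lib.H21.ModP

/-!
# Normal complements of Sylow normalizers from extending characters
-/

set_option autoImplicit false
set_option linter.unusedSectionVars false
set_option linter.style.haveILetI false
set_option linter.unusedSimpArgs false

namespace Cfsg.Agent.H23

open scoped ComplexConjugate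
open Cfsg Cfsg.Agent.H21 Cfsg.Agent.H22
open scoped commutatorElement

universe u

variable {p : ℕ} [hp : Fact p.Prime]

section FPF

variable {H : Type u} [Group H] [Fintype H]

/-- An irreducible character of `p'`-degree contains in its kernel every normal subgroup on which a
`p`-subgroup acts without nontrivial fixed points. -/
theorem le_ker_of_fixedPointFree {χ : H → ℂ} (hχ : IsIrrCharacter H χ) (hdeg : ¬ p ∣ charDegree χ)
    (T : Subgroup H) [hT : T.Normal] (Q : Subgroup H) (hQ : IsPGroup p Q)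
    (hfree : ∀ t ∈ T, (∀ x ∈ Q, x * t * x⁻¹ = t) → t = 1) : ∀ t ∈ T, χ t = χ 1 := by
  classical
  by_contra hne
  haveI : Fintype T := Fintype.ofFinite _
  haveI : Fintype (IrrCharacter H) := Fintype.ofFinite _
  obtain ⟨M, hM⟩ := exists_pModular hp.out
  haveI : M.IsPrime := hM.2.1.isPrime
  have h0 := sum_mul_normal_of_irr T hχ hne 1
  simp only [mul_one] at h0
  let σ : Q → T → T := fun q t => ⟨(q : H) * t * (q : H)⁻¹, hT.conj_mem t t.2 q⟩
  have hcl := isClassFunction_of_isCharacter (isCharacter_of_irr hχ)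
  have h1 := mli_sum_sub_fixed hM hQ σ (fun x => Subtype.ext (by simp [σ]))
    (fun q r x => Subtype.ext (by simp [σ, mul_assoc]))
    (fun t : T => χ t) (fun t => mlr_of_isIntegral (isCharacter_isIntegral (isCharacter_of_irr hχ) _))
    (fun q t => hcl _ _)
  rw [h0, zero_sub] at h1
  have h2 : (Finset.univ.filter (fun x : T => ∀ q, σ q x = x)) = {1} := by
    ext t
    simp only [Finset.mem_filter, Finset.mem_univ, true_and, Finset.mem_singleton]
    constructor
    · intro ht
      apply Subtype.ext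
      refine hfree t t.2 fun x hx => ?_
      exact congrArg Subtype.val (ht ⟨x, hx⟩)
    · rintro rfl q
      apply Subtype.ext
      simp [σ]
  rw [h2, Finset.sum_singleton] at h1
  have h3 := mli_neg h1
  rw [neg_neg] at h3
  have h4 : χ ((1 : T) : H) = (charDegree χ : ℂ) := one_eq_charDegree (isCharacter_of_irr hχ)
  rw [h4, mli_natCast_iff hM] at h3
  exact hdeg h3

end FPF

section Burnside

variable {H : Type u} [Group H] [Finite H]

/-- A form of Burnside's normal complement theorem for a normal subgroup with a self-normalizing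
abelian Sylow subgroup. -/
theorem exists_complement_of_abelian_sylow (P : Sylow p H) (hab : ∀ a ∈ (P : Subgroup H), ∀ b ∈ (P : Subgroup H), a * b = b * a)
    (H₁ : Subgroup H) (hH₁ : H₁.Normal) (hPH : (P : Subgroup H) ≤ H₁)
    (hself : ∀ y ∈ H₁, y ∈ Subgroup.normalizer ((P : Subgroup H) : Set H) → y ∈ (P : Subgroup H)) :
    ∃ T : Subgroup H, T.Normal ∧ T ≤ H₁ ∧ T ⊓ (P : Subgroup H) = ⊥ ∧ H₁ ≤ T ⊔ (P : Subgroup H) := by
  classical
  obtain ⟨P₁, hP₁⟩ : ∃ P₁ : Sylow p H₁, ∀ x : H₁, x ∈ (P₁ : Subgroup H₁) ↔ (x : H) ∈ (P : Subgroup H) :=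
    ⟨P.subtype hPH, fun x => by
      change x ∈ (P : Subgroup H).subgroupOf H₁ ↔ _
      rw [Subgroup.mem_subgroupOf]⟩
  have hB : Subgroup.normalizer ((P₁ : Subgroup H₁) : Set H₁) ≤
      Subgroup.centralizer ((P₁ : Subgroup H₁) : Set H₁) := by
    intro y hy
    have h1 : (y : H) ∈ Subgroup.normalizer ((P : Subgroup H) : Set H) := by
      rw [Subgroup.mem_normalizer_iff]
      intro x
      have hPm : ∀ x, x ∈ (P : Subgroup H) → x ∈ H₁ := fun x hx => hPH hx
      constructor
      · intro hx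
        have h2 := (Subgroup.mem_normalizer_iff.1 hy ⟨x, hPm x hx⟩).1 ((hP₁ _).2 hx)
        exact (hP₁ _).1 h2
      · intro hx
        have h3 : (y : H) * x * (y : H)⁻¹ ∈ H₁ := hPm _ hx
        have h4 : x ∈ H₁ := by
          have := hH₁.conj_mem _ h3 (y : H)⁻¹
          simpa [mul_assoc] using this
        have h2 := (Subgroup.mem_normalizer_iff.1 hy ⟨x, h4⟩).2 ((hP₁ _).2 hx)
        exact (hP₁ _).1 h2
    have h2 := hself y y.2 h1
    rw [Subgroup.mem_centralizer_iff]
    intro c hc
    apply Subtype.ext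
    exact hab _ ((hP₁ _).1 hc) _ h2
  obtain ⟨f, hcomp, hcard⟩ : ∃ f : H₁ →* (P₁ : Subgroup H₁), Subgroup.IsComplement' f.ker (P₁ : Subgroup H₁) ∧
      ¬ p ∣ Nat.card f.ker :=
    ⟨_, MonoidHom.ker_transferSylow_isComplement' P₁ hB, MonoidHom.not_dvd_card_ker_transferSylow P₁ hB⟩
  have hP₁p : IsPGroup p (P₁ : Subgroup H₁) := P₁.isPGroup'
  let W := f.ker
  refine ⟨oPrimeSub p H₁, oPrimeSub_normal H₁ hH₁, oPrimeSub_le H₁, ?_, ?_⟩
  · -- `oPrimeSub ≤ W`
    have hle : ∀ t ∈ oPrimeSub p H₁, ∃ h : t ∈ H₁, (⟨t, h⟩ : H₁) ∈ W := by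
      intro t ht
      refine ⟨oPrimeSub_le H₁ ht, ?_⟩
      induction ht using Subgroup.closure_induction with
      | mem x hx =>
        change f _ = 1
        refine eq_one_of_pGroup_of_coprime hP₁p _ (m := orderOf x) ?_ hx.2
        rw [← map_pow]
        have : (⟨x, hx.1⟩ : H₁) ^ orderOf x = 1 := Subtype.ext (by simp [pow_orderOf_eq_one])
        rw [this, map_one]
      | one => exact W.one_mem
      | mul x y hx' hy' hx hy =>
        exact W.mul_mem hx hy
      | inv x hx' hx =>
        exact W.inv_mem hx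
    rw [eq_bot_iff]
    rintro t ⟨ht1, ht2⟩
    obtain ⟨h, ht3⟩ := hle t ht1
    have h5 := Subgroup.disjoint_def.1 hcomp.disjoint ht3 ((hP₁ _).2 ht2)
    exact Subgroup.mem_bot.2 (congrArg Subtype.val h5)
  · intro h hh
    obtain ⟨⟨w, x⟩, hwx⟩ := hcomp.2 ⟨h, hh⟩
    have hwx' : ((w : H₁) : H) * ((x : H₁) : H) = h := congrArg Subtype.val hwx
    rw [← hwx']
    refine Subgroup.mul_mem _ (Subgroup.mem_sup_left ?_) (Subgroup.mem_sup_right ((hP₁ _).1 x.2))
    refine Subgroup.subset_closure ⟨(w : H₁).2, fun h6 => hcard ?_⟩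
    have h7 : orderOf ((w : H₁) : H) = orderOf w := by
      rw [Subgroup.orderOf_coe, Subgroup.orderOf_coe]
    rw [h7] at h6
    exact h6.trans (orderOf_dvd_natCard w)

end Burnside

section Family

variable {H : Type u} [Group H] [Fintype H]

/-- A Sylow `p`-subgroup is normal when it is abelian and there is a faithful family of irreducible
characters of `p'`-degree such that the members trivial on `P` cut out `P` in its normalizer. -/
theorem normal_sylow_of_family {ι : Type*} (P : Sylow p H)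
    (hab : ∀ a ∈ (P : Subgroup H), ∀ b ∈ (P : Subgroup H), a * b = b * a)
    (χ : ι → IrrCharacter H) (hdeg : ∀ i, ¬ p ∣ charDegree (χ i).1)
    (hfaith : ∀ g, (∀ i, (χ i).1 g = (χ i).1 1) → g = 1)
    (hN : ∀ n ∈ Subgroup.normalizer ((P : Subgroup H) : Set H),
      (∀ i, (∀ x ∈ (P : Subgroup H), (χ i).1 x = (χ i).1 1) → (χ i).1 n = (χ i).1 1) → n ∈ (P : Subgroup H)) :
    (P : Subgroup H).Normal := by
  classical
  let H₁ : Subgroup H := Subgroup.normalClosure ((P : Subgroup H) : Set H)
  haveI hH₁ : H₁.Normal := Subgroup.normalClosure_normal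
  have hPH : (P : Subgroup H) ≤ H₁ := Subgroup.le_normalClosure
  have hself : ∀ y ∈ H₁, y ∈ Subgroup.normalizer ((P : Subgroup H) : Set H) → y ∈ (P : Subgroup H) := by
    intro y hy hyN
    refine hN y hyN fun i hi => ?_
    have hc := isCharacter_of_irr (χ i).2
    have h1 : H₁ ≤ charKer (χ i).1 hc :=
      Subgroup.normalClosure_le_normal (N := charKer (χ i).1 hc) fun x hx => hi x hx
    exact h1 hy
  obtain ⟨T, hTn, hTH, hTP, hHT⟩ := exists_complement_of_abelian_sylow P hab H₁ hH₁ hPH hself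
  have hT1 : T = ⊥ := by
    rw [eq_bot_iff]
    intro t ht
    rw [Subgroup.mem_bot]
    apply hfaith
    intro i
    haveI := hTn
    refine le_ker_of_fixedPointFree (χ i).2 (hdeg i) T (P : Subgroup H) P.isPGroup' ?_ t ht
    intro s hs hsc
    have hsN : s ∈ Subgroup.normalizer ((P : Subgroup H) : Set H) := by
      rw [Subgroup.mem_normalizer_iff]
      intro x
      constructor
      · intro hx
        have h1 := hsc x hx
        have h2 : s * x * s⁻¹ = x := by
          calc s * x * s⁻¹ = (x * s * x⁻¹) * x * s⁻¹ := by rw [h1]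
            _ = x := by group
        rw [h2]
        exact hx
      · intro hx
        have h1 := hsc (s * x * s⁻¹) hx
        have h2 : s * x * s⁻¹ = x := by
          have h3 : (s * x * s⁻¹) * s * (s * x * s⁻¹)⁻¹ = s := h1
          have h4 : s * (s * x * s⁻¹) = s * x := by
            calc s * (s * x * s⁻¹) = ((s * x * s⁻¹) * s * (s * x * s⁻¹)⁻¹) * (s * x * s⁻¹) := by rw [h3]
              _ = (s * x * s⁻¹) * s := by group
              _ = s * x := by group
          exact mul_left_cancel h4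
        rw [← h2]
        exact hx
    have h5 := hself s (hTH hs) hsN
    have h6 : s ∈ T ⊓ (P : Subgroup H) := ⟨hs, h5⟩
    rw [hTP, Subgroup.mem_bot] at h6
    exact h6
  have h2 : H₁ ≤ (P : Subgroup H) := by
    rw [hT1, bot_sup_eq] at hHT
    exact hHT
  have h3 : H₁ = (P : Subgroup H) := le_antisymm h2 hPH
  rw [← h3]
  exact hH₁

end Family

section Main

variable {G : Type u} [Group G] [Finite G]

/-- Frattini argument modulo a normal subgroup. -/
theorem exists_normalizer_lift (P : Sylow p G) (M : Subgroup G) [hM : M.Normal] (g : G)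
    (hg : ∀ x ∈ (P : Subgroup G), g * x * g⁻¹ ∈ (P : Subgroup G) ⊔ M) :
    ∃ n ∈ Subgroup.normalizer ((P : Subgroup G) : Set G), ∃ m ∈ M, g = m * n := by
  classical
  let L : Subgroup G := (P : Subgroup G) ⊔ M
  have hPL : (P : Subgroup G) ≤ L := le_sup_left
  have h2 : ((g • P : Sylow p G) : Subgroup G) ≤ L := by
    intro y hy
    rw [Sylow.coe_subgroup_smul, Subgroup.mem_pointwise_smul_iff_inv_smul_mem, MulAut.smul_def,
      MulAut.conj_inv_apply] at hy
    have := hg _ hy
    have h3 : g * (g⁻¹ * y * g) * g⁻¹ = y := by group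
    rwa [h3] at this
  obtain ⟨u, hu⟩ := MulAction.exists_smul_eq L (P.subtype hPL) ((g • P).subtype h2)
  rw [Sylow.smul_subtype] at hu
  have hu2 : (u : L) • P = g • P := Sylow.subtype_injective hu
  have hu3 : ((u : G)) • P = g • P := hu2
  have hn : (g⁻¹ * (u : G)) ∈ Subgroup.normalizer ((P : Subgroup G) : Set G) := by
    have h5 : (g⁻¹ * (u : G)) ∈ Subgroup.normalizer (P : Set G) := by
      rw [← Sylow.smul_eq_iff_mem_normalizer, mul_smul, hu3, ← mul_smul, inv_mul_cancel, one_smul]
    exact h5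
  obtain ⟨x, hx, m, hm, hxm⟩ := Subgroup.mem_sup_of_normal_right.1 (u.2 : (u : G) ∈ L)
  have hxN : x ∈ Subgroup.normalizer ((P : Subgroup G) : Set G) := Subgroup.le_normalizer hx
  refine ⟨x * (g⁻¹ * (u : G))⁻¹, Subgroup.mul_mem _ hxN (Subgroup.inv_mem _ hn), x * m * x⁻¹,
    hM.conj_mem m hm x, ?_⟩
  rw [← hxm]
  group

/-- In a finite group, an element in the kernel of all irreducible characters with `A` in the kernel
lies in `A`. -/
theorem mem_of_forall_irr_ker {Y : Type u} [Group Y] [Finite Y] (A : Subgroup Y) [hA : A.Normal] (n : Y)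
    (h : ∀ θ : IrrCharacter Y, (∀ c ∈ A, θ.1 c = θ.1 1) → θ.1 n = θ.1 1) : n ∈ A := by
  classical
  haveI : Fintype (Y ⧸ A) := Fintype.ofFinite _
  haveI : Fintype (IrrCharacter (Y ⧸ A)) := Fintype.ofFinite _
  have h1 : IsConj (QuotientGroup.mk' A n) 1 := by
    apply isConj_of_forall_irr_eq
    intro τ
    let θ : IrrCharacter Y := ⟨τ.1 ∘ QuotientGroup.mk' A,
      isIrrCharacter_comp_of_surjective _ (QuotientGroup.mk'_surjective A) τ.2⟩
    have h2 := h θ (fun c hc => by
      change τ.1 (QuotientGroup.mk' A c) = τ.1 (QuotientGroup.mk' A 1)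
      have h3 : QuotientGroup.mk' A c = 1 := (QuotientGroup.eq_one_iff c).2 hc
      rw [h3, map_one])
    change τ.1 (QuotientGroup.mk' A n) = τ.1 (QuotientGroup.mk' A 1) at h2
    rw [h2, map_one]
  have h4 : QuotientGroup.mk' A n = 1 := isConj_one_right.1 h1.symm
  exact (QuotientGroup.eq_one_iff n).1 h4

theorem commutator_subgroupOf_normal (P : Subgroup G) :
    ((⁅P, P⁆ : Subgroup G).subgroupOf (Subgroup.normalizer (P : Set G))).Normal := by
  refine ⟨fun c hc n => ?_⟩
  rw [Subgroup.mem_subgroupOf] at hc ⊢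
  have hnP : ∀ x ∈ P, (n : G) * x * (n : G)⁻¹ ∈ P := fun x hx =>
    (Subgroup.mem_normalizer_iff.1 n.2 x).1 hx
  have h1 : ⁅P, P⁆ ≤ (⁅P, P⁆ : Subgroup G).comap (MulAut.conj (n : G)).toMonoidHom := by
    rw [Subgroup.commutator_le]
    intro a ha b hb
    rw [Subgroup.mem_comap, commutatorElement_def]
    have : (MulAut.conj (n : G)).toMonoidHom (a * b * a⁻¹ * b⁻¹) =
        ((n : G) * a * (n : G)⁻¹) * ((n : G) * b * (n : G)⁻¹) * ((n : G) * a * (n : G)⁻¹)⁻¹ * ((n : G) * b * (n : G)⁻¹)⁻¹ := by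
      simp only [MulEquiv.toMonoidHom_eq_coe, MonoidHom.coe_coe, MulAut.conj_apply]
      group
    rw [this]
    exact Subgroup.commutator_mem_commutator (hnP a ha) (hnP b hb)
  have h2 := h1 hc
  rw [Subgroup.mem_comap] at h2
  simpa using h2

/-- The normalizer of a Sylow subgroup. -/
abbrev sylowN (P : Sylow p G) : Subgroup G := Subgroup.normalizer ((P : Subgroup G) : Set G)

/-- Characters with `P'` in the kernel of the normalizer of a Sylow subgroup have `p'`-degree. -/
theorem not_dvd_degree_of_commutator_ker (P : Sylow p G)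
    (θ : IrrCharacter (sylowN P))
    (hθ : ∀ c : sylowN P, (c : G) ∈ ⁅(P : Subgroup G), (P : Subgroup G)⁆ → θ.1 c = θ.1 1) :
    ¬ p ∣ charDegree θ.1 := by
  classical
  haveI : Fintype (sylowN P) := Fintype.ofFinite _
  let A : Subgroup (sylowN P) := (⁅(P : Subgroup G), (P : Subgroup G)⁆ : Subgroup G).subgroupOf (sylowN P)
  haveI hA : A.Normal := commutator_subgroupOf_normal (P : Subgroup G)
  obtain ⟨τ, hτ, hτθ⟩ := exists_descend A θ.2 (fun c hc => hθ c (Subgroup.mem_subgroupOf.1 hc))
  have hPN : (P : Subgroup G) ≤ sylowN P := Subgroup.le_normalizer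
  let π := QuotientGroup.mk' A
  have hπ : Function.Surjective π := QuotientGroup.mk'_surjective A
  let B : Subgroup (sylowN P ⧸ A) := ((P : Subgroup G).subgroupOf (sylowN P)).map π
  haveI hPNn : ((P : Subgroup G).subgroupOf (sylowN P)).Normal := Subgroup.normal_in_normalizer
  haveI hB : B.Normal := Subgroup.Normal.map hPNn π hπ
  haveI : Fintype (sylowN P ⧸ A) := Fintype.ofFinite _
  have hBab : ∀ a ∈ B, ∀ b ∈ B, a * b = b * a := by
    rintro _ ⟨a, ha, rfl⟩ _ ⟨b, hb, rfl⟩
    rw [← map_mul, ← map_mul]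
    apply (QuotientGroup.eq).2
    rw [Subgroup.mem_subgroupOf]
    replace ha : (a : G) ∈ (P : Subgroup G) := Subgroup.mem_subgroupOf.1 ha
    replace hb : (b : G) ∈ (P : Subgroup G) := Subgroup.mem_subgroupOf.1 hb
    have h1 := Subgroup.commutator_mem_commutator ((P : Subgroup G).inv_mem hb) ((P : Subgroup G).inv_mem ha)
    have h2 : (((a * b)⁻¹ * (b * a) : sylowN P) : G) = ⁅(b : G)⁻¹, (a : G)⁻¹⁆ := by
      simp only [commutatorElement_def, Subgroup.coe_mul, Subgroup.coe_inv]
      group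
    rw [h2]
    exact h1
  have hdvd := ito_dvd hτ B hBab
  have hdeg : charDegree τ = charDegree θ.1 := by
    have h1 := one_eq_charDegree (isCharacter_of_irr hτ)
    have h2 := one_eq_charDegree (isCharacter_of_irr θ.2)
    have h4 : θ.1 1 = τ 1 := by
      rw [← hτθ]
      simp only [Function.comp_apply, map_one]
    rw [h4, h1] at h2
    exact_mod_cast h2
  rw [← hdeg]
  intro hpd
  apply P.not_dvd_index
  have h1 : B.index ∣ ((P : Subgroup G).subgroupOf (sylowN P)).index := Subgroup.index_map_dvd _ hπ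
  have h2 : ((P : Subgroup G).subgroupOf (sylowN P)).index * (sylowN P).index = (P : Subgroup G).index :=
    Subgroup.relIndex_mul_index hPN
  rw [← h2]
  exact Dvd.dvd.mul_right (hpd.trans (hdvd.trans h1)) _

/-- The main theorem: if all irreducible characters of `N_G(P)` with `P'` in their kernels extend to
`G`, then `N_G(P)` has a normal complement in `G`. -/
theorem exists_normal_complement_of_extend (P : Sylow p G)
    (hext : ∀ θ : IrrCharacter (sylowN P),
      (∀ c : sylowN P, (c : G) ∈ ⁅(P : Subgroup G), (P : Subgroup G)⁆ → θ.1 c = θ.1 1) →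
      ∃ χ : IrrCharacter G, ∀ x : sylowN P, χ.1 x = θ.1 x) :
    ∃ K : Subgroup G, K.Normal ∧ K ⊔ Subgroup.normalizer ((P : Subgroup G) : Set G) = ⊤ ∧
      K ⊓ Subgroup.normalizer ((P : Subgroup G) : Set G) = ⊥ := by
  classical
  haveI : Fintype G := Fintype.ofFinite _
  set N := Subgroup.normalizer ((P : Subgroup G) : Set G) with hNdef
  set D : Subgroup G := ⁅(P : Subgroup G), (P : Subgroup G)⁆ with hD
  have hPN : (P : Subgroup G) ≤ N := Subgroup.le_normalizer
  have hDP : D ≤ (P : Subgroup G) := by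
    rw [hD, Subgroup.commutator_le]
    intro a ha b hb
    rw [commutatorElement_def]
    exact Subgroup.mul_mem _ (Subgroup.mul_mem _ (Subgroup.mul_mem _ ha hb) (Subgroup.inv_mem _ ha)) (Subgroup.inv_mem _ hb)
  -- the family
  let ι := {θ : IrrCharacter N // ∀ c : N, (c : G) ∈ D → θ.1 c = θ.1 1}
  choose χ hχ using fun i : ι => hext i.1 i.2
  have hχc : ∀ i, IsCharacter G (χ i).1 := fun i => isCharacter_of_irr (χ i).2
  have hχ1 : ∀ i, (χ i).1 1 = i.1.1 1 := fun i => hχ i 1
  have hdeg : ∀ i, charDegree (χ i).1 = charDegree i.1.1 := by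
    intro i
    have h1 := one_eq_charDegree (hχc i)
    have h2 := one_eq_charDegree (isCharacter_of_irr i.1.2)
    rw [hχ1, h2] at h1
    exact_mod_cast h1.symm
  have hdeg' : ∀ i, ¬ p ∣ charDegree (χ i).1 := fun i => by
    rw [hdeg]
    exact not_dvd_degree_of_commutator_ker P i.1 i.2
  -- the kernel
  let M : Subgroup G := ⨅ i, charKer (χ i).1 (hχc i)
  have hM : ∀ g, g ∈ M ↔ ∀ i, (χ i).1 g = (χ i).1 1 := by
    intro g
    simp only [M, Subgroup.mem_iInf, mem_charKer]
  haveI hMn : M.Normal := by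
    refine ⟨fun n hn g => ?_⟩
    rw [hM] at hn ⊢
    intro i
    rw [isCharacter_conj (hχc i)]
    exact hn i
  -- `M ∩ N ≤ D`
  haveI hDN : (D.subgroupOf N).Normal := commutator_subgroupOf_normal (P : Subgroup G)
  have hMN : ∀ n : N, (n : G) ∈ M → (n : G) ∈ D := by
    intro n hn
    have h1 : n ∈ D.subgroupOf N := by
      refine mem_of_forall_irr_ker _ n fun θ hθ => ?_
      have h2 : ∀ c : N, (c : G) ∈ D → θ.1 c = θ.1 1 := fun c hc =>
        hθ c (Subgroup.mem_subgroupOf.2 hc)
      have h3 := (hM _).1 hn ⟨θ, h2⟩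
      rw [hχ, hχ1] at h3
      exact h3
    exact Subgroup.mem_subgroupOf.1 h1
  have hDM : D ≤ M := by
    rw [hD, Subgroup.commutator_le]
    intro a ha b hb
    rw [hM]
    intro i
    have h1 : ⁅a, b⁆ ∈ D := Subgroup.commutator_mem_commutator ha hb
    have h2 : ⁅a, b⁆ ∈ N := hPN (hDP h1)
    have h3 := hχ i ⟨_, h2⟩
    simp only at h3
    rw [h3, i.2 _ h1, hχ1]
  -- Tate
  obtain ⟨R, hRn, hRM, -, hPR, hMR⟩ := tate_normal P M hMn (by
    intro q hq
    have h1 : (q : G) ∈ D := hMN ⟨q, hPN q.2⟩ hq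
    rw [hD, ← Subgroup.map_subtype_commutator] at h1
    obtain ⟨y, hy, hyq⟩ := Subgroup.mem_map.1 h1
    have : y = q := Subtype.ext hyq
    rw [← this]
    exact hy)
  -- pass to the quotient
  let π := QuotientGroup.mk' M
  have hπ : Function.Surjective π := QuotientGroup.mk'_surjective M
  haveI : Fintype (G ⧸ M) := Fintype.ofFinite _
  let Pb : Sylow p (G ⧸ M) := P.mapSurjective hπ
  have hPb : (Pb : Subgroup (G ⧸ M)) = (P : Subgroup G).map π := rfl
  have hdesc : ∀ i, ∃ τ : G ⧸ M → ℂ, IsIrrCharacter (G ⧸ M) τ ∧ τ ∘ π = (χ i).1 := fun i =>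
    exists_descend M (χ i).2 (fun g hg => (hM g).1 hg i)
  choose τ hτ hτχ using hdesc
  have hτv : ∀ i g, τ i (π g) = (χ i).1 g := fun i g => congrFun (hτχ i) g
  have hτ1 : ∀ i, τ i 1 = (χ i).1 1 := fun i => by rw [← map_one π, hτv]
  have hPnorm : (Pb : Subgroup (G ⧸ M)).Normal := by
    refine normal_sylow_of_family Pb ?_ (fun i => (⟨τ i, hτ i⟩ : IrrCharacter (G ⧸ M))) ?_ ?_ ?_
    · -- abelian
      rw [hPb]
      rintro _ ⟨a, ha, rfl⟩ _ ⟨b, hb, rfl⟩
      rw [← map_mul, ← map_mul]
      apply (QuotientGroup.eq).2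
      apply hDM
      have h1 := Subgroup.commutator_mem_commutator ((P : Subgroup G).inv_mem hb) ((P : Subgroup G).inv_mem ha)
      have h2 : (a * b)⁻¹ * (b * a) = ⁅b⁻¹, a⁻¹⁆ := by
        simp only [commutatorElement_def]
        group
      rw [h2]
      exact h1
    · intro i
      have h1 : charDegree (τ i) = charDegree (χ i).1 := by
        have h2 := one_eq_charDegree (isCharacter_of_irr (hτ i))
        have h3 := one_eq_charDegree (hχc i)
        rw [hτ1, h3] at h2
        exact_mod_cast h2.symm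
      change ¬ p ∣ charDegree (τ i)
      rw [h1]
      exact hdeg' i
    · intro g hg
      obtain ⟨g, rfl⟩ := hπ g
      apply (QuotientGroup.eq_one_iff g).2
      rw [hM]
      intro i
      have := hg i
      change τ i (π g) = τ i 1 at this
      rw [hτv, hτ1] at this
      exact this
    · intro n hn hker
      obtain ⟨g, rfl⟩ := hπ n
      -- lift to the normalizer
      have hlift : ∃ n ∈ N, ∃ m ∈ M, g = m * n := by
        refine exists_normalizer_lift P M g fun x hx => ?_
        have h1 : π x ∈ (Pb : Subgroup (G ⧸ M)) := by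
          rw [hPb]
          exact Subgroup.mem_map_of_mem _ hx
        have h2 := (Subgroup.mem_normalizer_iff.1 hn (π x)).1 h1
        rw [hPb] at h2
        obtain ⟨y, hy, hyx⟩ := Subgroup.mem_map.1 h2
        have h3 : y⁻¹ * (g * x * g⁻¹) ∈ M := by
          apply (QuotientGroup.eq_one_iff _).1
          change π (y⁻¹ * (g * x * g⁻¹)) = 1
          have h5 : π (g * x * g⁻¹) = π y := by simp [map_mul, hyx]
          rw [map_mul, map_inv, h5, inv_mul_cancel]
        have h4 : g * x * g⁻¹ = y * (y⁻¹ * (g * x * g⁻¹)) := by group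
        rw [h4]
        exact Subgroup.mul_mem _ (Subgroup.mem_sup_left hy) (Subgroup.mem_sup_right h3)
      obtain ⟨n', hn', m, hm, rfl⟩ := hlift
      have hπm : π m = 1 := (QuotientGroup.eq_one_iff m).2 hm
      rw [map_mul, hπm, one_mul]
      -- `n'` lies in `P`
      have hmem : (⟨n', hn'⟩ : N) ∈ (P : Subgroup G).subgroupOf N := by
        haveI hPNn : ((P : Subgroup G).subgroupOf N).Normal := Subgroup.normal_in_normalizer
        refine mem_of_forall_irr_ker _ _ fun θ hθ => ?_
        have hθD : ∀ c : N, (c : G) ∈ D → θ.1 c = θ.1 1 := fun c hc =>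
          hθ c (Subgroup.mem_subgroupOf.2 (hDP hc))
        let i : ι := ⟨θ, hθD⟩
        have hθχ : ∀ x : N, (χ i).1 x = θ.1 x := hχ i
        have h1 := hker i (by
          rw [hPb]
          rintro _ ⟨x, hx, rfl⟩
          change τ i (π x) = τ i 1
          rw [hτv, hτ1, hθχ ⟨x, hPN hx⟩]
          have h2 := hθ ⟨x, hPN hx⟩ (Subgroup.mem_subgroupOf.2 hx)
          rw [h2, ← hθχ 1]
          rfl)
        change τ i (π (m * n')) = τ i 1 at h1
        rw [hτv, hτ1] at h1
        have h2 : (χ i).1 (m * n') = (χ i).1 n' :=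
          character_mul_of_mem_ker (hχc i) ((hM m).1 hm i) n'
        rw [h2, hθχ ⟨n', hn'⟩] at h1
        rw [h1]
        exact hθχ 1
      have hn'P : n' ∈ (P : Subgroup G) := Subgroup.mem_subgroupOf.1 hmem
      rw [hPb]
      exact Subgroup.mem_map_of_mem _ hn'P
  -- conclusion
  refine ⟨R, hRn, ?_, ?_⟩
  · rw [eq_top_iff]
    intro g _
    have hlift : ∃ n ∈ N, ∃ m ∈ M, g = m * n := by
      refine exists_normalizer_lift P M g fun x hx => ?_
      have h1 : π x ∈ (Pb : Subgroup (G ⧸ M)) := by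
        rw [hPb]
        exact Subgroup.mem_map_of_mem _ hx
      have h2 := hPnorm.conj_mem _ h1 (π g)
      rw [hPb] at h2
      obtain ⟨y, hy, hyx⟩ := Subgroup.mem_map.1 h2
      have h3 : y⁻¹ * (g * x * g⁻¹) ∈ M := by
        apply (QuotientGroup.eq_one_iff _).1
        change π (y⁻¹ * (g * x * g⁻¹)) = 1
        have h5 : π (g * x * g⁻¹) = π y := by simp [map_mul, hyx]
        rw [map_mul, map_inv, h5, inv_mul_cancel]
      have h4 : g * x * g⁻¹ = y * (y⁻¹ * (g * x * g⁻¹)) := by group
      rw [h4]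
      exact Subgroup.mul_mem _ (Subgroup.mem_sup_left hy) (Subgroup.mem_sup_right h3)
    obtain ⟨n, hn, m, hm, rfl⟩ := hlift
    refine Subgroup.mul_mem _ ?_ (Subgroup.mem_sup_right hn)
    have h1 := hMR hm
    have h2 : R ⊔ (P : Subgroup G) ≤ R ⊔ N := sup_le_sup_left hPN _
    exact h2 h1
  · rw [eq_bot_iff]
    rintro r ⟨hr1, hr2⟩
    have h1 : r ∈ D := hMN ⟨r, hr2⟩ (hRM hr1)
    have h2 : r ∈ (P : Subgroup G) ⊓ R := ⟨hDP h1, hr1⟩
    rw [hPR] at h2
    exact h2

/-- The retraction of `G = K ⋊ N` onto `N`. -/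
theorem exists_retraction (K N : Subgroup G) [hK : K.Normal] (h1 : K ⊔ N = ⊤) (h2 : K ⊓ N = ⊥) :
    ∃ f : G →* N, (∀ n : N, f n = n) ∧ ∀ g, f g = 1 ↔ g ∈ K := by
  classical
  have hcomp : Subgroup.IsComplement' K N :=
    Subgroup.isComplement'_of_disjoint_and_mul_eq_univ (disjoint_iff.2 h2) (by
      rw [← Subgroup.normal_mul, h1]; rfl)
  let e := Equiv.ofBijective _ hcomp
  have he : ∀ g, ((e.symm g).1 : G) * ((e.symm g).2 : G) = g := fun g => e.apply_symm_apply g
  have he2 : ∀ (k : K) (n : N), (e.symm ((k : G) * (n : G))).2 = n := by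
    intro k n
    have : e.symm ((k : G) * (n : G)) = (k, n) := e.symm_apply_apply (k, n)
    rw [this]
  let f : G →* N := MonoidHom.mk' (fun g => (e.symm g).2) (by
    intro a b
    set k := (e.symm a).1
    set n := (e.symm a).2
    set k' := (e.symm b).1
    set n' := (e.symm b).2
    have ha : a = (k : G) * n := (he a).symm
    have hb : b = (k' : G) * n' := (he b).symm
    have hk2 : (n : G) * k' * (n : G)⁻¹ ∈ K := hK.conj_mem k' k'.2 n
    have h3 : a * b = ((k * ⟨_, hk2⟩ : K) : G) * ((n * n' : N) : G) := by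
      change a * b = (k : G) * ((n : G) * k' * (n : G)⁻¹) * ((n : G) * (n' : G))
      rw [ha, hb]
      group
    rw [h3, he2])
  have hf : ∀ g, f g = (e.symm g).2 := fun g => rfl
  refine ⟨f, fun n => ?_, fun g => ?_⟩
  · rw [hf]
    have := he2 1 n
    simpa using this
  · rw [hf]
    constructor
    · intro h
      have h3 := he g
      rw [h] at h3
      simp only [OneMemClass.coe_one, mul_one] at h3
      rw [← h3]
      exact (e.symm g).1.2
    · intro h
      have := he2 ⟨g, h⟩ 1
      simpa using this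

end Main

end Cfsg.Agent.H23
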