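import Cfsg.Agent.Lib.H23.Tate
import Cfsg.Agent.Lib.H23.AcdTwo
import Cfsg.Agent.Lib.H22.Osima2
import Cfsg.Agent.Lib.H22.Rank1
import Cfsg.Agent.Lib.H06.CharLin2
import Cfsg.Agent.Lib.H06.Brauer4

/-!
# Linear characters in the principal block; a `p`-nilpotency criterion by degrees.
-/

set_option autoImplicit false
set_option linter.unusedSectionVars false
set_option linter.style.haveILetI false
set_option linter.unusedSimpArgs false

namespace Cfsg.Agent.H23

open Cfsg Cfsg.Agent.H21 Cfsg.Agent.H06 Cfsg.Agent.H22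
open scoped ComplexConjugate

universe u

section
variable {G : Type u} [Group G] [Finite G]

/-- A homomorphism into `ℂˣ` as an irreducible character. -/
noncomputable def homIrr (ω : G →* ℂˣ) : IrrCharacter G :=
  ⟨fun v => (ω v : ℂ), by
    letI := Fintype.ofFinite G
    exact isIrrCharacter_hom ω⟩

@[simp] theorem homIrr_apply (ω : G →* ℂˣ) (g : G) : (homIrr ω).1 g = (ω g : ℂ) := rfl

theorem homIrr_injective : Function.Injective (homIrr : (G →* ℂˣ) → IrrCharacter G) := by
  intro a b h
  ext v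
  exact congrFun (congrArg Subtype.val h) v

instance finite_homs : Finite (G →* ℂˣ) := Finite.of_injective _ homIrr_injective

theorem centralChar_homIrr (ω : G →* ℂˣ) (g : G) :
    centralChar (homIrr ω).1 g = ((Subgroup.centralizer ({g} : Set G)).index : ℂ) * (ω g : ℂ) := by
  unfold centralChar
  simp

variable {p : ℕ} [hp : Fact p.Prime] {M : Ideal AlgInt}

theorem homIrr_mem_principal_iff (ω : G →* ℂˣ) :
    homIrr ω ∈ principalBlock M G ↔ ∀ g : G, MemLocalIdeal M
      (((Subgroup.centralizer ({g} : Set G)).index : ℂ) -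
        ((Subgroup.centralizer ({g} : Set G)).index : ℂ) * (ω g : ℂ)) := by
  show (∀ g : G, MemLocalIdeal M (centralChar (fun _ : G => (1 : ℂ)) g - centralChar (homIrr ω).1 g)) ↔ _
  refine forall_congr' fun g => ?_
  rw [centralChar_homIrr]
  unfold centralChar
  simp

theorem hom_isIntegral (ω : G →* ℂˣ) (g : G) : IsIntegral ℤ (ω g : ℂ) :=
  Cfsg.Agent.H21.isCharacter_isIntegral (isCharacter_of_irr (homIrr ω).2) g

theorem homIrr_one_mem (hM : IsPModular p M) : homIrr (1 : G →* ℂˣ) ∈ principalBlock M G := by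
  haveI : M.IsPrime := hM.2.1.isPrime
  rw [homIrr_mem_principal_iff]
  intro g
  simp only [MonoidHom.one_apply, Units.val_one, mul_one, sub_self]
  exact mli_zero

theorem homIrr_mul_mem (hM : IsPModular p M) {a b : G →* ℂˣ} (ha : homIrr a ∈ principalBlock M G)
    (hb : homIrr b ∈ principalBlock M G) : homIrr (a * b) ∈ principalBlock M G := by
  haveI : M.IsPrime := hM.2.1.isPrime
  rw [homIrr_mem_principal_iff] at ha hb ⊢
  intro g
  have h1 := mli_add (ha g) (mli_mul_left (hb g) (mlr_of_isIntegral (hom_isIntegral a g)))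
  convert h1 using 1
  simp only [MonoidHom.mul_apply, Units.val_mul]
  ring


theorem theta_singular [Fintype G] [Fintype (IrrCharacter G)] (hM : IsPModular p M) {g : G} (hg : p ∣ orderOf g) :
    ∑ χ : IrrCharacter G, eB (principalBlock M G) χ * (χ.1 1 * χ.1 g) = 0 := by
  haveI : M.IsPrime := hM.2.1.isPrime
  have h := block_orth_regular_singular hM (principalBlock_isBlock (M := M)) (x := 1) (y := g⁻¹)
    (by rw [orderOf_one]; exact fun h => hp.out.one_lt.ne' (Nat.dvd_one.1 h)) (by rwa [orderOf_inv])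
  rw [← h]
  refine Finset.sum_congr rfl fun χ _ => ?_
  rw [isCharacter_inv (isCharacter_of_irr χ.2), Complex.conj_conj]

theorem orderOf_dvd_of_sylow_ne_one (P : Sylow p G) (q : (P : Subgroup G)) (hq : q ≠ 1) :
    p ∣ orderOf (q : G) := by
  have h1 : IsPGroup p (P : Subgroup G) := P.isPGroup'
  obtain ⟨k, hk⟩ := h1 q
  have h2 : orderOf (q : G) ∣ p ^ k := by
    apply orderOf_dvd_of_pow_eq_one
    exact_mod_cast congrArg Subtype.val hk
  obtain ⟨j, _, hj⟩ := (Nat.dvd_prime_pow hp.out).1 h2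
  rcases j with _ | j
  · exfalso
    apply hq
    simp only [pow_zero] at hj
    exact Subtype.ext (orderOf_eq_one_iff.1 hj)
  · rw [hj]
    exact dvd_pow_self _ (Nat.succ_ne_zero _)

theorem sum_theta_P [Fintype G] [Fintype (IrrCharacter G)] (hM : IsPModular p M) (P : Sylow p G)
    [Fintype (P : Subgroup G)] (μ : (P : Subgroup G) →* ℂˣ) :
    ∑ χ : IrrCharacter G, eB (principalBlock M G) χ * (χ.1 1 *
        (((Nat.card (P : Subgroup G) : ℂ)) * classInner (fun q : (P : Subgroup G) => χ.1 q) (homIrr μ).1)) =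
      ∑ χ : IrrCharacter G, eB (principalBlock M G) χ * (χ.1 1 * χ.1 1) := by
  have hc : (Nat.card (P : Subgroup G) : ℂ) ≠ 0 := Nat.cast_ne_zero.2 Nat.card_pos.ne'
  have h1 : ∀ χ : IrrCharacter G,
      (((Nat.card (P : Subgroup G) : ℂ)) * classInner (fun q : (P : Subgroup G) => χ.1 q) (homIrr μ).1) =
        ∑ q : (P : Subgroup G), χ.1 q * conj (μ q : ℂ) := by
    intro χ
    unfold classInner
    rw [← mul_assoc, mul_inv_cancel₀ hc, one_mul]
    rfl
  simp only [h1]
  simp only [Finset.mul_sum]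
  rw [Finset.sum_comm]
  rw [Finset.sum_eq_single (1 : (P : Subgroup G))]
  · refine Finset.sum_congr rfl fun χ _ => ?_
    simp
  · intro q _ hq
    have h2 := theta_singular hM (orderOf_dvd_of_sylow_ne_one P q hq)
    have h3 : ∑ χ : IrrCharacter G, eB (principalBlock M G) χ * (χ.1 1 * (χ.1 q * conj (μ q : ℂ))) =
        (∑ χ : IrrCharacter G, eB (principalBlock M G) χ * (χ.1 1 * χ.1 q)) * conj (μ q : ℂ) := by
      rw [Finset.sum_mul]
      refine Finset.sum_congr rfl fun χ _ => ?_
      ring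
    rw [h3, h2, zero_mul]
  · intro h
    exact absurd (Finset.mem_univ _) h


/-- The inner product of a restricted linear character with a linear character. -/
theorem lin_inner (P : Sylow p G) [Fintype (P : Subgroup G)] (ω : G →* ℂˣ) (μ : (P : Subgroup G) →* ℂˣ) :
    classInner (fun q : (P : Subgroup G) => (homIrr ω).1 q) (homIrr μ).1 =
      (open Classical in if (∀ q : (P : Subgroup G), ω q = μ q) then 1 else 0) := by
  classical
  have h := inner_lin (ω.comp (P : Subgroup G).subtype) μ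
  have h2 : (ω.comp (P : Subgroup G).subtype = μ) ↔ ∀ q : (P : Subgroup G), ω q = μ q := by
    constructor
    · intro h q
      rw [← h]
      rfl
    · intro h
      ext q
      rw [← h q]
      rfl
  simp only [h2] at h
  have h3 : classInner (fun q : (P : Subgroup G) => (homIrr ω).1 q) (homIrr μ).1 =
      classInner (linFun (ω.comp (P : Subgroup G).subtype)) (linFun μ) := rfl
  rw [h3, h]

section Count

variable [Fintype G] [Fintype (IrrCharacter G)] (P : Sylow p G) [Fintype (P : Subgroup G)]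
  [Fintype (IrrCharacter (P : Subgroup G))]

/-- The multiplicity of a linear character of `P` in the restriction of `χ`. -/
noncomputable def nI (χ : IrrCharacter G) (μ : (P : Subgroup G) →* ℂˣ) : ℕ :=
  Classical.choose (classInner_isNat (isCharacter_restrict (P : Subgroup G) (isCharacter_of_irr χ.2)) (homIrr μ))

theorem nI_spec (χ : IrrCharacter G) (μ : (P : Subgroup G) →* ℂˣ) :
    classInner (fun q : (P : Subgroup G) => χ.1 q) (homIrr μ).1 = nI P χ μ :=
  Classical.choose_spec (classInner_isNat (isCharacter_restrict (P : Subgroup G) (isCharacter_of_irr χ.2)) (homIrr μ))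

open Classical in
/-- The sum of degrees times multiplicities. -/
noncomputable def nN (M : Ideal AlgInt) (μ : (P : Subgroup G) →* ℂˣ) : ℕ :=
  ∑ χ ∈ Finset.univ.filter (fun χ : IrrCharacter G => χ ∈ principalBlock M G), charDegree χ.1 * nI P χ μ

theorem nN_eq (hM : IsPModular p M) (μ : (P : Subgroup G) →* ℂˣ) :
    (Nat.card (P : Subgroup G) : ℂ) * nN P M μ =
      ∑ χ : IrrCharacter G, eB (principalBlock M G) χ * (χ.1 1 * χ.1 1) := by
  classical
  rw [← sum_theta_P hM P μ, nN]
  push_cast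
  rw [Finset.mul_sum, Finset.sum_filter]
  refine Finset.sum_congr rfl fun χ _ => ?_
  by_cases hχ : χ ∈ principalBlock M G
  · rw [if_pos hχ, eB_apply_mem hχ, one_mul, nI_spec, one_eq_charDegree (isCharacter_of_irr χ.2)]
    ring
  · rw [if_neg hχ, eB_apply_not_mem hχ, zero_mul]

theorem nN_const (hM : IsPModular p M) (μ ν : (P : Subgroup G) →* ℂˣ) : nN P M μ = nN P M ν := by
  have hc : (Nat.card (P : Subgroup G) : ℂ) ≠ 0 := Nat.cast_ne_zero.2 Nat.card_pos.ne'
  have h := (nN_eq P hM μ).trans (nN_eq P hM ν).symm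
  exact_mod_cast mul_left_cancel₀ hc h

theorem nI_homIrr (ω : G →* ℂˣ) (μ : (P : Subgroup G) →* ℂˣ) :
    nI P (homIrr ω) μ = (open Classical in if (∀ q : (P : Subgroup G), ω q = μ q) then 1 else 0) := by
  classical
  have h := (nI_spec P (homIrr ω) μ).symm.trans (lin_inner P ω μ)
  split_ifs at h ⊢ with hq
  · exact_mod_cast h
  · exact_mod_cast h

/-- The number of linear characters in the principal block extending `μ`, modulo `p`. -/
theorem nN_modEq (hdeg : ∀ χ : IrrCharacter G, χ ∈ principalBlock M G → ¬ p ∣ charDegree χ.1 → charDegree χ.1 = 1)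
    (μ : (P : Subgroup G) →* ℂˣ) :
    (nN P M μ : ZMod p) =
      (Nat.card {ω : G →* ℂˣ // homIrr ω ∈ principalBlock M G ∧ ∀ q : (P : Subgroup G), ω q = μ q} : ZMod p) := by
  classical
  let S : Finset (IrrCharacter G) := Finset.univ.filter fun χ =>
    ∃ ω : G →* ℂˣ, χ = homIrr ω ∧ homIrr ω ∈ principalBlock M G ∧ ∀ q : (P : Subgroup G), ω q = μ q
  have hS : ∀ χ, χ ∈ S ↔ ∃ ω : G →* ℂˣ, χ = homIrr ω ∧ homIrr ω ∈ principalBlock M G ∧
      ∀ q : (P : Subgroup G), ω q = μ q := by
    intro χ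
    simp [S]
  have hcard : Nat.card {ω : G →* ℂˣ // homIrr ω ∈ principalBlock M G ∧ ∀ q : (P : Subgroup G), ω q = μ q} =
      S.card := by
    rw [← Nat.card_eq_finsetCard]
    refine Nat.card_congr (Equiv.ofBijective
      (fun ω => ⟨homIrr ω.1, (hS _).2 ⟨ω.1, rfl, ω.2⟩⟩) ⟨?_, ?_⟩)
    · intro a b h
      exact Subtype.ext (homIrr_injective (congrArg Subtype.val h))
    · rintro ⟨χ, hχ⟩
      obtain ⟨ω, rfl, h⟩ := (hS χ).1 hχ
      exact ⟨⟨ω, h⟩, rfl⟩
  rw [hcard]
  have hsub : S = (Finset.univ.filter (fun χ : IrrCharacter G => χ ∈ principalBlock M G)).filter (· ∈ S) := by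
    ext χ
    simp only [Finset.mem_filter, Finset.mem_univ, true_and]
    constructor
    · intro h
      obtain ⟨ω, rfl, h1, _⟩ := (hS χ).1 h
      exact ⟨h1, h⟩
    · exact fun h => h.2
  rw [hsub, Finset.card_filter]
  rw [nN]
  push_cast
  refine Finset.sum_congr rfl fun χ hχ => ?_
  have hχB : χ ∈ principalBlock M G := by simpa using hχ
  by_cases hd : p ∣ charDegree χ.1
  · have hn : χ ∉ S := by
      intro h
      obtain ⟨ω, rfl, _⟩ := (hS χ).1 h
      have : charDegree (homIrr ω).1 = 1 := charDegree_hom ω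
      rw [this] at hd
      exact hp.out.one_lt.ne' (Nat.dvd_one.1 hd)
    rw [(ZMod.natCast_eq_zero_iff _ _).2 hd, zero_mul, if_neg hn]
  · have h1 := hdeg χ hχB hd
    rw [h1]
    obtain ⟨l, hl⟩ := Brauer.exists_hom_of_linear (isCharacter_of_irr χ.2) h1
    have hχl : χ = homIrr l := Subtype.ext (funext fun g => (hl g).symm)
    rw [hχl, nI_homIrr]
    by_cases hq : ∀ q : (P : Subgroup G), l q = μ q
    · rw [if_pos hq, if_pos ((hS _).2 ⟨l, rfl, hχl ▸ hχB, hq⟩)]
      simp
    · have hn : homIrr l ∉ S := by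
        intro h
        obtain ⟨ω, hω, _, h2⟩ := (hS _).1 h
        have := homIrr_injective hω
        subst this
        exact hq h2
      rw [if_neg hq, if_neg hn]
      simp

end Count

theorem exists_conj_mem_sylow (P : Sylow p G) {x : G} {k : ℕ} (hx : x ^ p ^ k = 1) :
    ∃ y : G, y⁻¹ * x * y ∈ (P : Subgroup G) := by
  have hz : IsPGroup p (Subgroup.zpowers x) := by
    rw [IsPGroup.iff_card, Nat.card_zpowers]
    obtain ⟨j, _, hj⟩ := (Nat.dvd_prime_pow hp.out).1 (orderOf_dvd_of_pow_eq_one hx)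
    exact ⟨j, hj⟩
  obtain ⟨Q, hQ⟩ := hz.exists_le_sylow
  obtain ⟨g, hg⟩ := MulAction.exists_smul_eq G P Q
  have hmem : x ∈ (Q : Subgroup G) := hQ (Subgroup.mem_zpowers _)
  rw [← hg, Sylow.coe_subgroup_smul, Subgroup.mem_pointwise_smul_iff_inv_smul_mem, MulAut.smul_def,
    MulAut.conj_inv_apply] at hmem
  exact ⟨g, hmem⟩

/-- Linear characters trivial on `P` and of order `p` are trivial. -/
theorem hom_eq_one_of_pow (P : Sylow p G) (ν : G →* ℂˣ) (hν : ν ^ p = 1)
    (hP : ∀ q : (P : Subgroup G), ν q = 1) : ν = 1 := by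
  ext g
  simp only [MonoidHom.one_apply, Units.val_one]
  have hn : orderOf g ≠ 0 := (orderOf_pos g).ne'
  obtain ⟨a, m, hpm, hnm⟩ := Nat.exists_eq_pow_mul_and_not_dvd hn p hp.out.ne_one
  have h1 : (g ^ m) ^ p ^ a = 1 := by
    rw [← pow_mul, mul_comm, ← hnm, pow_orderOf_eq_one]
  obtain ⟨y, hy⟩ := exists_conj_mem_sylow P h1
  have h2 : ν (y⁻¹ * g ^ m * y) = 1 := hP ⟨_, hy⟩
  have h3 : ν g ^ m = 1 := by
    rw [map_mul, map_mul, map_inv, map_pow] at h2
    rwa [mul_comm, ← mul_assoc, mul_inv_cancel, one_mul] at h2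
  have h4 : ν g ^ p = 1 := by
    have := congrArg (fun f : G →* ℂˣ => f g) hν
    simpa using this
  have h5 := pow_gcd_eq_one.2 ⟨h3, h4⟩
  have hcop : Nat.gcd m p = 1 := by
    rw [Nat.gcd_comm]
    exact (Nat.Prime.coprime_iff_not_dvd hp.out).2 hpm
  rw [hcop, pow_one] at h5
  rw [h5, Units.val_one]

/-- Linear characters of the principal block which are trivial on `P`. -/
noncomputable def lZero (hM : IsPModular p M) (P : Sylow p G) : Subgroup (G →* ℂˣ) where
  carrier := {ω | homIrr ω ∈ principalBlock M G ∧ ∀ q : (P : Subgroup G), ω q = 1}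
  one_mem' := ⟨homIrr_one_mem hM, fun _ => rfl⟩
  mul_mem' := by
    rintro a b ⟨ha, ha'⟩ ⟨hb, hb'⟩
    refine ⟨homIrr_mul_mem hM ha hb, fun q => ?_⟩
    rw [MonoidHom.mul_apply, ha', hb', one_mul]
  inv_mem' := by
    rintro a ⟨ha, ha'⟩
    have h1 : ∀ n : ℕ, homIrr (a ^ n) ∈ principalBlock M G := by
      intro n
      induction n with
      | zero =>
        have : a ^ 0 = 1 := by
          ext g
          simp
        rw [this]
        exact homIrr_one_mem hM
      | succ n ih =>
        have : a ^ (n + 1) = a ^ n * a := by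
          ext g
          simp [pow_succ]
        rw [this]
        exact homIrr_mul_mem hM ih ha
    have h2 : a⁻¹ = a ^ (orderOf a - 1) := by
      have h3 : a ^ (orderOf a - 1) * a = 1 := by
        have h4 := pow_orderOf_eq_one a
        have h5 : a ^ orderOf a = a ^ (orderOf a - 1) * a := by
          have h6 : orderOf a = (orderOf a - 1) + 1 := (Nat.sub_add_cancel (orderOf_pos a)).symm
          conv_lhs => rw [h6]
          ext g
          simp [pow_succ]
        rw [← h5]
        exact h4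
      ext g
      have h7 := congrArg (fun f : G →* ℂˣ => f g) h3
      simp only [MonoidHom.mul_apply, MonoidHom.one_apply] at h7
      simp only [MonoidHom.inv_apply]
      rw [inv_eq_of_mul_eq_one_left h7]
    refine ⟨h2 ▸ h1 _, fun q => ?_⟩
    rw [MonoidHom.inv_apply, ha', inv_one]

theorem not_dvd_card_lZero (hM : IsPModular p M) (P : Sylow p G) : ¬ p ∣ Nat.card (lZero hM P) := by
  intro h
  obtain ⟨ν, hν⟩ := exists_prime_orderOf_dvd_card' p h
  have h1 : (ν : G →* ℂˣ) ^ p = 1 := by
    have := pow_orderOf_eq_one ν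
    rw [hν] at this
    exact_mod_cast congrArg Subtype.val this
  have h2 := hom_eq_one_of_pow P _ h1 ν.2.2
  have h3 : ν = 1 := Subtype.ext h2
  rw [h3, orderOf_one] at hν
  exact hp.out.one_lt.ne hν

/-- If the principal block has no nonlinear `p'`-degree characters, linear characters of a Sylow
`p`-subgroup extend. -/
theorem exists_hom_extend (hM : IsPModular p M) (P : Sylow p G)
    (hdeg : ∀ χ : IrrCharacter G, χ ∈ principalBlock M G → ¬ p ∣ charDegree χ.1 → charDegree χ.1 = 1)
    (μ : (P : Subgroup G) →* ℂˣ) : ∃ ω : G →* ℂˣ, ∀ q : (P : Subgroup G), ω q = μ q := by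
  classical
  haveI := Fintype.ofFinite G
  haveI := Fintype.ofFinite (IrrCharacter G)
  haveI := Fintype.ofFinite (P : Subgroup G)
  haveI := Fintype.ofFinite (IrrCharacter (P : Subgroup G))
  have h1 := nN_modEq P hdeg μ
  have h2 := nN_modEq P hdeg 1
  rw [nN_const P hM μ 1, h2] at h1
  have h3 : Nat.card {ω : G →* ℂˣ // homIrr ω ∈ principalBlock M G ∧ ∀ q : (P : Subgroup G), ω q = (1 : (P : Subgroup G) →* ℂˣ) q} =
      Nat.card (lZero hM P) := rfl
  rw [h3] at h1
  by_contra hne
  push Not at hne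
  have h4 : IsEmpty {ω : G →* ℂˣ // homIrr ω ∈ principalBlock M G ∧ ∀ q : (P : Subgroup G), ω q = μ q} := by
    constructor
    rintro ⟨ω, _, h⟩
    obtain ⟨q, hq⟩ := hne ω
    exact hq (h q)
  have h5 : Nat.card {ω : G →* ℂˣ // homIrr ω ∈ principalBlock M G ∧ ∀ q : (P : Subgroup G), ω q = μ q} = 0 :=
    Nat.card_of_isEmpty
  rw [h5] at h1
  simp only [Nat.cast_zero] at h1
  exact not_dvd_card_lZero hM P ((ZMod.natCast_eq_zero_iff _ _).1 h1)


/-- A version of `exists_hom_extend` with values trivial on `p'`-elements. -/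
theorem exists_hom_extend' (hM : IsPModular p M) (P : Sylow p G)
    (hdeg : ∀ χ : IrrCharacter G, χ ∈ principalBlock M G → ¬ p ∣ charDegree χ.1 → charDegree χ.1 = 1)
    (μ : (P : Subgroup G) →* ℂˣ) : ∃ ω : G →* ℂˣ, (∀ q : (P : Subgroup G), ω q = μ q) ∧
      ∀ x : G, ¬ p ∣ orderOf x → ω x = 1 := by
  obtain ⟨ω, hω⟩ := exists_hom_extend hM P hdeg μ
  have hn : Nat.card G ≠ 0 := Nat.card_pos.ne'
  obtain ⟨a, m, hpm, hnm⟩ := Nat.exists_eq_pow_mul_and_not_dvd hn p hp.out.ne_one
  have hcop : Nat.Coprime (p ^ a) m :=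
    Nat.Coprime.pow_left _ ((Nat.Prime.coprime_iff_not_dvd hp.out).2 hpm)
  obtain ⟨k, hk1, hk2⟩ := Nat.chineseRemainder hcop 1 0
  have hk3 : m ∣ k := (Nat.modEq_zero_iff_dvd).1 hk2
  refine ⟨(powMonoidHom k).comp ω, fun q => ?_, fun x hx => ?_⟩
  · rw [← hω q]
    simp only [MonoidHom.coe_comp, Function.comp_apply, powMonoidHom_apply]
    have h1 : ω q ^ p ^ a = 1 := by
      obtain ⟨j, hj⟩ := P.isPGroup' q
      have h2 : orderOf (q : G) ∣ p ^ j := by
        apply orderOf_dvd_of_pow_eq_one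
        exact_mod_cast congrArg Subtype.val hj
      have h3 : orderOf (q : G) ∣ p ^ a * m := by
        rw [← hnm]
        exact orderOf_dvd_natCard _
      have h4 : Nat.Coprime (orderOf (q : G)) m :=
        Nat.Coprime.coprime_dvd_left h2 (Nat.Coprime.pow_left _ ((Nat.Prime.coprime_iff_not_dvd hp.out).2 hpm))
      have h5 : orderOf (q : G) ∣ p ^ a := h4.dvd_of_dvd_mul_right h3
      rw [← map_pow, orderOf_dvd_iff_pow_eq_one.1 h5, map_one]
    have h6 := pow_eq_pow_iff_modEq (x := ω q) (n := k) (m := 1)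
    have h7 : orderOf (ω q) ∣ p ^ a := orderOf_dvd_of_pow_eq_one h1
    have h8 : k ≡ 1 [MOD orderOf (ω q)] := hk1.of_dvd h7
    rw [h6.2 h8, pow_one]
  · simp only [MonoidHom.coe_comp, Function.comp_apply, powMonoidHom_apply]
    have h1 : orderOf x ∣ p ^ a * m := by
      rw [← hnm]
      exact orderOf_dvd_natCard _
    have h2 : Nat.Coprime (orderOf x) (p ^ a) :=
      Nat.Coprime.pow_right _ (Nat.Coprime.symm ((Nat.Prime.coprime_iff_not_dvd hp.out).2 hx))
    have h3 : orderOf x ∣ m := h2.dvd_of_dvd_mul_left h1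
    have h4 : orderOf x ∣ k := h3.trans hk3
    rw [← map_pow, orderOf_dvd_iff_pow_eq_one.1 h4, map_one]

/-- Every element of `P` outside `P'` is detected by a linear character. -/
theorem exists_hom_ne_of_not_mem_commutator {V : Type u} [Group V] [Finite V] {z : V}
    (hz : z ∉ commutator V) : ∃ μ : V →* ℂˣ, μ z ≠ 1 := by
  have hne : Abelianization.of z ≠ 1 := by
    intro h
    apply hz
    exact (QuotientGroup.eq_one_iff z).1 h
  haveI : Finite (Abelianization V) := by
    unfold Abelianization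
    infer_instance
  have h1 : z ∉ (⊥ : Subgroup V) := fun h => hz (by rw [Subgroup.mem_bot.1 h]; exact Subgroup.one_mem _)
  obtain ⟨ω, _, h2⟩ := exists_hom_trivial_ne (V := Abelianization V) mul_comm ⊥
    (z := Abelianization.of z) (by
      intro h
      exact hne (Subgroup.mem_bot.1 h))
  exact ⟨ω.comp Abelianization.of, h2⟩

/-- The degree criterion for `p`-nilpotence. -/
theorem hasNPC_of_degrees (hM : IsPModular p M)
    (hdeg : ∀ χ : IrrCharacter G, χ ∈ principalBlock M G → ¬ p ∣ charDegree χ.1 → charDegree χ.1 = 1) :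
    HasNormalPComplement p G := by
  obtain ⟨P⟩ : Nonempty (Sylow p G) := inferInstance
  haveI hKn : (oPrimeSub p (⊤ : Subgroup G)).Normal := oPrimeSub_normal _ Subgroup.normal_top
  have hQ : ∀ q : (P : Subgroup G), (q : G) ∈ oPrimeSub p (⊤ : Subgroup G) → q ∈ commutator (P : Subgroup G) := by
    intro q hq
    by_contra hc
    obtain ⟨μ, hμ⟩ := exists_hom_ne_of_not_mem_commutator hc
    obtain ⟨ω, h1, h2⟩ := exists_hom_extend' hM P hdeg μ
    apply hμ
    rw [← h1 q]
    have h3 : ∀ x ∈ oPrimeSub p (⊤ : Subgroup G), ω x = 1 := by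
      intro x hx
      induction hx using Subgroup.closure_induction with
      | mem x hx => exact h2 x hx.2
      | one => exact map_one ω
      | mul x y _ _ hx hy => rw [map_mul, hx, hy, one_mul]
      | inv x _ hx => rw [map_inv, hx, inv_one]
    exact h3 _ hq
  have h1 : (P : Subgroup G) ⊓ oPrimeSub p (⊤ : Subgroup G) = ⊥ := by
    refine tate_core P _ ?_ hQ
    intro A _ hA f k
    exact oPrimeSub_hom_trivial _ A hA f k
  have h2 := not_dvd_card_of_inf_eq_bot P _ hKn h1
  refine Cfsg.Agent.H22.hasNPC_of_quotient (oPrimeSub p (⊤ : Subgroup G))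
    ((Nat.Coprime.symm ((Nat.Prime.coprime_iff_not_dvd hp.out).2 h2))) ?_
  intro x
  obtain ⟨m, rfl⟩ := QuotientGroup.mk'_surjective (oPrimeSub p (⊤ : Subgroup G)) x
  obtain ⟨a, b, hb, hab⟩ := Nat.exists_eq_pow_mul_and_not_dvd (n := orderOf m)
    (orderOf_pos m).ne' p hp.out.ne_one
  refine ⟨a, ?_⟩
  rw [← map_pow]
  apply (QuotientGroup.eq_one_iff _).2
  refine Subgroup.subset_closure ⟨Subgroup.mem_top _, ?_⟩
  have h2 : orderOf (m ^ (p ^ a)) = b := by
    rw [orderOf_pow_of_dvd (pow_ne_zero _ hp.out.ne_zero) (by rw [hab]; exact Dvd.intro _ rfl), hab]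
    exact Nat.mul_div_cancel_left _ (pow_pos hp.out.pos _)
  rw [h2]
  exact hb

/-- With a normal `p`-complement, all `p'`-degree characters of the principal block are linear. -/
theorem degree_one_of_hasNPC (hM : IsPModular p M) (h : HasNormalPComplement p G)
    (χ : IrrCharacter G) (hχ : χ ∈ principalBlock M G) (hd : ¬ p ∣ charDegree χ.1) : charDegree χ.1 = 1 := by
  classical
  haveI := Fintype.ofFinite G
  haveI := Fintype.ofFinite (IrrCharacter G)
  obtain ⟨T, N, hN, hc⟩ := h
  have hcop : (Nat.card N).Coprime p := by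
    rw [Nat.coprime_comm, Nat.Prime.coprime_iff_not_dvd hp.out]
    exact Cfsg.Agent.H01.not_dvd_card_of_complement T hc
  have hk := principal_trivial_on_normal hM N hcop χ hχ
  obtain ⟨χ', hχ', hcomp⟩ := exists_descend N χ.2 hk
  haveI := Fintype.ofFinite (G ⧸ N)
  haveI := Fintype.ofFinite (IrrCharacter (G ⧸ N))
  have hdv := charDegree_dvd_card (⟨χ', hχ'⟩ : IrrCharacter (G ⧸ N))
  have hdeg : charDegree χ' = charDegree χ.1 := by
    unfold charDegree
    rw [← hcomp]
    simp
  rw [hdeg] at hdv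
  have hcard : IsPGroup p (G ⧸ N) := by
    have he : Nat.card (G ⧸ N) = Nat.card T := by
      have h1 := hc.card_mul_card
      have h2 : Nat.card G = Nat.card (G ⧸ N) * Nat.card N := Subgroup.card_eq_card_quotient_mul_card_subgroup _
      rw [h2, mul_comm] at h1
      exact (Nat.eq_of_mul_eq_mul_right Nat.card_pos h1).symm
    obtain ⟨k, hk⟩ := IsPGroup.iff_card.1 T.isPGroup'
    rw [IsPGroup.iff_card, he]
    exact ⟨k, hk⟩
  obtain ⟨k, hk'⟩ := IsPGroup.iff_card.1 hcard
  rw [hk'] at hdv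
  obtain ⟨j, _, hj⟩ := (Nat.dvd_prime_pow hp.out).1 hdv
  rcases j with _ | j
  · simpa using hj
  · exact absurd (hj ▸ dvd_pow_self _ (Nat.succ_ne_zero _)) hd

theorem principal_inf_zero (hM : IsPModular p M) :
    sInf ((fun ψ : IrrCharacter G => (charDegree (ψ : G → ℂ)).factorization p) '' principalBlock M G) = 0 := by
  haveI : M.IsPrime := hM.2.1.isPrime
  apply Nat.sInf_eq_zero.2
  left
  refine ⟨oneIrr G, oneIrr_mem_principal, ?_⟩
  have : charDegree (oneIrr G).1 = 1 := by
    unfold charDegree oneIrr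
    simp
  simp [this]

theorem blockHeight_principal_eq_zero_iff (hM : IsPModular p M) (χ : IrrCharacter G) :
    blockHeight p (principalBlock M G) χ.1 = 0 ↔ ¬ p ∣ charDegree χ.1 := by
  have hne : charDegree χ.1 ≠ 0 := (irr_charDegree_pos χ.2).ne'
  unfold blockHeight
  rw [principal_inf_zero hM]
  simp only [tsub_zero]
  rw [hp.out.dvd_iff_one_le_factorization hne]
  omega

/-- The degree criterion. -/
theorem principal_height_zero_degrees_iff (hM : IsPModular p M) :
    (∃ d : ℕ, ∀ χ : IrrCharacter G, χ ∈ principalBlock M G → blockHeight p (principalBlock M G) (χ : G → ℂ) = 0 →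
      charDegree (χ : G → ℂ) = d) ↔ HasNormalPComplement p G := by
  haveI : M.IsPrime := hM.2.1.isPrime
  constructor
  · rintro ⟨d, hd⟩
    have h1 : charDegree (oneIrr G).1 = 1 := by
      unfold charDegree oneIrr
      simp
    have hd1 : d = 1 := by
      rw [← hd (oneIrr G) oneIrr_mem_principal ((blockHeight_principal_eq_zero_iff hM _).2 (by
        rw [h1]
        exact fun h => hp.out.one_lt.ne' (Nat.dvd_one.1 h))), h1]
    subst hd1
    exact hasNPC_of_degrees hM fun χ hχ hn => hd χ hχ ((blockHeight_principal_eq_zero_iff hM _).2 hn)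
  · intro h
    exact ⟨1, fun χ hχ hh => degree_one_of_hasNPC hM h χ hχ ((blockHeight_principal_eq_zero_iff hM _).1 hh)⟩

end

end Cfsg.Agent.H23
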