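import Cfsg.Agent.Lib.H23.RealDeg1
import Cfsg.Agent.Lib.H06.CharGallagher

/-!
# Real characters of degree prime to `p`: the structure theorem.
-/

set_option autoImplicit false
set_option linter.unusedSectionVars false
set_option linter.style.haveILetI false
set_option linter.unusedSimpArgs false

namespace Cfsg.Agent.H23

open Cfsg Cfsg.Agent.H21 Cfsg.Agent.H06
open scoped ComplexConjugate

universe u

/-- The subgroup generated by the elements of `p`-power order. -/
abbrev primeGen (G : Type*) [Group G] (p : ℕ) : Subgroup G :=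
  Subgroup.closure {g : G | ∃ k : ℕ, orderOf g = p ^ k}

/-- The subgroup generated by the elements of `U` of `p`-power order. -/
abbrev upGen {G : Type*} [Group G] (U : Subgroup G) (p : ℕ) : Subgroup G :=
  Subgroup.closure {g : G | g ∈ U ∧ ∃ k : ℕ, orderOf g = p ^ k}

theorem primeGen_normal (G : Type*) [Group G] (p : ℕ) : (primeGen G p).Normal := by
  refine ⟨fun n hn g => ?_⟩
  induction hn using Subgroup.closure_induction with
  | mem x hx =>
    apply Subgroup.subset_closure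
    obtain ⟨k, hk⟩ := hx
    refine ⟨k, ?_⟩
    have : orderOf (g * x * g⁻¹) = orderOf x := by
      have := orderOf_injective (MulAut.conj g).toMonoidHom (MulAut.conj g).injective x
      simpa [MulAut.conj_apply] using this
    rw [this, hk]
  | one => simp
  | mul x y _ _ hx hy =>
    have : g * (x * y) * g⁻¹ = (g * x * g⁻¹) * (g * y * g⁻¹) := by group
    rw [this]
    exact Subgroup.mul_mem _ hx hy
  | inv x _ hx =>
    have : g * x⁻¹ * g⁻¹ = (g * x * g⁻¹)⁻¹ := by group
    rw [this]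
    exact Subgroup.inv_mem _ hx

theorem upGen_normal {G : Type*} [Group G] (U : Subgroup G) [hU : U.Normal] (p : ℕ) :
    (upGen U p).Normal := by
  refine ⟨fun n hn g => ?_⟩
  induction hn using Subgroup.closure_induction with
  | mem x hx =>
    apply Subgroup.subset_closure
    obtain ⟨hxU, k, hk⟩ := hx
    refine ⟨hU.conj_mem x hxU g, k, ?_⟩
    have : orderOf (g * x * g⁻¹) = orderOf x := by
      have := orderOf_injective (MulAut.conj g).toMonoidHom (MulAut.conj g).injective x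
      simpa [MulAut.conj_apply] using this
    rw [this, hk]
  | one => simp
  | mul x y _ _ hx hy =>
    have : g * (x * y) * g⁻¹ = (g * x * g⁻¹) * (g * y * g⁻¹) := by group
    rw [this]
    exact Subgroup.mul_mem _ hx hy
  | inv x _ hx =>
    have : g * x⁻¹ * g⁻¹ = (g * x * g⁻¹)⁻¹ := by group
    rw [this]
    exact Subgroup.inv_mem _ hx

theorem upGen_le {G : Type*} [Group G] (U : Subgroup G) (p : ℕ) : upGen U p ≤ U :=
  (Subgroup.closure_le _).2 fun _ hx => hx.1

theorem eq_one_of_pow_coprime {G : Type*} [Group G] {x : G} {a b : ℕ} (h : a.Coprime b)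
    (ha : x ^ a = 1) (hb : x ^ b = 1) : x = 1 := by
  have := pow_gcd_eq_one.2 ⟨ha, hb⟩
  rwa [Nat.Coprime.gcd_eq_one h, pow_one] at this

/-- A `p`-element of a quotient lifts to a `p`-element. -/
theorem exists_pElement_lift {G Q : Type*} [Group G] [Group Q] [Finite G] (π : G →* Q)
    (hπ : Function.Surjective π) {p : ℕ} (hp : p.Prime) {x : Q} {k : ℕ} (hx : orderOf x = p ^ k) :
    ∃ g, π g = x ∧ ∃ j : ℕ, orderOf g = p ^ j := by
  obtain ⟨g₀, rfl⟩ := hπ x
  have hn : orderOf g₀ ≠ 0 := (orderOf_pos g₀).ne'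
  obtain ⟨a, b, hb, hab⟩ := Nat.exists_eq_pow_mul_and_not_dvd hn p hp.ne_one
  have hcop : (p ^ a).Coprime b := Nat.Coprime.pow_left _ ((Nat.Prime.coprime_iff_not_dvd hp).2 hb)
  have hdvd : orderOf (π g₀) ∣ p ^ a * b := by
    rw [← hab]
    exact orderOf_map_dvd π g₀
  have hdvd2 : orderOf (π g₀) ∣ p ^ a := by
    apply Nat.Coprime.dvd_of_dvd_mul_right _ hdvd
    rw [hx]
    exact Nat.Coprime.pow_left _ ((Nat.Prime.coprime_iff_not_dvd hp).2 hb)
  have h1 : (π g₀) ^ (p ^ a) = 1 := orderOf_dvd_iff_pow_eq_one.1 hdvd2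
  have hgcd := Int.gcd_eq_gcd_ab (b : ℤ) ((p ^ a : ℕ) : ℤ)
  have hg1 : Int.gcd (b : ℤ) ((p ^ a : ℕ) : ℤ) = 1 := by
    rw [Int.gcd_natCast_natCast]
    exact hcop.symm
  rw [hg1] at hgcd
  set u := Int.gcdA (b : ℤ) ((p ^ a : ℕ) : ℤ)
  set v := Int.gcdB (b : ℤ) ((p ^ a : ℕ) : ℤ)
  have hgcd' : (b : ℤ) * u + ((p ^ a : ℕ) : ℤ) * v = 1 := by exact_mod_cast hgcd.symm
  refine ⟨g₀ ^ ((b : ℤ) * u), ?_, ?_⟩
  · rw [map_zpow]
    have h2 : ((b : ℤ) * u) = 1 - ((p ^ a : ℕ) : ℤ) * v := by linarith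
    rw [h2, zpow_sub, zpow_one, zpow_mul, zpow_natCast, h1]
    simp
  · have h3 : (g₀ ^ ((b : ℤ) * u)) ^ (p ^ a) = 1 := by
      rw [← zpow_natCast, ← zpow_mul]
      have h4 : (b : ℤ) * u * ((p ^ a : ℕ) : ℤ) = ((p ^ a * b : ℕ) : ℤ) * u := by
        push_cast
        ring
      rw [h4, zpow_mul, zpow_natCast, ← hab, pow_orderOf_eq_one]
      simp
    have h5 := orderOf_dvd_of_pow_eq_one h3
    obtain ⟨j, _, hj⟩ := (Nat.dvd_prime_pow hp).1 h5
    exact ⟨j, hj⟩

theorem primeGen_map_le {G Q : Type*} [Group G] [Group Q] (π : G →* Q) {p : ℕ} (hp : p.Prime) :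
    (primeGen G p).map π ≤ primeGen Q p := by
  rw [Subgroup.map_le_iff_le_comap, Subgroup.closure_le]
  rintro g ⟨k, hk⟩
  apply Subgroup.subset_closure
  have h5 : orderOf (π g) ∣ p ^ k := by
    rw [← hk]
    exact orderOf_map_dvd π g
  obtain ⟨j, _, hj⟩ := (Nat.dvd_prime_pow hp).1 h5
  exact ⟨j, hj⟩

theorem le_primeGen_map {G Q : Type*} [Group G] [Group Q] [Finite G] (π : G →* Q)
    (hπ : Function.Surjective π) {p : ℕ} (hp : p.Prime) :
    primeGen Q p ≤ (primeGen G p).map π := by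
  rw [Subgroup.closure_le]
  rintro x ⟨k, hk⟩
  obtain ⟨g, hg, j, hj⟩ := exists_pElement_lift π hπ hp hk
  exact ⟨g, Subgroup.subset_closure ⟨j, hj⟩, hg⟩

/-- The key step: a minimal normal subgroup `N ≤ L`, `r`-elementary with `r ≠ p`, and `L / N` a
`p`-group is impossible. -/
theorem real_key_step {G : Type u} [Group G] [Finite G] (p : ℕ) [hp : Fact p.Prime]
    (hreal : ∀ χ : IrrCharacter G, (∀ g, (χ.1 g).im = 0) → ¬ p ∣ charDegree χ.1)
    (U : Subgroup G) [hU : U.Normal] (hKU : primeGen G 2 ≤ U)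
    (hUp : ∀ u ∈ U, ∃ e : ℕ, u ^ (p ^ e) ∈ primeGen G 2)
    (N : Subgroup G) [hN : N.Normal] (hN1 : N ≠ ⊥)
    (hmin : ∀ M : Subgroup G, M.Normal → M ≤ N → M = ⊥ ∨ M = N)
    (r : ℕ) (hr : r.Prime) (hrp : r ≠ p) (hexp : ∀ n ∈ N, n ^ r = 1)
    (hab : ∀ a ∈ N, ∀ b ∈ N, a * b = b * a) (hNL : N ≤ upGen U p)
    (hLN : ∀ x ∈ upGen U p, ∃ e : ℕ, x ^ (p ^ e) ∈ N) : False := by
  classical
  haveI : Fintype G := Fintype.ofFinite _
  haveI : Fintype N := Fintype.ofFinite _
  haveI : Fintype (IrrCharacter G) := Fintype.ofFinite _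
  haveI : Fintype (IrrCharacter N) := Fintype.ofFinite _
  have hpp := hp.out
  obtain ⟨L, hLdef⟩ : ∃ L, L = upGen U p := ⟨_, rfl⟩
  rw [← hLdef] at hNL hLN
  haveI hLn : L.Normal := by rw [hLdef]; exact upGen_normal U p
  have hcop : p.Coprime r := (Nat.coprime_primes hpp hr).2 hrp.symm
  have habN : ∀ a b : N, a * b = b * a := fun a b => Subtype.ext (hab a a.2 b b.2)
  -- the Sylow subgroup and the decomposition
  let Q : Sylow p L := default
  obtain ⟨R, hRdef⟩ : ∃ R : Subgroup G, R = Q.1.map L.subtype := ⟨_, rfl⟩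
  have hRL : R ≤ L := by
    rw [hRdef]
    exact Subgroup.map_subtype_le _
  have hRp : IsPGroup p R := by
    rw [hRdef]
    exact Q.2.map _
  have hNR : ∀ x, x ∈ N → x ∈ R → x = 1 := by
    intro x hx hxR
    obtain ⟨k, hk⟩ := hRp ⟨x, hxR⟩
    have h1 : x ^ p ^ k = 1 := by
      have := congrArg Subtype.val hk
      simpa using this
    exact eq_one_of_pow_coprime (Nat.Coprime.pow_left k hcop) h1 (hexp x hx)
  have hdec : ∀ l ∈ L, ∃ n ∈ N, ∃ ρ ∈ R, l = n * ρ := by
    let N' : Subgroup L := N.subgroupOf L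
    haveI : N'.Normal := inferInstance
    have hq : IsPGroup p (L ⧸ N') := by
      intro x
      obtain ⟨l, rfl⟩ := QuotientGroup.mk_surjective x
      obtain ⟨e, he⟩ := hLN l.1 l.2
      refine ⟨e, ?_⟩
      rw [← QuotientGroup.mk_pow, QuotientGroup.eq_one_iff]
      exact he
    obtain ⟨m, hm⟩ := IsPGroup.iff_card.1 hq
    have hi : N'.index = p ^ m := by rw [Subgroup.index_eq_card, hm]
    have h1 : (Q.1 ⊔ N').index ∣ p ^ m := by
      rw [← hi]
      exact Subgroup.index_dvd_of_le le_sup_right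
    have h2 : (Q.1 ⊔ N').index ∣ Q.1.index := Subgroup.index_dvd_of_le le_sup_left
    have h3 : ¬ p ∣ Q.1.index := Q.not_dvd_index
    obtain ⟨j, _, hj⟩ := (Nat.dvd_prime_pow hpp).1 h1
    have hj0 : j = 0 := by
      by_contra hj0
      apply h3
      refine dvd_trans ?_ h2
      rw [hj]
      exact dvd_pow_self p hj0
    have h4 : Q.1 ⊔ N' = ⊤ := by
      rw [← Subgroup.index_eq_one, hj, hj0, pow_zero]
    intro l hl
    have h5 : (⟨l, hl⟩ : L) ∈ Q.1 ⊔ N' := by rw [h4]; trivial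
    obtain ⟨n, hn, ρ, hρ, e⟩ := Subgroup.mem_sup_of_normal_left.1 (by rwa [sup_comm] at h5 : (⟨l, hl⟩ : L) ∈ N' ⊔ Q.1)
    refine ⟨n.1, hn, ρ.1, ?_, ?_⟩
    · rw [hRdef]
      exact ⟨ρ, hρ, rfl⟩
    · exact (congrArg Subtype.val e).symm
  -- the normalizer
  obtain ⟨T, hTdef⟩ : ∃ T : Subgroup G, T = Subgroup.normalizer (R : Set G) := ⟨_, rfl⟩
  have hRT : R ≤ T := by
    rw [hTdef]
    exact Subgroup.le_normalizer
  have hTL : L ⊔ T = ⊤ := by
    have := Sylow.normalizer_sup_eq_top Q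
    rw [sup_comm, hTdef, hRdef]
    exact this
  have hGdec : ∀ g : G, ∃ n ∈ N, ∃ t ∈ T, g = n * t := by
    intro g
    have h1 : g ∈ L ⊔ T := by rw [hTL]; trivial
    obtain ⟨l, hl, t, ht, e⟩ := Subgroup.mem_sup_of_normal_left.1 h1
    obtain ⟨n, hn, ρ, hρ, e2⟩ := hdec l hl
    refine ⟨n, hn, ρ * t, T.mul_mem (hRT hρ) ht, ?_⟩
    rw [← e, e2, mul_assoc]
  -- step B
  have hB : (∀ l ∈ L, ∀ n ∈ N, l * n = n * l) → False := by
    intro hc
    have hLR : L ≤ R := by
      rw [hLdef, Subgroup.closure_le]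
      rintro u ⟨huU, k, hk⟩
      have huL : u ∈ L := by
        rw [hLdef]
        exact Subgroup.subset_closure ⟨huU, k, hk⟩
      obtain ⟨n, hn, ρ, hρ, e⟩ := hdec u huL
      have hcomm : Commute n ρ := (hc ρ (hRL hρ) n hn).symm
      have h1 : n ^ (p ^ k) * ρ ^ (p ^ k) = 1 := by
        rw [← hcomm.mul_pow, ← e, ← hk, pow_orderOf_eq_one]
      have h2 : n ^ (p ^ k) = (ρ ^ (p ^ k))⁻¹ := eq_inv_of_mul_eq_one_left h1
      have h3 : n ^ (p ^ k) = 1 := by
        apply hNR _ (N.pow_mem hn _)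
        rw [h2]
        exact R.inv_mem (R.pow_mem hρ _)
      have h4 : n = 1 := eq_one_of_pow_coprime (Nat.Coprime.pow_left k hcop) h3 (hexp n hn)
      rw [e, h4, one_mul]
      exact hρ
    apply hN1
    rw [eq_bot_iff]
    intro x hx
    exact (Subgroup.mem_bot).2 (hNR x hx (hLR (hNL hx)))
  -- step C
  have hNT : N ⊓ T = ⊥ := by
    have hn : (N ⊓ T).Normal := by
      refine ⟨fun x hx g => ?_⟩
      obtain ⟨n, hn, t, ht, rfl⟩ := hGdec g
      have h1 : t * x * t⁻¹ ∈ N := hN.conj_mem x hx.1 t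
      have h2 : t * x * t⁻¹ ∈ T := T.mul_mem (T.mul_mem ht hx.2) (T.inv_mem ht)
      have h3 : n * t * x * (n * t)⁻¹ = n * (t * x * t⁻¹) * n⁻¹ := by group
      rw [h3, hab n hn _ h1]
      simp only [mul_inv_cancel_right]
      exact ⟨h1, h2⟩
    rcases hmin _ hn inf_le_left with h | h
    · exact h
    · exfalso
      have hNT' : N ≤ T := fun x hx => by
        have : x ∈ N ⊓ T := by rw [h]; exact hx
        exact this.2
      apply hB
      intro l hl n hn
      obtain ⟨n', hn', ρ, hρ, rfl⟩ := hdec l hl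
      have h1 : ρ * n = n * ρ := by
        have h2 : n⁻¹ * ρ * n ∈ R := by
          have := hNT' (N.inv_mem hn)
          rw [hTdef, Subgroup.mem_normalizer_iff] at this
          have h3 := (this ρ).1 hρ
          simpa using h3
        have h4 : ρ⁻¹ * (n⁻¹ * ρ * n) ∈ R := R.mul_mem (R.inv_mem hρ) h2
        have h5 : ρ⁻¹ * n⁻¹ * ρ ∈ N := by
          have := hN.conj_mem n⁻¹ (N.inv_mem hn) ρ⁻¹
          simpa using this
        have h6 : ρ⁻¹ * (n⁻¹ * ρ * n) ∈ N := by
          have : ρ⁻¹ * (n⁻¹ * ρ * n) = (ρ⁻¹ * n⁻¹ * ρ) * n := by group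
          rw [this]
          exact N.mul_mem h5 hn
        have h7 := hNR _ h6 h4
        have h8 : n⁻¹ * ρ * n = ρ := by
          have := congrArg (ρ * ·) h7
          simpa [mul_assoc] using this
        have h9 := congrArg (n * ·) h8
        simpa [mul_assoc] using h9
      calc n' * ρ * n = n' * (ρ * n) := by group
        _ = n' * (n * ρ) := by rw [h1]
        _ = (n' * n) * ρ := by group
        _ = (n * n') * ρ := by rw [hab n' hn' n hn]
        _ = n * (n' * ρ) := by group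
  -- the complement
  have hcompl : Subgroup.IsComplement' N T := by
    apply Subgroup.isComplement'_of_disjoint_and_mul_eq_univ
    · exact disjoint_iff.2 hNT
    · ext g
      simp only [Set.mem_univ, iff_true]
      obtain ⟨n, hn, t, ht, e⟩ := hGdec g
      exact Set.mem_mul.2 ⟨n, hn, t, ht, e.symm⟩
  have hindex : T.index = Nat.card N := hcompl.index_eq_card
  -- good characters
  let Good : IrrCharacter N → Prop := fun μ => ∃ g : G, twist N μ.1 g = fun n => conj (μ.1 n)
  have hfix : ∀ μ, Good μ → ∀ l ∈ L, twist N μ.1 l = μ.1 := by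
    rintro μ ⟨g, hg⟩ l hl
    haveI : Fintype T := Fintype.ofFinite _
    obtain ⟨χ, hχ, hχμ⟩ := exists_real_over N T hNT hindex habN μ g hg
    have hd := hreal χ (fun x => Complex.conj_eq_iff_im.1 (hχ x))
    exact good_fixed N habN χ hd R L hRp hdec μ hχμ l hl
  have hlin : ∀ μ : IrrCharacter N, charDegree μ.1 = 1 := fun μ => irr_degree_one_of_comm habN μ.2
  have hlinc := fun μ : IrrCharacter N => isCharacter_of_irr μ.2
  -- the subgroup D
  let D : Subgroup G :=
    { carrier := {n | ∃ h : n ∈ N, ∀ μ, Good μ → μ.1 ⟨n, h⟩ = 1}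
      one_mem' := ⟨N.one_mem, fun μ _ => linear_one (hlinc μ) (hlin μ)⟩
      mul_mem' := by
        rintro a b ⟨ha, ha'⟩ ⟨hb, hb'⟩
        refine ⟨N.mul_mem ha hb, fun μ hμ => ?_⟩
        have := linear_mul (hlinc μ) (hlin μ) ⟨a, ha⟩ ⟨b, hb⟩
        have e : (⟨a * b, N.mul_mem ha hb⟩ : N) = ⟨a, ha⟩ * ⟨b, hb⟩ := rfl
        rw [e, this, ha' μ hμ, hb' μ hμ, one_mul]
      inv_mem' := by
        rintro a ⟨ha, ha'⟩
        refine ⟨N.inv_mem ha, fun μ hμ => ?_⟩
        have h1 := linear_mul (hlinc μ) (hlin μ) ⟨a, ha⟩ ⟨a, ha⟩⁻¹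
        rw [mul_inv_cancel, linear_one (hlinc μ) (hlin μ), ha' μ hμ, one_mul] at h1
        exact h1.symm }
  have hgoodtw : ∀ (μ : IrrCharacter N) (a : G), Good μ → Good ⟨twist N μ.1 a, isIrrCharacter_twist N μ.2 a⟩ := by
    rintro μ a ⟨g, hg⟩
    refine ⟨a⁻¹ * g * a, ?_⟩
    show twist N (twist N μ.1 a) (a⁻¹ * g * a) = fun n => conj (twist N μ.1 a n)
    rw [← twist_mul]
    have : a * (a⁻¹ * g * a) = g * a := by group
    rw [this, twist_mul, hg]
    rfl
  have hDn : D.Normal := by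
    refine ⟨fun x hx g => ?_⟩
    obtain ⟨h, hx'⟩ := hx
    refine ⟨hN.conj_mem x h g, fun μ hμ => ?_⟩
    have h1 := hx' ⟨twist N μ.1 g, isIrrCharacter_twist N μ.2 g⟩ (hgoodtw μ g hμ)
    exact h1
  have hDN : D ≤ N := fun x hx => hx.1
  rcases hmin D hDn hDN with hD | hD
  · -- `L` centralizes `N`
    apply hB
    intro l hl n hn
    have h0 : l * n * l⁻¹ * n⁻¹ ∈ D := by
      have h1 : l * n * l⁻¹ ∈ N := hN.conj_mem n hn l
      refine ⟨N.mul_mem h1 (N.inv_mem hn), fun μ hμ => ?_⟩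
      have h2 := linear_mul (hlinc μ) (hlin μ) ⟨_, h1⟩ ⟨n, hn⟩⁻¹
      have h3 : μ.1 ⟨_, h1⟩ = μ.1 ⟨n, hn⟩ := congrFun (hfix μ hμ l hl) ⟨n, hn⟩
      have h4 := linear_mul (hlinc μ) (hlin μ) ⟨n, hn⟩ ⟨n, hn⟩⁻¹
      rw [mul_inv_cancel, linear_one (hlinc μ) (hlin μ)] at h4
      rw [h3, ← h4] at h2
      exact h2
    rw [hD, Subgroup.mem_bot] at h0
    have h5 : l * n * l⁻¹ = n := by
      have := congrArg (· * n) h0
      simpa using this
    have h6 := congrArg (· * l) h5
    simpa using h6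
  · -- all good characters are trivial
    have hfacts : ∀ μ : IrrCharacter N, Good μ → ∀ n : N, μ.1 n = 1 := by
      intro μ hμ n
      have h1 : (n : G) ∈ D := by rw [hD]; exact n.2
      obtain ⟨h, h2⟩ := h1
      exact h2 μ hμ
    have hsep : ∀ b : N, b ≠ 1 → ∃ μ : IrrCharacter N, μ.1 b ≠ 1 := by
      intro b hb
      by_contra hall
      push Not at hall
      apply hb
      have h1 : IsConj b 1 := Cfsg.Agent.H22.isConj_of_forall_irr_eq (fun χ => by
        rw [hall χ, linear_one (hlinc χ) (hlin χ)])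
      exact isConj_one_right.1 h1.symm
    obtain ⟨n₀, hn₀, hn₀1⟩ : ∃ n ∈ N, n ≠ 1 := by
      by_contra hall
      push Not at hall
      apply hN1
      rw [eq_bot_iff]
      intro x hx
      exact (Subgroup.mem_bot).2 (hall x hx)
    have hpowlin : ∀ (μ : IrrCharacter N) (b : N) (k : ℕ), μ.1 (b ^ k) = μ.1 b ^ k := by
      intro μ b k
      induction k with
      | zero => simp [linear_one (hlinc μ) (hlin μ)]
      | succ k ih => rw [pow_succ, linear_mul (hlinc μ) (hlin μ), ih, pow_succ]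
    have hbpow : ∀ b : N, b ^ r = 1 := fun b => Subtype.ext (by simpa using hexp b b.2)
    by_cases hr2 : r = 2
    · obtain ⟨μ, hμ⟩ := hsep ⟨n₀, hn₀⟩ (fun h => hn₀1 (congrArg Subtype.val h))
      apply hμ
      apply hfacts μ
      refine ⟨1, ?_⟩
      rw [twist_one]
      funext n
      have h1 := hpowlin μ n 2
      have h2 := hbpow n
      rw [hr2] at h2
      rw [h2, linear_one (hlinc μ) (hlin μ)] at h1
      have h3 : μ.1 n = 1 ∨ μ.1 n = -1 := by
        have : (μ.1 n - 1) * (μ.1 n + 1) = 0 := by linear_combination -h1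
        rcases mul_eq_zero.1 this with h | h
        · left; linear_combination h
        · right; linear_combination h
      rcases h3 with h | h <;> rw [h] <;> simp
    · -- `r` is odd; a 2-element acts nontrivially
      have hr2c : Nat.Coprime 2 r := (Nat.coprime_primes Nat.prime_two hr).2 (Ne.symm hr2)
      have hNK : N ≤ primeGen G 2 := by
        intro n hn
        obtain ⟨e, he⟩ := hUp n (upGen_le U p (by rw [← hLdef]; exact hNL hn))
        have hc : (p ^ e).Coprime r := Nat.Coprime.pow_left e hcop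
        have h1 : n ∈ Subgroup.zpowers (n ^ (p ^ e)) := by
          have h2 := hexp n hn
          have hgcd := Int.gcd_eq_gcd_ab ((p ^ e : ℕ) : ℤ) (r : ℤ)
          have hg1 : Int.gcd ((p ^ e : ℕ) : ℤ) (r : ℤ) = 1 := by
            rw [Int.gcd_natCast_natCast]
            exact hc
          rw [hg1] at hgcd
          refine ⟨Int.gcdA ((p ^ e : ℕ) : ℤ) (r : ℤ), ?_⟩
          have h3 : (n ^ (p ^ e)) ^ Int.gcdA ((p ^ e : ℕ) : ℤ) (r : ℤ) =
              n ^ (((p ^ e : ℕ) : ℤ) * Int.gcdA ((p ^ e : ℕ) : ℤ) (r : ℤ)) := by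
            rw [zpow_mul, zpow_natCast]
          simp only
          rw [h3]
          have h4 : ((p ^ e : ℕ) : ℤ) * Int.gcdA ((p ^ e : ℕ) : ℤ) (r : ℤ) =
              1 - (r : ℤ) * Int.gcdB ((p ^ e : ℕ) : ℤ) (r : ℤ) := by
            rw [Nat.cast_one] at hgcd
            linarith
          rw [h4, zpow_sub, zpow_one, zpow_mul, zpow_natCast, h2]
          simp
        obtain ⟨z, hz⟩ := h1
        rw [← hz]
        exact Subgroup.zpow_mem _ he z
      have hact : ∃ t : G, (∃ k : ℕ, orderOf t = 2 ^ k) ∧ ∃ n ∈ N, t * n ≠ n * t := by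
        by_contra hall
        push Not at hall
        have hKc : ∀ k ∈ primeGen G 2, ∀ n ∈ N, k * n = n * k := by
          intro k hk n hn
          induction hk using Subgroup.closure_induction with
          | mem x hx => exact hall x hx n hn
          | one => simp
          | mul x y _ _ hx hy =>
            rw [mul_assoc, hy, ← mul_assoc, hx, mul_assoc]
          | inv x _ hx =>
            have h1 := congrArg (fun z => x⁻¹ * z * x⁻¹) hx
            simp only [mul_assoc, mul_inv_cancel, mul_one] at h1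
            simpa [mul_assoc] using h1.symm
        have hKT : primeGen G 2 ≤ T := by
          rw [Subgroup.closure_le]
          rintro g ⟨k, hk⟩
          obtain ⟨n, hn, t, ht, rfl⟩ := hGdec g
          have hgK : n * t ∈ primeGen G 2 := Subgroup.subset_closure ⟨k, hk⟩
          have htK : t ∈ primeGen G 2 := by
            have := (primeGen G 2).mul_mem ((primeGen G 2).inv_mem (hNK hn)) hgK
            simpa using this
          have hcomm : Commute n t := (hKc t htK n hn).symm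
          have h1 : n ^ (2 ^ k) * t ^ (2 ^ k) = 1 := by
            rw [← hcomm.mul_pow, ← hk, pow_orderOf_eq_one]
          have h2 : n ^ (2 ^ k) = (t ^ (2 ^ k))⁻¹ := eq_inv_of_mul_eq_one_left h1
          have h3 : n ^ (2 ^ k) ∈ N ⊓ T := by
            refine ⟨N.pow_mem hn _, ?_⟩
            rw [h2]
            exact T.inv_mem (T.pow_mem ht _)
          rw [hNT, Subgroup.mem_bot] at h3
          have h4 : n = 1 := eq_one_of_pow_coprime (Nat.Coprime.pow_left k hr2c) h3 (hexp n hn)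
          rw [h4, one_mul]
          exact ht
        have hN2 : N ≤ N ⊓ T := le_inf le_rfl (hNK.trans hKT)
        rw [hNT] at hN2
        exact hN1 (le_bot_iff.1 hN2)
      obtain ⟨t, ⟨k, hk⟩, n₁, hn₁, hne⟩ := hact
      -- a power of `t` acting as an involution
      have hex : ∃ j, ∀ n ∈ N, t ^ (2 ^ j) * n = n * t ^ (2 ^ j) :=
        ⟨k, fun n _ => by rw [← hk, pow_orderOf_eq_one]; simp⟩
      let j := Nat.find hex
      have hj := Nat.find_spec hex
      have hj0 : Nat.find hex ≠ 0 := by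
        intro h0
        have := hj n₁ hn₁
        rw [h0] at this
        simp at this
        exact hne this
      obtain ⟨i, hi⟩ : ∃ i, Nat.find hex = i + 1 := Nat.exists_eq_succ_of_ne_zero hj0
      have hnot : ¬ ∀ n ∈ N, t ^ (2 ^ i) * n = n * t ^ (2 ^ i) :=
        Nat.find_min hex (by omega)
      push Not at hnot
      obtain ⟨n₂, hn₂, hne2⟩ := hnot
      obtain ⟨s, hs⟩ : ∃ s, s = t ^ (2 ^ i) := ⟨_, rfl⟩
      rw [← hs] at hne2
      have hs2 : ∀ n ∈ N, s * s * n = n * (s * s) := by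
        intro n hn
        have := hj n hn
        rw [hi, pow_succ, pow_mul, pow_two, ← hs] at this
        exact this
      have hconjmem : ∀ n ∈ N, s * n * s⁻¹ ∈ N := fun n hn => hN.conj_mem n hn s
      -- the inverted element
      obtain ⟨b, hb⟩ : ∃ b, b = n₂⁻¹ * (s * n₂ * s⁻¹) := ⟨_, rfl⟩
      have hbN : b ∈ N := by
        rw [hb]
        exact N.mul_mem (N.inv_mem hn₂) (hconjmem n₂ hn₂)
      have hb1 : b ≠ 1 := by
        intro h
        rw [hb] at h
        apply hne2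
        have h1 : s * n₂ * s⁻¹ = n₂ := by
          have := congrArg (n₂ * ·) h
          simpa using this
        have h2 := congrArg (· * s) h1
        simpa using h2
      have hs22 : ∀ n ∈ N, s * (s * n * s⁻¹) * s⁻¹ = n := by
        intro n hn
        have h1 := hs2 n hn
        calc s * (s * n * s⁻¹) * s⁻¹ = (s * s * n) * (s * s)⁻¹ := by group
          _ = n := by rw [h1]; group
      have hbinv : s * b * s⁻¹ = b⁻¹ := by
        rw [hb]
        have h1 : s * (n₂⁻¹ * (s * n₂ * s⁻¹)) * s⁻¹ = (s * n₂ * s⁻¹)⁻¹ * (s * (s * n₂ * s⁻¹) * s⁻¹) := by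
          group
        have h2 : (n₂⁻¹ * (s * n₂ * s⁻¹))⁻¹ = (s * n₂ * s⁻¹)⁻¹ * n₂ := by group
        rw [h1, hs22 n₂ hn₂, h2]
      obtain ⟨μ₀, hμ₀⟩ := hsep ⟨b, hbN⟩ (fun h => hb1 (congrArg Subtype.val h))
      have hlc : IsCharacter N (fun n => conj (twist N μ₀.1 s n)) :=
        isCharacter_star (isCharacter_twist N (hlinc μ₀) s)
      have hld : charDegree (fun n => conj (twist N μ₀.1 s n)) = 1 :=
        irr_degree_one_of_comm habN (isIrr_star (isIrrCharacter_twist N μ₀.2 s))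
      let μ : IrrCharacter N := ⟨fun n => conj (twist N μ₀.1 s n) * μ₀.1 n,
        isIrr_linear_mul μ₀.2 hlc hld⟩
      have hμgood : Good μ := by
        refine ⟨s, ?_⟩
        funext n
        show conj (twist N μ₀.1 s (⟨s * n * s⁻¹, _⟩ : N)) * μ₀.1 ⟨s * n * s⁻¹, _⟩ =
          conj (conj (twist N μ₀.1 s n) * μ₀.1 n)
        have h1 : twist N μ₀.1 s (⟨s * n * s⁻¹, hN.conj_mem n n.2 s⟩ : N) = μ₀.1 n := by
          show μ₀.1 _ = μ₀.1 n
          exact congrArg μ₀.1 (Subtype.ext (hs22 n n.2))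
        rw [h1, map_mul, Complex.conj_conj]
        show _ = _ * conj _
        rw [mul_comm]
        rfl
      have h1 := hfacts μ hμgood ⟨b, hbN⟩
      have h2 : μ.1 ⟨b, hbN⟩ = μ₀.1 ⟨b, hbN⟩ * μ₀.1 ⟨b, hbN⟩ := by
        show conj (μ₀.1 ⟨s * b * s⁻¹, _⟩) * _ = _
        have h3 : (⟨s * b * s⁻¹, hN.conj_mem b hbN s⟩ : N) = (⟨b, hbN⟩ : N)⁻¹ := Subtype.ext hbinv
        rw [h3, isCharacter_inv (hlinc μ₀), Complex.conj_conj]
      rw [h2] at h1
      have h3 : (μ₀.1 ⟨b, hbN⟩) ^ 2 = 1 := by rw [pow_two]; exact h1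
      have h4 : (μ₀.1 ⟨b, hbN⟩) ^ r = 1 := by
        rw [← hpowlin, hbpow, linear_one (hlinc μ₀) (hlin μ₀)]
      apply hμ₀
      have hu : IsUnit (μ₀.1 ⟨b, hbN⟩) := by
        have : μ₀.1 ⟨b, hbN⟩ ≠ 0 := by
          intro h0
          rw [h0] at h3
          simp at h3
        exact isUnit_iff_ne_zero.2 this
      have h5 := pow_gcd_eq_one.2 ⟨h3, h4⟩
      rw [Nat.Coprime.gcd_eq_one hr2c, pow_one] at h5
      exact h5

end Cfsg.Agent.H23
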