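import Cfsg.Agent.Lib.H23.RealDeg2

/-!
# Real characters of degree prime to `p`: the induction.
-/

set_option autoImplicit false
set_option linter.unusedSectionVars false
set_option linter.style.haveILetI false
set_option linter.unusedSimpArgs false

namespace Cfsg.Agent.H23

open Cfsg Cfsg.Agent.H21 Cfsg.Agent.H06
open scoped ComplexConjugate

universe u

theorem exists_min_normal {G : Type*} [Group G] [Finite G] (L : Subgroup G) [hLn : L.Normal]
    (hL : L ≠ ⊥) (hs : Group.IsSolvable L) :
    ∃ N : Subgroup G, N.Normal ∧ N ≠ ⊥ ∧ N ≤ L ∧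
      (∀ M : Subgroup G, M.Normal → M ≤ N → M = ⊥ ∨ M = N) ∧
      ∃ r : ℕ, r.Prime ∧ (∀ n ∈ N, n ^ r = 1) ∧ ∀ a ∈ N, ∀ b ∈ N, a * b = b * a := by
  classical
  let S : Set (Subgroup G) := {N | N.Normal ∧ N ≠ ⊥ ∧ N ≤ L}
  obtain ⟨N, ⟨hNn, hN1, hNL⟩, hNmin⟩ := wellFounded_lt.has_min S ⟨L, hLn, hL, le_rfl⟩
  have hmin : ∀ M : Subgroup G, M.Normal → M ≤ N → M = ⊥ ∨ M = N := by
    intro M hM hMN
    by_cases h : M = ⊥
    · exact Or.inl h
    · right
      by_contra hne
      exact hNmin M ⟨hM, h, hMN.trans hNL⟩ (lt_of_le_of_ne hMN hne)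
  haveI := hNn
  have hsN : Group.IsSolvable N := Group.isSolvable_of_isSolvable_injective
    (f := Subgroup.inclusion hNL) (Subgroup.inclusion_injective hNL)
  haveI : Nontrivial N := (Subgroup.nontrivial_iff_ne_bot N).2 hN1 
  have hcomm : ⁅N, N⁆ = ⊥ := by
    rcases hmin ⁅N, N⁆ (Subgroup.commutator_normal N N) (Subgroup.commutator_le_left N N) with h | h
    · exact h
    · exfalso
      have h1 := Group.IsSolvable.commutator_lt_top_of_nontrivial (G := N)
      apply h1.ne
      apply Subgroup.map_injective N.subtype_injective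
      show (commutator N).map N.subtype = _
      rw [Subgroup.map_subtype_commutator, h, ← MonoidHom.range_eq_map, Subgroup.range_subtype]
  have hab : ∀ a ∈ N, ∀ b ∈ N, a * b = b * a := by
    intro a ha b hb
    have h1 := Subgroup.commutator_mem_commutator ha hb
    rw [hcomm, Subgroup.mem_bot] at h1
    exact commutatorElement_eq_one_iff_mul_comm.1 h1
  have hcard : Nat.card N ≠ 1 := by
    intro h
    have := (Nat.card_eq_one_iff_unique.1 h).1
    exact not_subsingleton N this
  obtain ⟨r, hr, hrd⟩ := Nat.exists_prime_and_dvd hcard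
  haveI : Fact r.Prime := ⟨hr⟩
  obtain ⟨x, hx⟩ := exists_prime_orderOf_dvd_card' (G := N) r hrd
  let Ω : Subgroup G :=
    { carrier := {g | g ∈ N ∧ g ^ r = 1}
      one_mem' := ⟨N.one_mem, one_pow _⟩
      mul_mem' := by
        rintro a b ⟨ha, ha'⟩ ⟨hb, hb'⟩
        refine ⟨N.mul_mem ha hb, ?_⟩
        have hc : Commute a b := hab a ha b hb
        rw [hc.mul_pow, ha', hb', one_mul]
      inv_mem' := by
        rintro a ⟨ha, ha'⟩
        exact ⟨N.inv_mem ha, by rw [inv_pow, ha', inv_one]⟩ }
  have hΩn : Ω.Normal := by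
    refine ⟨fun n hn g => ⟨hNn.conj_mem n hn.1 g, ?_⟩⟩
    rw [conj_pow, hn.2]
    group
  have hΩ : Ω = N := by
    rcases hmin Ω hΩn (fun y hy => hy.1) with h | h
    · exfalso
      have hx1 : x.1 ∈ Ω := by
        refine ⟨x.2, ?_⟩
        have := pow_orderOf_eq_one x
        rw [hx] at this
        exact congrArg Subtype.val this
      rw [h, Subgroup.mem_bot] at hx1
      have h2 : x = 1 := Subtype.ext hx1
      rw [h2, orderOf_one] at hx
      exact hr.one_lt.ne hx
    · exact h
  refine ⟨N, hNn, hN1, hNL, hmin, r, hr, fun n hn => ?_, hab⟩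
  rw [← hΩ] at hn
  exact hn.2

/-- Structure theorem: `L`, the subgroup generated by the `p`-elements of `U`, is a `p`-group. -/
theorem real_structure (n : ℕ) : ∀ (G : Type u) [Group G] [Finite G] (p : ℕ) [Fact p.Prime]
    (_ : Group.IsSolvable (primeGen G p))
    (_ : ∀ χ : IrrCharacter G, (∀ g, (χ.1 g).im = 0) → ¬ p ∣ charDegree χ.1)
    (U : Subgroup G) [U.Normal] (_ : primeGen G 2 ≤ U)
    (_ : ∀ u ∈ U, ∃ e : ℕ, u ^ (p ^ e) ∈ primeGen G 2),
    Nat.card G ≤ n → IsPGroup p (upGen U p) := by
  induction n with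
  | zero =>
    intro G _ _ p _ _ _ U _ _ _ h0
    exact absurd h0 (by have := Nat.card_pos (α := G); omega)
  | succ n ih =>
    intro G _ _ p _ hsolv hreal U _ hKU hUp hcard
    have hpp : p.Prime := Fact.out
    haveI hLn : (upGen U p).Normal := upGen_normal U p
    by_cases hL : upGen U p = ⊥
    · rw [hL]
      exact IsPGroup.of_bot
    · have hsL : Group.IsSolvable (upGen U p) := by
        have hle : upGen U p ≤ primeGen G p := by
          rw [Subgroup.closure_le]
          rintro g ⟨_, k, hk⟩
          exact Subgroup.subset_closure ⟨k, hk⟩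
        exact Group.isSolvable_of_isSolvable_injective (f := Subgroup.inclusion hle)
          (Subgroup.inclusion_injective hle)
      obtain ⟨N, hNn, hN1, hNL, hmin, r, hr, hexp, hab⟩ := exists_min_normal (upGen U p) hL hsL
      haveI := hNn
      -- the quotient
      let π : G →* G ⧸ N := QuotientGroup.mk' N
      have hπ : Function.Surjective π := QuotientGroup.mk'_surjective N
      have hcardq : Nat.card (G ⧸ N) ≤ n := by
        have h1 : Nat.card (G ⧸ N) * Nat.card N = Nat.card G := by
          rw [← Subgroup.index_eq_card, Subgroup.index_mul_card]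
        have h2 : 1 < Nat.card N := by
          haveI : Nontrivial N := (Subgroup.nontrivial_iff_ne_bot N).2 hN1
          exact Finite.one_lt_card
        have h3 : 0 < Nat.card (G ⧸ N) := Nat.card_pos
        nlinarith
      have hsq : Group.IsSolvable (primeGen (G ⧸ N) p) := by
        have h1 := le_primeGen_map π hπ hpp
        have h2 : Group.IsSolvable ((primeGen G p).map π) :=
          Group.isSolvable_of_surjective (π.subgroupMap_surjective (primeGen G p))
        exact Group.isSolvable_of_isSolvable_injective (f := Subgroup.inclusion h1)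
          (Subgroup.inclusion_injective h1)
      have hrq : ∀ χ : IrrCharacter (G ⧸ N), (∀ g, (χ.1 g).im = 0) → ¬ p ∣ charDegree χ.1 := by
        intro χ hχ
        have h1 := hreal ⟨fun g => χ.1 (π g), isIrrCharacter_comp_of_surjective π hπ χ.2⟩
          (fun g => hχ _)
        have h2 : charDegree (fun g => χ.1 (π g)) = charDegree χ.1 := by
          simp only [charDegree, map_one]
        simpa only [h2] using h1
      haveI hUq : (U.map π).Normal := Subgroup.Normal.map inferInstance π hπ
      have hKq : primeGen (G ⧸ N) 2 ≤ U.map π :=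
        (le_primeGen_map π hπ Nat.prime_two).trans (Subgroup.map_mono hKU)
      have hUpq : ∀ u ∈ U.map π, ∃ e : ℕ, u ^ (p ^ e) ∈ primeGen (G ⧸ N) 2 := by
        rintro _ ⟨v, hv, rfl⟩
        obtain ⟨e, he⟩ := hUp v hv
        refine ⟨e, ?_⟩
        rw [← map_pow]
        exact primeGen_map_le π Nat.prime_two ⟨_, he, rfl⟩
      have hq := ih (G ⧸ N) p hsq hrq (U.map π) hKq hUpq hcardq
      have hLN : ∀ x ∈ upGen U p, ∃ e : ℕ, x ^ (p ^ e) ∈ N := by
        have hle : (upGen U p).map π ≤ upGen (U.map π) p := by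
          rw [Subgroup.map_le_iff_le_comap, Subgroup.closure_le]
          rintro g ⟨hg, k, hk⟩
          apply Subgroup.subset_closure
          refine ⟨⟨g, hg, rfl⟩, ?_⟩
          have h5 : orderOf (π g) ∣ p ^ k := by
            rw [← hk]
            exact orderOf_map_dvd π g
          obtain ⟨j, _, hj⟩ := (Nat.dvd_prime_pow hpp).1 h5
          exact ⟨j, hj⟩
        intro x hx
        obtain ⟨e, he⟩ := hq ⟨π x, hle ⟨x, hx, rfl⟩⟩
        refine ⟨e, ?_⟩
        have h1 : π (x ^ p ^ e) = 1 := by
          have := congrArg Subtype.val he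
          simpa using this
        exact (QuotientGroup.eq_one_iff _).1 h1
      by_cases hrp : r = p
      · subst hrp
        intro x
        obtain ⟨e, he⟩ := hLN x.1 x.2
        refine ⟨e + 1, ?_⟩
        apply Subtype.ext
        have := hexp _ he
        simp only [Subgroup.coe_pow, Subgroup.coe_one]
        rw [pow_succ, pow_mul]
        exact this
      · exact (real_key_step p hreal U hKU hUp N hN1 hmin r hr hrp hexp hab hNL hLN).elim

/-- Under the hypotheses, a Sylow `p`-subgroup of `U` is normal in `U`. -/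
theorem real_normal_sylow {G : Type u} [Group G] [Finite G] (p : ℕ) [Fact p.Prime]
    (hsolv : Group.IsSolvable (primeGen G p))
    (hreal : ∀ χ : IrrCharacter G, (∀ g, (χ.1 g).im = 0) → ¬ p ∣ charDegree χ.1)
    (U : Subgroup G) [hU : U.Normal] (hKU : primeGen G 2 ≤ U)
    (hUp : ∀ u ∈ U, ∃ e : ℕ, u ^ (p ^ e) ∈ primeGen G 2) (Q : Sylow p U) :
    (Q : Subgroup U).Normal := by
  have hL := real_structure _ G p hsolv hreal U hKU hUp le_rfl
  haveI hLn : (upGen U p).Normal := upGen_normal U p
  have hL' : IsPGroup p ((upGen U p).subgroupOf U) := by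
    intro x
    obtain ⟨e, he⟩ := hL ⟨x.1.1, x.2⟩
    refine ⟨e, ?_⟩
    apply Subtype.ext
    apply Subtype.ext
    have := congrArg Subtype.val he
    simpa using this
  have hle : (Q : Subgroup U) ≤ (upGen U p).subgroupOf U := by
    intro x hx
    obtain ⟨e, he⟩ := Q.2 ⟨x, hx⟩
    have h1 : (x : G) ^ p ^ e = 1 := by
      have := congrArg (fun y : Q.1 => ((y : U) : G)) he
      simpa using this
    have h2 := orderOf_dvd_of_pow_eq_one h1
    obtain ⟨j, _, hj⟩ := (Nat.dvd_prime_pow (Fact.out : p.Prime)).1 h2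
    exact Subgroup.subset_closure ⟨x.2, j, hj⟩
  have h := Q.is_maximal' hL' hle
  rw [← h]
  infer_instance

theorem pow_mem_of_relIndex {G : Type*} [Group G] (K U : Subgroup G) [hK : K.Normal] {p a : ℕ}
    (h : K.relIndex U = p ^ a) : ∀ u ∈ U, ∃ e : ℕ, u ^ (p ^ e) ∈ K := by
  intro u hu
  refine ⟨a, ?_⟩
  have h1 := Subgroup.pow_index_mem (K.subgroupOf U) (⟨u, hu⟩ : U)
  have h2 : (K.subgroupOf U).index = p ^ a := h
  rw [h2] at h1
  exact h1

end Cfsg.Agent.H23
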