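import Cfsg.Agent.Lib.H01.MaxClass3
import Cfsg.Agent.Lib.H23.AcdTwo
import Cfsg.Agent.Lib.H06.CharGalois

/-!
# Groups with a cyclic subgroup of index two: group theory for the field-of-values criterion
-/

set_option autoImplicit false

namespace Cfsg.Agent.H23

open Subgroup
open scoped commutatorElement

section Grp

variable {X : Type*} [Group X]

theorem twoMax_form {c x : X} (hC : (zpowers c).index = 2) (hx : x ∉ zpowers c) (y : X) :
    ∃ i : ℤ, y = c ^ i ∨ y = c ^ i * x := by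
  by_cases hy : y ∈ zpowers c
  · obtain ⟨i, rfl⟩ := mem_zpowers_iff.1 hy
    exact ⟨i, Or.inl rfl⟩
  · have h1 : y * x⁻¹ ∈ zpowers c := by
      rw [mul_mem_iff_of_index_two hC]
      simp [hy, hx]
    obtain ⟨i, hi⟩ := mem_zpowers_iff.1 h1
    exact ⟨i, Or.inr (by rw [hi]; group)⟩

theorem twoMax_commutator_le {c x : X} (hC : (zpowers c).index = 2) (hx : x ∉ zpowers c)
    {D : Subgroup X} [D.Normal] (hD : x * c * x⁻¹ * c⁻¹ ∈ D) : commutator X ≤ D := by
  have hcomm : ∀ a b : X, (a : X ⧸ D) * (b : X ⧸ D) = (b : X ⧸ D) * (a : X ⧸ D) := by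
    have h0 : Commute (x : X ⧸ D) (c : X ⧸ D) := by
      have : ((x * c * x⁻¹ * c⁻¹ : X) : X ⧸ D) = 1 := (QuotientGroup.eq_one_iff _).2 hD
      rw [QuotientGroup.mk_mul, QuotientGroup.mk_mul, QuotientGroup.mk_mul, QuotientGroup.mk_inv,
        QuotientGroup.mk_inv] at this
      have h2 : (x : X ⧸ D) * (c : X ⧸ D) = (c : X ⧸ D) * (x : X ⧸ D) := by
        have h3 := congrArg (fun z => z * (c : X ⧸ D) * (x : X ⧸ D)) this
        simpa [mul_assoc] using h3
      exact h2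
    intro a b
    obtain ⟨i, hi⟩ := twoMax_form hC hx a
    obtain ⟨j, hj⟩ := twoMax_form hC hx b
    have h1 : ∀ i j : ℤ, Commute ((c : X ⧸ D) ^ i) ((c : X ⧸ D) ^ j) := fun i j =>
      (Commute.refl _).zpow_zpow i j
    have h2 : ∀ i : ℤ, Commute ((c : X ⧸ D) ^ i) (x : X ⧸ D) := fun i => (h0.symm).zpow_left i
    rcases hi with rfl | rfl <;> rcases hj with rfl | rfl <;>
      simp only [QuotientGroup.mk_mul, QuotientGroup.mk_zpow]
    · exact h1 i j
    · exact ((h1 i j).mul_right (h2 i)).eq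
    · exact ((h1 i j).mul_left (h2 j).symm).eq
    · exact (((h1 i j).mul_right (h2 i)).mul_left
        (((h2 j).symm).mul_right (Commute.refl _))).eq
  rw [_root_.commutator_def, Subgroup.commutator_le]
  intro a _ b _
  rw [← QuotientGroup.eq_one_iff, commutatorElement_def]
  simp only [QuotientGroup.mk_mul, QuotientGroup.mk_inv]
  rw [hcomm a b]
  group

/-- `x` conjugating `c` to `c ^ k`, with `(zpowers c)` of index two: `c ^ (k * k) = c`. -/
theorem twoMax_pow_sq {c x : X} (hC : (zpowers c).index = 2) {k : ℕ} (hk : x * c * x⁻¹ = c ^ k) :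
    c ^ (k * k) = c := by
  have h1 : x * x ∈ zpowers c := mul_self_mem_of_index_two hC x
  obtain ⟨i, hi⟩ := mem_zpowers_iff.1 h1
  have h2 : x * x * c * (x * x)⁻¹ = c := by
    rw [← hi]
    have : c ^ i * c = c * c ^ i := ((Commute.refl c).zpow_left i).eq
    rw [this]
    group
  have h3 : x * x * c * (x * x)⁻¹ = c ^ (k * k) := by
    have h4 : x * x * c * (x * x)⁻¹ = x * (x * c * x⁻¹) * x⁻¹ := by group
    rw [h4, hk, ← MulAut.conj_apply, map_pow, MulAut.conj_apply, hk, ← pow_mul]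
  rw [← h3, h2]

theorem twoMax_modEq {c x : X} (hC : (zpowers c).index = 2) {k : ℕ} (hk : x * c * x⁻¹ = c ^ k) :
    k * k ≡ 1 [MOD orderOf c] := by
  have h := twoMax_pow_sq hC hk
  rw [← pow_eq_pow_iff_modEq, pow_one]
  exact h

theorem twoMax_odd {c x : X} (hC : (zpowers c).index = 2) {k : ℕ} (hk : x * c * x⁻¹ = c ^ k)
    {a : ℕ} (hc : orderOf c = 2 ^ a) (ha : 1 ≤ a) : k % 2 = 1 := by
  have h := twoMax_modEq hC hk
  rw [hc] at h
  have h2 : k * k ≡ 1 [MOD 2] := h.of_dvd (dvd_pow_self 2 (by omega))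
  rcases Nat.mod_two_eq_zero_or_one k with h0 | h0
  · exfalso
    have h3 : (k * k) % 2 = 0 := by rw [Nat.mul_mod, h0]
    have h4 : (k * k) % 2 = 1 := h2
    omega
  · exact h0

/-- `2 ^ (a - 1)` divides `k + 1` when `k ≡ 3 (mod 4)` and `k ^ 2 ≡ 1 (mod 2 ^ a)`. -/
theorem twoMax_dvd_succ {k a : ℕ} (ha : 1 ≤ a) (hk : k % 4 = 3) (h : k * k ≡ 1 [MOD 2 ^ a]) :
    2 ^ (a - 1) ∣ k + 1 := by
  obtain ⟨m, rfl⟩ : ∃ m, k = 4 * m + 3 := ⟨k / 4, by omega⟩
  have h1 : 2 ^ a ∣ (4 * m + 3) * (4 * m + 3) - 1 := (Nat.modEq_iff_dvd' (by nlinarith)).1 h.symm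
  have h2 : (4 * m + 3) * (4 * m + 3) - 1 = 2 * ((2 * m + 1) * (4 * m + 3 + 1)) := by
    have : (4 * m + 3) * (4 * m + 3) = 2 * ((2 * m + 1) * (4 * m + 3 + 1)) + 1 := by ring
    omega
  rw [h2] at h1
  obtain ⟨b, rfl⟩ : ∃ b, a = b + 1 := ⟨a - 1, by omega⟩
  rw [pow_succ, mul_comm (2 ^ b) 2] at h1
  have h3 : 2 ^ b ∣ (2 * m + 1) * (4 * m + 3 + 1) := Nat.dvd_of_mul_dvd_mul_left (by norm_num) h1
  have h4 : Nat.Coprime (2 ^ b) (2 * m + 1) := by
    apply Nat.Coprime.pow_left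
    rw [Nat.coprime_two_left]
    exact ⟨m, rfl⟩
  simpa using h4.dvd_of_dvd_mul_left h3

/-- Subgroups of a normal cyclic subgroup are normal: powers. -/
theorem twoMax_normal_zpowers_pow {c : X} [hN : (zpowers c).Normal] (d : ℕ) :
    (zpowers (c ^ d)).Normal := by
  refine ⟨fun y hy t => ?_⟩
  obtain ⟨i, rfl⟩ := mem_zpowers_iff.1 hy
  obtain ⟨j, hj⟩ := mem_zpowers_iff.1 (hN.conj_mem c (mem_zpowers c) t)
  have h1 : t * (c ^ d) ^ i * t⁻¹ = (t * c * t⁻¹) ^ ((d : ℤ) * i) := by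
    rw [← MulAut.conj_apply, map_zpow, MulAut.conj_apply, zpow_mul, zpow_natCast, ← MulAut.conj_apply,
      ← MulAut.conj_apply, map_pow]
  rw [h1, ← hj, ← zpow_mul]
  refine mem_zpowers_iff.2 ⟨j * i, ?_⟩
  rw [← zpow_natCast c d, ← zpow_mul]
  congr 1
  ring

theorem twoMax_card_zpowers_pow {c : X} {a b : ℕ} (hc : orderOf c = 2 ^ a) (hb : b ≤ a) :
    Nat.card (zpowers (c ^ (2 ^ b))) = 2 ^ (a - b) := by
  rw [Nat.card_zpowers, orderOf_pow_of_dvd (by positivity) (by rw [hc]; exact pow_dvd_pow 2 hb), hc,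
    Nat.pow_div hb (by norm_num)]

theorem twoMax_card_top [Finite X] {c : X} {a : ℕ} (hc : orderOf c = 2 ^ a)
    (hC : (zpowers c).index = 2) : Nat.card X = 2 ^ (a + 1) := by
  have := (zpowers c).card_mul_index
  rw [Nat.card_zpowers, hc, hC] at this
  rw [← this, pow_succ]

theorem twoMax_index_pow [Finite X] {c : X} {a b : ℕ} (hc : orderOf c = 2 ^ a)
    (hC : (zpowers c).index = 2) (hb : b ≤ a) : (zpowers (c ^ (2 ^ b))).index = 2 ^ (b + 1) := by
  have h1 := (zpowers (c ^ (2 ^ b))).card_mul_index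
  rw [twoMax_card_zpowers_pow hc hb, twoMax_card_top hc hC] at h1
  have h2 : 2 ^ (a + 1) = 2 ^ (a - b) * 2 ^ (b + 1) := by
    rw [← pow_add]; congr 1; omega
  rw [h2] at h1
  exact Nat.eq_of_mul_eq_mul_left (by positivity) h1

/-- `k ≡ 3 (mod 4)` when the abelianization has order four. -/
theorem twoMax_mod_four [Finite X] {c x : X} {a : ℕ} (hc : orderOf c = 2 ^ a) (ha : 2 ≤ a)
    (hC : (zpowers c).index = 2) (hx : x ∉ zpowers c) {k : ℕ} (hk : x * c * x⁻¹ = c ^ k)
    (h4 : (commutator X).index = 4) : k % 4 = 3 := by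
  have hodd := twoMax_odd hC hk hc (by omega)
  by_contra hne
  have h1 : k % 4 = 1 := by omega
  have hN : (zpowers c).Normal := normal_of_index_eq_two hC
  have : (zpowers (c ^ (2 ^ 2))).Normal := twoMax_normal_zpowers_pow _
  obtain ⟨m, rfl⟩ : ∃ m, k = 4 * m + 1 := ⟨k / 4, by omega⟩
  have h2 : x * c * x⁻¹ * c⁻¹ ∈ zpowers (c ^ (2 ^ 2)) := by
    rw [hk, pow_succ c (4 * m), mul_inv_cancel_right]
    refine mem_zpowers_iff.2 ⟨m, ?_⟩
    rw [zpow_natCast, ← pow_mul]
    norm_num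
  have h3 := twoMax_commutator_le hC hx h2
  have h5 := index_dvd_of_le h3
  rw [h4, twoMax_index_pow hc hC (b := 2) ha] at h5
  norm_num at h5

/-- Conversely `k ≡ 3 (mod 4)` gives abelianization of order four. -/
theorem twoMax_index_four [Finite X] {c x : X} {a : ℕ} (hc : orderOf c = 2 ^ a) (ha : 2 ≤ a)
    (hC : (zpowers c).index = 2) (hx : x ∉ zpowers c) {k : ℕ} (hk : x * c * x⁻¹ = c ^ k)
    (h3 : k % 4 = 3) : (commutator X).index = 4 := by
  have hN : (zpowers c).Normal := normal_of_index_eq_two hC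
  have : (zpowers (c ^ (2 ^ 1))).Normal := twoMax_normal_zpowers_pow _
  obtain ⟨m, rfl⟩ : ∃ m, k = 4 * m + 3 := ⟨k / 4, by omega⟩
  have hcx : x * c * x⁻¹ * c⁻¹ = c ^ (2 * (2 * m + 1)) := by
    rw [hk, show 4 * m + 3 = 2 * (2 * m + 1) + 1 by ring, pow_succ, mul_inv_cancel_right]
  have h2 : x * c * x⁻¹ * c⁻¹ ∈ zpowers (c ^ (2 ^ 1)) := by
    rw [hcx]
    refine mem_zpowers_iff.2 ⟨(2 * m + 1 : ℕ), ?_⟩
    rw [zpow_natCast, ← pow_mul]
    norm_num
  have h4 := twoMax_commutator_le hC hx h2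
  -- the commutator contains `c ^ (2 * (2 m + 1))`
  have h5 : c ^ (2 * (2 * m + 1)) ∈ commutator X := by
    rw [← hcx]
    have : x * c * x⁻¹ * c⁻¹ = (x * c * x⁻¹ * c⁻¹ : X) := rfl
    rw [_root_.commutator_def]
    exact commutator_mem_commutator (mem_top x) (mem_top c)
  have h6 : zpowers (c ^ (2 * (2 * m + 1))) ≤ commutator X := by
    rw [zpowers_le]; exact h5
  have hcard1 : Nat.card (zpowers (c ^ (2 * (2 * m + 1)))) = 2 ^ (a - 1) := by
    rw [Nat.card_zpowers, pow_mul]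
    have h7 : Nat.Coprime (2 * m + 1) (orderOf (c ^ 2)) := by
      have h8 : orderOf (c ^ 2) = 2 ^ (a - 1) := by
        have := twoMax_card_zpowers_pow hc (b := 1) (by omega)
        rwa [Nat.card_zpowers, pow_one] at this
      rw [h8]
      apply Nat.Coprime.pow_right
      rw [Nat.coprime_two_right]
      exact ⟨m, rfl⟩
    rw [Nat.Coprime.orderOf_pow h7.symm]
    have := twoMax_card_zpowers_pow hc (b := 1) (by omega)
    rwa [Nat.card_zpowers, pow_one] at this
  have heq : commutator X = zpowers (c ^ (2 ^ 1)) := by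
    apply Subgroup.eq_of_le_of_card_ge h4
    rw [twoMax_card_zpowers_pow hc (by omega), ← hcard1]
    exact Subgroup.card_le_of_le h6
  rw [heq, twoMax_index_pow hc hC (by omega)]
  norm_num

end Grp

section Syl

variable {G : Type*} [Group G] [Finite G]

theorem twoMax_index_ker (g : G) {a : ℕ} (hg : orderOf g = 2 ^ a) :
    ∃ b, ((zpowers g).normalizerMonoidHom).ker.index = 2 ^ b := by
  have h1 : ((zpowers g).normalizerMonoidHom).ker.index ∣ Nat.totient (2 ^ a) := by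
    rw [Subgroup.index_ker, ← hg, ← Nat.card_zpowers, ← IsCyclic.card_mulAut]
    exact Subgroup.card_subgroup_dvd_card _
  have h2 : Nat.totient (2 ^ a) ∣ 2 ^ a := by
    rcases Nat.eq_zero_or_pos a with rfl | ha
    · simp
    · rw [Nat.totient_prime_pow Nat.prime_two ha]
      simpa using pow_dvd_pow 2 (Nat.sub_le a 1)
  obtain ⟨b, -, hb⟩ := (Nat.dvd_prime_pow Nat.prime_two).1 (h1.trans h2)
  exact ⟨b, hb⟩

theorem twoMax_conj (P : Sylow 2 G) (g : G) {a : ℕ} (hg : orderOf g = 2 ^ a)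
    (hP : (P : Subgroup G) ≤ normalizer (zpowers g : Set G)) {t : G}
    (ht : t ∈ normalizer (zpowers g : Set G)) :
    ∃ y ∈ (P : Subgroup G), t * g * t⁻¹ = y * g * y⁻¹ := by
  haveI : Fact (Nat.Prime 2) := ⟨Nat.prime_two⟩
  set N := normalizer (zpowers g : Set G) with hN
  let φ := (zpowers g).normalizerMonoidHom
  let P' : Subgroup N := (P : Subgroup G).subgroupOf N
  let K : Subgroup N := (P'.map φ).comap φ
  have hPK : P' ≤ K := Subgroup.le_comap_map φ P'
  have hkerK : φ.ker ≤ K := by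
    intro z hz
    rw [Subgroup.mem_comap, MonoidHom.mem_ker.1 hz]
    exact one_mem _
  obtain ⟨b, hb⟩ := twoMax_index_ker g hg
  have h1 : K.index ∣ 2 ^ b := by
    rw [← hb]; exact index_dvd_of_le hkerK
  have h2 : K.index ∣ (P : Subgroup G).index := by
    refine (index_dvd_of_le hPK).trans ?_
    exact relIndex_dvd_index_of_le hP
  have hK : K.index = 1 := by
    obtain ⟨j, -, hj⟩ := (Nat.dvd_prime_pow Nat.prime_two).1 h1
    rcases Nat.eq_zero_or_pos j with rfl | hj0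
    · simpa using hj
    · exfalso
      apply P.not_dvd_index
      refine dvd_trans ?_ h2
      rw [hj]
      exact dvd_pow_self 2 hj0.ne'
  have hK' : K = ⊤ := index_eq_one.1 hK
  have ht' : (⟨t, ht⟩ : N) ∈ K := by rw [hK']; exact mem_top _
  obtain ⟨y, hy, hyt⟩ := Subgroup.mem_map.1 (Subgroup.mem_comap.1 ht')
  refine ⟨y, hy, ?_⟩
  have h3 := congrArg (fun f : MulAut (zpowers g) => ((f ⟨g, mem_zpowers g⟩ : zpowers g) : G)) hyt
  exact h3.symm

theorem twoMax_conj_zpow {z g : G} (hz : z * g * z⁻¹ = g) (i : ℤ) : z * g ^ i * z⁻¹ = g ^ i := by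
  rw [← MulAut.conj_apply, map_zpow, MulAut.conj_apply, hz]

theorem twoMax_centralizer_le (g : G) :
    centralizer ({g} : Set G) ≤ normalizer (zpowers g : Set G) := by
  intro z hz
  have h0 : z * g * z⁻¹ = g := by
    rw [mem_centralizer_singleton_iff] at hz
    rw [mul_inv_eq_iff_eq_mul]; exact hz
  rw [mem_normalizer_iff]
  intro h
  constructor
  · intro hh
    obtain ⟨i, rfl⟩ := mem_zpowers_iff.1 hh
    rw [twoMax_conj_zpow h0]
    exact hh
  · intro hh
    obtain ⟨i, hi⟩ := mem_zpowers_iff.1 hh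
    have h1 : h = g ^ i := by
      have h2 : z⁻¹ * g * z = g := by
        have : z⁻¹ * (z * g * z⁻¹) * z = z⁻¹ * g * z := by rw [h0]
        rw [← this]; group
      have h3 := twoMax_conj_zpow (z := z⁻¹) (g := g) (by simpa using h2) i
      rw [hi] at h3
      have h4 : z⁻¹ * (z * h * z⁻¹) * z⁻¹⁻¹ = h := by group
      rw [hi]
      exact h4.symm.trans h3
    rw [h1]
    exact zpow_mem (mem_zpowers g) i

theorem twoMax_even (g : G) {a : ℕ} (hg : orderOf g = 2 ^ a) {x : G}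
    (hx : x ∈ normalizer (zpowers g : Set G)) (hxg : x * g * x⁻¹ ≠ g) :
    2 ∣ (centralizer ({g} : Set G)).index := by
  set N := normalizer (zpowers g : Set G) with hN
  let φ := (zpowers g).normalizerMonoidHom
  obtain ⟨b, hb⟩ := twoMax_index_ker g hg
  have h1 : ((centralizer ({g} : Set G))).subgroupOf N ≤ φ.ker := by
    intro z hz
    rw [Subgroup.mem_subgroupOf, mem_centralizer_singleton_iff] at hz
    have h0 : (z : G) * g * (z : G)⁻¹ = g := by
      rw [mul_inv_eq_iff_eq_mul]; exact hz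
    rw [MonoidHom.mem_ker]
    ext ⟨h, hh⟩
    obtain ⟨i, rfl⟩ := mem_zpowers_iff.1 hh
    exact twoMax_conj_zpow h0 i
  have hb' : φ.ker.index ≠ 1 := by
    intro h4
    have h5 : φ.ker = ⊤ := index_eq_one.1 h4
    have h6 : (⟨x, hx⟩ : N) ∈ φ.ker := by rw [h5]; exact mem_top _
    have h2 := congrArg (fun f : MulAut (zpowers g) => ((f ⟨g, mem_zpowers g⟩ : zpowers g) : G))
      (MonoidHom.mem_ker.1 h6)
    exact hxg h2
  have hb0 : b ≠ 0 := by
    rintro rfl
    exact hb' (by simpa using hb)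
  have h7 : (2:ℕ) ∣ φ.ker.index := by rw [hb]; exact dvd_pow_self 2 hb0
  exact h7.trans ((index_dvd_of_le h1).trans (relIndex_dvd_index_of_le (twoMax_centralizer_le g)))

/-- An element conjugating `g` into `zpowers g` normalizes it. -/
theorem twoMax_mem_normalizer {s g : G} (h : s * g * s⁻¹ ∈ zpowers g) :
    s ∈ normalizer (zpowers g : Set G) := by
  have hle : zpowers (s * g * s⁻¹) ≤ zpowers g := by rwa [zpowers_le]
  have hcard : Nat.card (zpowers (s * g * s⁻¹)) = Nat.card (zpowers g) := by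
    rw [Nat.card_zpowers, Nat.card_zpowers, ← MulAut.conj_apply, MulEquiv.orderOf_eq]
  have heq : zpowers (s * g * s⁻¹) = zpowers g := Subgroup.eq_of_le_of_card_ge hle hcard.ge
  have hconj : ∀ i : ℤ, s * g ^ i * s⁻¹ = (s * g * s⁻¹) ^ i := by
    intro i
    rw [← MulAut.conj_apply, map_zpow, MulAut.conj_apply]
  rw [mem_normalizer_iff]
  intro y
  constructor
  · intro hy
    obtain ⟨i, rfl⟩ := mem_zpowers_iff.1 hy
    rw [hconj]
    exact zpow_mem h i
  · intro hy
    rw [← heq] at hy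
    obtain ⟨i, hi⟩ := mem_zpowers_iff.1 hy
    rw [← hconj] at hi
    have : g ^ i = y := by
      have h2 := congrArg (fun z => s⁻¹ * z * s) hi
      simpa [mul_assoc] using h2
    rw [← this]
    exact zpow_mem (mem_zpowers g) i

end Syl

section Chars

open Cfsg Cfsg.Agent.H21 IntermediateField

variable {G : Type*} [Group G] [Finite G]

/-- The field of character values at `g`. -/
noncomputable abbrev valField (g : G) : IntermediateField ℚ ℂ :=
  IntermediateField.adjoin ℚ {z : ℂ | ∃ χ : Cfsg.IrrCharacter G, (χ : G → ℂ) g = z}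

theorem character_mem_valField {ψ : G → ℂ} (hψ : IsCharacter G ψ) (g : G) : ψ g ∈ valField g := by
  classical
  haveI : Fintype G := Fintype.ofFinite G
  haveI : Fintype (Cfsg.IrrCharacter G) := Fintype.ofFinite _
  obtain ⟨m, hm, -⟩ := isCharacter_decomp hψ
  rw [hm, Finset.sum_apply]
  refine sum_mem fun χ _ => ?_
  rw [Pi.smul_apply, nsmul_eq_mul]
  exact mul_mem (_root_.natCast_mem _ _) (subset_adjoin _ _ ⟨χ, rfl⟩)

theorem twoMax_pieceB (P : Sylow 2 G) {g : G} {a : ℕ} (hg : orderOf g = 2 ^ a) {x : G} {k : ℕ}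
    (hx : x * g * x⁻¹ = g ^ k) (hsq : g ^ (k * k) = g)
    (hcases : ∀ y ∈ (P : Subgroup G), y * g * y⁻¹ = g ∨ y * g * y⁻¹ = g ^ k)
    {ζ : ℂ} (hζ : ζ ^ (2 ^ a) = 1) : ζ + ζ ^ k ∈ valField g := by
  classical
  haveI : Fintype G := Fintype.ofFinite G
  have hζ0 : ζ ≠ 0 := by
    rintro rfl
    rw [zero_pow (by positivity)] at hζ
    exact zero_ne_one hζ
  have hP : (P : Subgroup G) ≤ normalizer (zpowers g : Set G) := by
    intro y hy
    apply twoMax_mem_normalizer
    rcases hcases y hy with h | h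
    · rw [h]; exact mem_zpowers g
    · rw [h]; exact pow_mem (mem_zpowers g) k
  have hxN : x ∈ normalizer (zpowers g : Set G) := by
    apply twoMax_mem_normalizer
    rw [hx]; exact pow_mem (mem_zpowers g) k
  let g₀ : zpowers g := ⟨g, mem_zpowers g⟩
  have hg₀ : ∀ y : zpowers g, y ∈ zpowers g₀ := by
    rintro ⟨y, hy⟩
    obtain ⟨i, rfl⟩ := mem_zpowers_iff.1 hy
    refine mem_zpowers_iff.2 ⟨i, ?_⟩
    ext
    simp [g₀]
  have hord : orderOf (Units.mk0 ζ hζ0) ∣ orderOf g₀ := by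
    have h1 : orderOf g₀ = 2 ^ a := by
      rw [← hg]; exact Subgroup.orderOf_mk g _
    rw [h1, orderOf_dvd_iff_pow_eq_one]
    ext
    simpa using hζ
  let ω : zpowers g →* ℂˣ := monoidHomOfForallMemZpowers hg₀ hord
  have hω : ω g₀ = Units.mk0 ζ hζ0 := monoidHomOfForallMemZpowers_apply_gen hg₀ hord
  let θ : zpowers g → ℂ := fun v => (ω v : ℂ)
  have hθ : IsCharacter (zpowers g) θ := isCharacter_hom ω
  have hval : ∀ i : ℕ, extendByZero (zpowers g) θ (g ^ i) = ζ ^ i := by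
    intro i
    have h1 : (g ^ i : G) = ((g₀ ^ i : zpowers g) : G) := by simp [g₀]
    rw [h1, extendByZero_coe]
    show ((ω (g₀ ^ i) : ℂˣ) : ℂ) = _
    rw [map_pow, hω]
    simp
  have hval1 : extendByZero (zpowers g) θ g = ζ := by
    simpa using hval 1
  set f : G → ℂ := fun t => extendByZero (zpowers g) θ (t⁻¹ * g * t) with hf
  have hpt : ∀ t : G, f t + f (t * x⁻¹) = if t⁻¹ * g * t ∈ zpowers g then ζ + ζ ^ k else 0 := by
    intro t
    have h1 : (t * x⁻¹)⁻¹ * g * (t * x⁻¹) = x * (t⁻¹ * g * t) * x⁻¹ := by group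
    simp only [hf, h1]
    split_ifs with hc
    · have h2 : t⁻¹ ∈ normalizer (zpowers g : Set G) := by
        apply twoMax_mem_normalizer
        simpa using hc
      obtain ⟨y, hy, hy2⟩ := twoMax_conj P g hg hP h2
      rw [inv_inv] at hy2
      rcases hcases y hy with h3 | h3
      · rw [hy2, h3, hx, hval1, hval]
      · rw [hy2, h3, hval]
        have h4 : x * g ^ k * x⁻¹ = g := by
          rw [← MulAut.conj_apply, map_pow, MulAut.conj_apply, hx, ← pow_mul, hsq]
        rw [h4, hval1, add_comm]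
    · rw [extendByZero_of_not_mem _ _ hc, extendByZero_of_not_mem, zero_add]
      intro h5
      exact hc ((mem_normalizer_iff.1 hxN _).2 h5)
  have hsum : (2 : ℂ) * ∑ t, f t = (Finset.univ.filter fun t => t⁻¹ * g * t ∈ zpowers g).card •
      (ζ + ζ ^ k) := by
    have h1 : ∑ t, f (t * x⁻¹) = ∑ t, f t := Equiv.sum_comp (Equiv.mulRight x⁻¹) f
    have h2 : ∑ t, (f t + f (t * x⁻¹)) = 2 * ∑ t, f t := by
      rw [Finset.sum_add_distrib, h1]; ring
    rw [← h2, Finset.sum_congr rfl fun t _ => hpt t, Finset.sum_ite, Finset.sum_const_zero,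
      add_zero, Finset.sum_const]
  have hψ : IsCharacter G (indFun (zpowers g) θ) := isCharacter_indFun _ hθ
  have hmem := character_mem_valField hψ g
  have hind : indFun (zpowers g) θ g = (Nat.card (zpowers g) : ℂ)⁻¹ * ∑ t, f t := rfl
  have hcount : ((Finset.univ.filter fun t => t⁻¹ * g * t ∈ zpowers g).card : ℂ) ≠ 0 := by
    rw [Nat.cast_ne_zero, Finset.card_ne_zero]
    exact ⟨1, by simp [mem_zpowers]⟩
  have hm : (Nat.card (zpowers g) : ℂ) ≠ 0 := by
    rw [Nat.cast_ne_zero]; exact Nat.card_pos.ne'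
  have h9 : ζ + ζ ^ k = (2 * (Nat.card (zpowers g) : ℂ) *
      ((Finset.univ.filter fun t => t⁻¹ * g * t ∈ zpowers g).card : ℂ)⁻¹) *
      indFun (zpowers g) θ g := by
    rw [nsmul_eq_mul] at hsum
    rw [hind]
    field_simp
    rw [mul_comm, ← hsum]
  rw [h9]
  refine mul_mem (mul_mem (mul_mem ?_ (_root_.natCast_mem _ _)) (inv_mem (_root_.natCast_mem _ _))) hmem
  exact_mod_cast _root_.natCast_mem (valField g) 2

theorem twoMax_lucas (F : IntermediateField ℚ ℂ) {a b : ℂ} (h1 : a + b ∈ F) (h2 : a * b ∈ F) :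
    ∀ e : ℕ, a ^ e + b ^ e ∈ F := by
  have key : ∀ e : ℕ, a ^ e + b ^ e ∈ F ∧ a ^ (e + 1) + b ^ (e + 1) ∈ F := by
    intro e
    induction e with
    | zero =>
      constructor
      · simp only [pow_zero]
        exact_mod_cast _root_.natCast_mem F 2
      · simpa using h1
    | succ e ih =>
      refine ⟨ih.2, ?_⟩
      have h3 : a ^ (e + 1 + 1) + b ^ (e + 1 + 1) =
          (a + b) * (a ^ (e + 1) + b ^ (e + 1)) - (a * b) * (a ^ e + b ^ e) := by ring
      rw [h3]
      exact sub_mem (mul_mem h1 ih.2) (mul_mem h2 ih.1)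
  exact fun e => (key e).1

theorem twoMax_pieceC {χ : G → ℂ} (hχ : IsCharacter G χ) {g x : G} {a k : ℕ}
    (hg : orderOf g = 2 ^ a) (hx : x * g * x⁻¹ = g ^ k) {ζ : ℂ} (hζ : IsPrimitiveRoot ζ (2 ^ a))
    (F : IntermediateField ℚ ℂ) (h1 : ζ + ζ ^ k ∈ F) (h2 : ζ * ζ ^ k ∈ F) : χ g ∈ F := by
  classical
  haveI : Fintype G := Fintype.ofFinite G
  haveI : Fintype (Cfsg.IrrCharacter G) := Fintype.ofFinite _
  have hcl : χ (g ^ k) = χ g := by
    rw [← hx]
    have := isClassFunction_of_isCharacter hχ g x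
    simpa using this
  obtain ⟨d, ρ, rfl⟩ := hχ
  obtain ⟨ι, _, b, μ, hb, hμ, h3, -⟩ := exists_eigenbasis ρ g
  haveI : NeZero (2 ^ a) := ⟨by positivity⟩
  have hμ' : ∀ i, ∃ e, ζ ^ e = μ i := by
    intro i
    have h4 : μ i ^ (2 ^ a) = 1 := by rw [← hg]; exact hμ i
    obtain ⟨e, -, he⟩ := hζ.eq_pow_of_pow_eq_one h4
    exact ⟨e, he⟩
  choose e he using hμ'
  have hpow : ∀ i, ρ (g ^ k) (b i) = μ i ^ k • b i := by
    intro i
    rw [map_pow]
    have : ∀ m : ℕ, ((ρ g) ^ m) (b i) = μ i ^ m • b i := by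
      intro m
      induction m with
      | zero => simp
      | succ m ih => rw [pow_succ, Module.End.mul_apply, hb, map_smul, ih, smul_smul, pow_succ, mul_comm]
    exact this k
  have h5 : ρ.character (g ^ k) = ∑ i, μ i ^ k := by
    rw [Representation.character, trace_of_eigenbasis _ b _ hpow]
  have h6 : ρ.character g = ∑ i, μ i := by
    rw [Representation.character, h3]
  have h7 : (2 : ℂ) * ρ.character g = ∑ i, (ζ ^ e i + (ζ ^ k) ^ e i) := by
    rw [Finset.sum_add_distrib, two_mul]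
    nth_rw 2 [← hcl]
    rw [h5, h6]
    congr 1
    · exact Finset.sum_congr rfl fun i _ => (he i).symm
    · refine Finset.sum_congr rfl fun i _ => ?_
      rw [← he i, ← pow_mul, ← pow_mul, mul_comm]
  have h8 : ρ.character g = (2 : ℂ)⁻¹ * ((2 : ℂ) * ρ.character g) := by
    rw [inv_mul_cancel_left₀ (two_ne_zero)]
  rw [h8, h7]
  refine mul_mem (inv_mem ?_) (sum_mem fun i _ => twoMax_lucas F h1 h2 (e i))
  exact_mod_cast _root_.natCast_mem F 2

theorem twoMax_tau_char {τ : ℂ →+* ℂ} {r : ℕ} (hτ : ∀ μ : ℂ, μ ^ Nat.card G = 1 → τ μ = μ ^ r)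
    {χ : G → ℂ} (hχ : IsCharacter G χ) (g : G) : τ (χ g) = χ (g ^ r) := by
  obtain ⟨d, ρ, rfl⟩ := hχ
  obtain ⟨ι, _, b, μ, h1, h2, h3, -⟩ := exists_eigenbasis ρ g
  have hμ : ∀ i, μ i ^ Nat.card G = 1 := by
    intro i
    obtain ⟨c, hc⟩ := orderOf_dvd_natCard g
    rw [hc, pow_mul, h2, one_pow]
  have hpow : ∀ i, ρ (g ^ r) (b i) = μ i ^ r • b i := by
    intro i
    rw [map_pow]
    have : ∀ m : ℕ, ((ρ g) ^ m) (b i) = μ i ^ m • b i := by
      intro m
      induction m with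
      | zero => simp
      | succ m ih => rw [pow_succ, Module.End.mul_apply, h1, map_smul, ih, smul_smul, pow_succ, mul_comm]
    exact this r
  simp only [Representation.character]
  rw [h3, map_sum, trace_of_eigenbasis _ b _ hpow]
  exact Finset.sum_congr rfl fun i _ => hτ _ (hμ i)

theorem twoMax_tau_fix {τ : ℂ →+* ℂ} {r : ℕ} (hτ : ∀ μ : ℂ, μ ^ Nat.card G = 1 → τ μ = μ ^ r)
    {g : G} (hfix : ∀ χ : Cfsg.IrrCharacter G, (χ : G → ℂ) (g ^ r) = (χ : G → ℂ) g) :
    ∀ z ∈ valField g, τ z = z := by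
  intro z hz
  induction hz using IntermediateField.adjoin_induction with
  | mem x hx =>
    obtain ⟨χ, rfl⟩ := hx
    rw [twoMax_tau_char hτ (isCharacter_of_irr χ.2) g, hfix]
  | algebraMap q => simp
  | add x y _ _ hx hy => rw [map_add, hx, hy]
  | inv x _ hx => rw [map_inv₀, hx]
  | mul x y _ _ hx hy => rw [map_mul, hx, hy]

theorem twoMax_neg_one {ζ : ℂ} {a : ℕ} (ha : 1 ≤ a) (hζ : IsPrimitiveRoot ζ (2 ^ a)) :
    ζ ^ (2 ^ (a - 1)) = -1 := by
  have h1 : ζ ^ (2 ^ (a - 1)) * ζ ^ (2 ^ (a - 1)) = 1 := by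
    rw [← pow_add, ← two_mul, ← pow_succ', show a - 1 + 1 = a by omega, hζ.pow_eq_one]
  rcases mul_self_eq_one_iff.1 h1 with h | h
  · exfalso
    have h2 : 2 ^ a ∣ 2 ^ (a - 1) := hζ.dvd_of_pow_eq_one _ h
    have h3 := (Nat.pow_dvd_pow_iff_le_right (by norm_num : 1 < 2)).1 h2
    omega
  · exact h

theorem twoMax_forward (P : Sylow 2 G) {n : ℕ} (hn : 3 ≤ n) (hP : Nat.card P = 2 ^ n) {ζ : ℂ}
    (hζ : IsPrimitiveRoot ζ (2 ^ (n - 1))) (h4 : (commutator ↥P).index = 4) :
    ∃ g : G, g ∈ (P : Subgroup G) ∧ 2 ∣ (centralizer ({g} : Set G)).index ∧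
      (valField g = adjoin ℚ ({ζ + ζ⁻¹} : Set ℂ) ∨ valField g = adjoin ℚ ({ζ - ζ⁻¹} : Set ℂ)) := by
  classical
  obtain ⟨⟨C, hcyc, hidx⟩, -, -⟩ := H01.maxclass_main n hn ↥P hP h4
  obtain ⟨c₀, hc₀⟩ := hcyc.exists_generator
  obtain ⟨c, hc⟩ : ∃ c : ↥P, c = (c₀ : ↥P) := ⟨_, rfl⟩
  have hCc : C = zpowers c := by
    apply le_antisymm
    · intro y hy
      obtain ⟨i, hi⟩ := mem_zpowers_iff.1 (hc₀ ⟨y, hy⟩)
      refine mem_zpowers_iff.2 ⟨i, ?_⟩
      have := congrArg Subtype.val hi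
      rw [hc]
      simpa using this
    · rw [zpowers_le, hc]; exact c₀.2
  subst hCc
  obtain ⟨a, ha⟩ : ∃ a, a = n - 1 := ⟨_, rfl⟩
  have hn' : n = a + 1 := by omega
  have hord : orderOf c = 2 ^ a := by
    have h1 := (zpowers c).card_mul_index
    rw [Nat.card_zpowers, hidx, show Nat.card ↥P = 2 ^ n from hP, hn', pow_succ] at h1
    exact Nat.eq_of_mul_eq_mul_right (by norm_num) h1
  rw [← ha] at hζ
  obtain ⟨x, hx⟩ : ∃ x, x ∉ zpowers c := by
    by_contra hcon
    push Not at hcon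
    have : zpowers c = ⊤ := eq_top_iff.2 fun y _ => hcon y
    rw [this, index_top] at hidx
    omega
  have hN : (zpowers c).Normal := normal_of_index_eq_two hidx
  have hk0 := hN.conj_mem c (mem_zpowers c) x
  rw [← mem_powers_iff_mem_zpowers] at hk0
  obtain ⟨k, hk⟩ := hk0
  have hk' : x * c * x⁻¹ = c ^ k := hk.symm
  have hk3 := twoMax_mod_four hord (by omega) hidx hx hk' h4
  have hmod := twoMax_modEq hidx hk'
  rw [hord] at hmod
  have hdvd := twoMax_dvd_succ (by omega) hk3 hmod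
  have hsq := twoMax_pow_sq hidx hk'
  refine ⟨(c : G), c.2, ?_⟩
  have hg : orderOf (c : G) = 2 ^ a := by rw [Subgroup.orderOf_coe, hord]
  have hxG : (x : G) * (c : G) * (x : G)⁻¹ = (c : G) ^ k := by
    have := congrArg Subtype.val hk'
    simpa using this
  have hsqG : (c : G) ^ (k * k) = (c : G) := by
    have := congrArg Subtype.val hsq
    simpa using this
  have hcases : ∀ y ∈ (P : Subgroup G), y * (c : G) * y⁻¹ = (c : G) ∨
      y * (c : G) * y⁻¹ = (c : G) ^ k := by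
    intro y hy
    obtain ⟨i, hi⟩ := twoMax_form hidx hx (⟨y, hy⟩ : ↥P)
    have hcomm : c ^ i * c * (c ^ i)⁻¹ = c := by
      rw [((Commute.refl c).zpow_left i).eq]; group
    rcases hi with hi | hi
    · left
      have h1 : (⟨y, hy⟩ : ↥P) * c * (⟨y, hy⟩ : ↥P)⁻¹ = c := by rw [hi, hcomm]
      have := congrArg Subtype.val h1
      simpa using this
    · right
      have h1 : (⟨y, hy⟩ : ↥P) * c * (⟨y, hy⟩ : ↥P)⁻¹ = c ^ k := by
        rw [hi]
        have h2 : c ^ i * x * c * (c ^ i * x)⁻¹ = c ^ i * (x * c * x⁻¹) * (c ^ i)⁻¹ := by group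
        rw [h2, hk', (((Commute.refl c).zpow_left i).pow_right k).eq]
        group
      have := congrArg Subtype.val h1
      simpa using this
  constructor
  · apply twoMax_even (c : G) hg (x := (x : G))
    · apply twoMax_mem_normalizer
      rw [hxG]; exact pow_mem (mem_zpowers _) k
    · intro heq
      rw [hxG] at heq
      -- `c ^ k = c` is impossible as `k ≡ 3 (mod 4)`
      have h1 : (c : G) ^ k = (c : G) ^ 1 := by rw [heq, pow_one]
      rw [pow_eq_pow_iff_modEq, hg] at h1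
      have h2 : k ≡ 1 [MOD 4] := h1.of_dvd (by
        calc 4 = 2 ^ 2 := by norm_num
          _ ∣ 2 ^ a := pow_dvd_pow 2 (by omega))
      have h3 : k % 4 = 1 := h2
      omega
  · obtain ⟨w, hw⟩ := hdvd
    have hminus := twoMax_neg_one (by omega) hζ
    have hprod : ζ ^ k * ζ = (-1) ^ w := by
      rw [← pow_succ, hw, pow_mul, hminus]
    have hcomm : ζ * ζ ^ k = (-1) ^ w := by rw [mul_comm, hprod]
    have hF : ∀ F : IntermediateField ℚ ℂ, ζ + ζ ^ k ∈ F → valField (c : G) ≤ F := by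
      intro F h1
      rw [IntermediateField.adjoin_le_iff]
      rintro _ ⟨χ, rfl⟩
      refine twoMax_pieceC (isCharacter_of_irr χ.2) hg hxG hζ F h1 ?_
      rw [hcomm]
      refine pow_mem ?_ w
      refine neg_mem (one_mem F)
    have hEq : valField (c : G) = adjoin ℚ ({ζ + ζ ^ k} : Set ℂ) := by
      apply le_antisymm
      · exact hF _ (mem_adjoin_simple_self _ _)
      · rw [IntermediateField.adjoin_le_iff]
        rintro _ rfl
        exact twoMax_pieceB P hg hxG hsqG hcases (by rw [hζ.pow_eq_one])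
    have hζ0 : ζ ≠ 0 := hζ.ne_zero (by positivity)
    rcases Nat.even_or_odd w with he | ho
    · left
      rw [he.neg_one_pow] at hprod
      have h1 : ζ ^ k = ζ⁻¹ := eq_inv_of_mul_eq_one_left hprod
      rw [hEq, h1]
    · right
      rw [ho.neg_one_pow] at hprod
      have h1 : ζ ^ k = -ζ⁻¹ := by
        field_simp
        linear_combination hprod
      rw [hEq, h1, sub_eq_add_neg]

theorem twoMax_backward (P : Sylow 2 G) {n : ℕ} (hn : 4 ≤ n) (hP : Nat.card P = 2 ^ n) {ζ : ℂ}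
    (hζ : IsPrimitiveRoot ζ (2 ^ (n - 1))) {g : G} (hgP : g ∈ (P : Subgroup G))
    (hnc : ∃ a b : ↥P, a * b ≠ b * a) {s : ℂ} (hs : s = 1 ∨ s = -1)
    (hE : valField g = adjoin ℚ ({ζ + s * ζ⁻¹} : Set ℂ)) : (commutator ↥P).index = 4 := by
  classical
  obtain ⟨a, ha⟩ : ∃ a, a = n - 1 := ⟨_, rfl⟩
  have hn' : n = a + 1 := by omega
  rw [← ha] at hζ
  have hζ0 : ζ ≠ 0 := hζ.ne_zero (by positivity)
  obtain ⟨e, w, hw, hcard⟩ := Nat.exists_eq_pow_mul_and_not_dvd
    (Nat.card_pos.ne' : Nat.card G ≠ 0) 2 (by norm_num)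
  have hwodd : Nat.Coprime 2 w := (Nat.Prime.coprime_iff_not_dvd Nat.prime_two).2 hw
  have hdvdP : 2 ^ n ∣ Nat.card G := by
    rw [← hP]; exact Subgroup.card_subgroup_dvd_card _
  have hen : n ≤ e := by
    rw [hcard] at hdvdP
    have h1 : 2 ^ n ∣ 2 ^ e := (Nat.Coprime.pow_left n hwodd).dvd_of_dvd_mul_right hdvdP
    exact (Nat.pow_dvd_pow_iff_le_right (by norm_num : 1 < 2)).1 h1
  have hζN : ζ ^ Nat.card G = 1 := by
    obtain ⟨q, hq⟩ : 2 ^ a ∣ Nat.card G := (pow_dvd_pow 2 (by omega)).trans hdvdP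
    rw [hq, pow_mul, hζ.pow_eq_one, one_pow]
  have hz0 : ζ + s * ζ⁻¹ ∈ valField g := by
    rw [hE]; exact mem_adjoin_simple_self _ _
  have hτs : ∀ τ : ℂ →+* ℂ, τ s = s := by
    intro τ
    rcases hs with rfl | rfl <;> simp
  have hs2 : s * s = 1 := by rcases hs with rfl | rfl <;> simp
  -- Step 1: the order of `g` exceeds `2 ^ (a - 1)`.
  have hstep1 : g ^ (2 ^ (a - 1)) ≠ 1 := by
    intro h1
    have hr : Nat.Coprime (1 + 2 ^ (a - 1) * w) (Nat.card G) := by
      rw [hcard]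
      apply Nat.Coprime.mul_right
      · apply Nat.Coprime.pow_right
        rw [Nat.coprime_two_right]
        have h2 : Even (2 ^ (a - 1)) := (Nat.even_pow' (by omega)).2 (by norm_num)
        exact (h2.mul_right w).one_add
      · simp
    obtain ⟨τ, hτ⟩ := H06.exists_galois_ringHom (Nat.card_pos.ne' : Nat.card G ≠ 0) hr
    have hfix : ∀ χ : Cfsg.IrrCharacter G, (χ : G → ℂ) (g ^ (1 + 2 ^ (a - 1) * w)) = (χ : G → ℂ) g := by
      intro χ
      have : g ^ (1 + 2 ^ (a - 1) * w) = g := by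
        rw [pow_add, pow_mul, h1, one_pow, pow_one, mul_one]
      rw [this]
    have hτz := twoMax_tau_fix hτ hfix _ hz0
    have hτζ : τ ζ = -ζ := by
      rw [hτ ζ hζN, pow_add, pow_mul, twoMax_neg_one (by omega) hζ, pow_one]
      have hwo : Odd w := by
        rw [Nat.odd_iff]
        rcases Nat.mod_two_eq_zero_or_one w with h | h
        · exact absurd (Nat.dvd_of_mod_eq_zero h) hw
        · exact h
      rw [hwo.neg_one_pow]
      ring
    rw [map_add, map_mul, map_inv₀, hτs, hτζ] at hτz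
    have h2 : ζ + s * ζ⁻¹ = 0 := by
      have h3 : -(ζ + s * ζ⁻¹) = ζ + s * ζ⁻¹ := by
        rw [inv_neg] at hτz
        linear_combination hτz
      have h4 : (2 : ℂ) * (ζ + s * ζ⁻¹) = 0 := by linear_combination -h3
      exact (mul_eq_zero.1 h4).resolve_left two_ne_zero
    have h3 : ζ * ζ = -s := by
      have h4 : (ζ + s * ζ⁻¹) * ζ = 0 := by rw [h2, zero_mul]
      rw [add_mul, mul_assoc, inv_mul_cancel₀ hζ0, mul_one] at h4
      linear_combination h4
    have h4 : ζ ^ 4 = 1 := by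
      have : ζ ^ 4 = (ζ * ζ) * (ζ * ζ) := by ring
      rw [this, h3]
      linear_combination hs2
    have h5 := hζ.dvd_of_pow_eq_one 4 h4
    have h6 : 2 ^ a ∣ 2 ^ 2 := by simpa using h5
    have h7 := (Nat.pow_dvd_pow_iff_le_right (by norm_num : 1 < 2)).1 h6
    omega
  -- Step 2: the order of `g` is `2 ^ a`.
  have hordP : orderOf g ∣ 2 ^ n := by
    have h1 : orderOf (⟨g, hgP⟩ : ↥P) ∣ Nat.card ↥P := orderOf_dvd_natCard _
    rw [Subgroup.orderOf_mk] at h1
    rwa [show Nat.card ↥P = 2 ^ n from hP] at h1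
  obtain ⟨j, hj, hj2⟩ := (Nat.dvd_prime_pow Nat.prime_two).1 hordP
  have hja : a ≤ j := by
    by_contra hlt
    apply hstep1
    rw [← orderOf_dvd_iff_pow_eq_one, hj2]
    exact pow_dvd_pow 2 (by omega)
  obtain ⟨c, hc⟩ : ∃ c : ↥P, c = ⟨g, hgP⟩ := ⟨_, rfl⟩
  have hcg : (c : G) = g := by rw [hc]
  have hordc : orderOf c = orderOf g := by rw [hc]; exact Subgroup.orderOf_mk g _
  obtain ⟨a', b', hab⟩ := hnc
  have hjn : j ≠ n := by
    intro hjn
    have h1 : Nat.card (zpowers c) = Nat.card ↥P := by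
      rw [Nat.card_zpowers, hordc, hj2, hjn]; exact hP.symm
    have h2 : zpowers c = ⊤ := Subgroup.eq_top_of_card_eq _ h1
    have hm : ∀ y : ↥P, y ∈ zpowers c := fun y => by rw [h2]; exact mem_top y
    obtain ⟨i, hi⟩ := mem_zpowers_iff.1 (hm a')
    obtain ⟨i', hi'⟩ := mem_zpowers_iff.1 (hm b')
    apply hab
    rw [← hi, ← hi']
    exact ((Commute.refl c).zpow_zpow i i').eq
  have hjeq : j = a := by omega
  have hord : orderOf c = 2 ^ a := by rw [hordc, hj2, hjeq]
  have hidx : (zpowers c).index = 2 := by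
    have h1 := (zpowers c).card_mul_index
    rw [Nat.card_zpowers, hord, show Nat.card ↥P = 2 ^ n from hP, hn', pow_succ] at h1
    exact Nat.eq_of_mul_eq_mul_left (by positivity) h1
  obtain ⟨x, hx⟩ : ∃ x, x ∉ zpowers c := by
    by_contra hcon
    push Not at hcon
    have : zpowers c = ⊤ := eq_top_iff.2 fun y _ => hcon y
    rw [this, index_top] at hidx
    omega
  have hN : (zpowers c).Normal := normal_of_index_eq_two hidx
  have hk0 := hN.conj_mem c (mem_zpowers c) x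
  rw [← mem_powers_iff_mem_zpowers] at hk0
  obtain ⟨k, hk⟩ := hk0
  have hk' : x * c * x⁻¹ = c ^ k := hk.symm
  have hxG : (x : G) * g * (x : G)⁻¹ = g ^ k := by
    have := congrArg Subtype.val hk'
    rw [← hcg]
    simpa using this
  have hodd := twoMax_odd hidx hk' hord (by omega)
  -- Step 3: the Galois action
  have hco : Nat.Coprime (2 ^ e) w := Nat.Coprime.pow_left e hwodd
  obtain ⟨k₁, hk₁, hk₂⟩ := Nat.chineseRemainder hco k 1
  have hr : Nat.Coprime k₁ (Nat.card G) := by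
    rw [hcard]
    apply Nat.Coprime.mul_right
    · apply Nat.Coprime.pow_right
      rw [Nat.coprime_two_right]
      have h1 : k₁ ≡ k [MOD 2] := hk₁.of_dvd (dvd_pow_self 2 (by omega))
      rw [Nat.odd_iff]
      rw [Nat.ModEq] at h1
      omega
    · rw [Nat.Coprime, hk₂.gcd_eq]
      simp
  obtain ⟨τ, hτ⟩ := H06.exists_galois_ringHom (Nat.card_pos.ne' : Nat.card G ≠ 0) hr
  have hea : a ≤ e := by omega
  have hgk : g ^ k₁ = g ^ k := by
    rw [pow_eq_pow_iff_modEq, hj2, hjeq]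
    exact hk₁.of_dvd (pow_dvd_pow 2 hea)
  have hfix : ∀ χ : Cfsg.IrrCharacter G, (χ : G → ℂ) (g ^ k₁) = (χ : G → ℂ) g := by
    intro χ
    haveI : Fintype G := Fintype.ofFinite G
    haveI : Fintype (Cfsg.IrrCharacter G) := Fintype.ofFinite _
    rw [hgk, ← hxG]
    exact isClassFunction_of_isCharacter (isCharacter_of_irr χ.2) g x
  have hτz := twoMax_tau_fix hτ hfix _ hz0
  have hτζ : τ ζ = ζ ^ k := by
    rw [hτ ζ hζN, ← pow_mod_orderOf ζ k₁, ← pow_mod_orderOf ζ k, ← hζ.eq_orderOf]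
    congr 1
    exact hk₁.of_dvd (pow_dvd_pow 2 hea)
  rw [map_add, map_mul, map_inv₀, hτs, hτζ] at hτz
  have hu0 : ζ ^ k ≠ 0 := pow_ne_zero k hζ0
  have hfac : (ζ ^ k - ζ) * (ζ ^ k * ζ - s) = 0 := by
    field_simp at hτz
    linear_combination hτz
  rcases mul_eq_zero.1 hfac with h1 | h1
  · exfalso
    have h2 : ζ ^ k = ζ := sub_eq_zero.1 h1
    obtain ⟨m, rfl⟩ : ∃ m, k = m + 1 := ⟨k - 1, by omega⟩
    have h3 : ζ ^ m = 1 := by
      rw [pow_succ] at h2
      exact mul_right_cancel₀ hζ0 (by rw [h2, one_mul])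
    have h4 := hζ.dvd_of_pow_eq_one m h3
    have h5 : c ^ m = 1 := by
      rw [← orderOf_dvd_iff_pow_eq_one, hord]; exact h4
    have h6 : x * c * x⁻¹ * c⁻¹ ∈ (⊥ : Subgroup ↥P) := by
      rw [hk', pow_succ, h5, one_mul, mul_inv_cancel]
      exact one_mem _
    have h7 := twoMax_commutator_le hidx hx h6
    apply hab
    have h8 : (⁅a', b'⁆ : ↥P) ∈ commutator ↥P := by
      rw [_root_.commutator_def]
      exact commutator_mem_commutator (mem_top a') (mem_top b')
    have h9 := h7 h8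
    rw [Subgroup.mem_bot] at h9
    exact commutatorElement_eq_one_iff_mul_comm.1 h9
  · have h2 : ζ ^ k * ζ = s := sub_eq_zero.1 h1
    have h3 : ζ ^ (2 * (k + 1)) = 1 := by
      have h30 : ζ ^ (2 * (k + 1)) = (ζ ^ k * ζ) * (ζ ^ k * ζ) := by ring
      rw [h30, h2, hs2]
    have h4 := hζ.dvd_of_pow_eq_one _ h3
    obtain ⟨b, rfl⟩ : ∃ b, a = b + 1 := ⟨a - 1, by omega⟩
    rw [pow_succ, mul_comm (2 ^ b) 2] at h4
    have h5 : 2 ^ b ∣ k + 1 := Nat.dvd_of_mul_dvd_mul_left (by norm_num) h4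
    have h6 : 4 ∣ k + 1 := by
      refine dvd_trans ?_ h5
      calc 4 = 2 ^ 2 := by norm_num
        _ ∣ 2 ^ b := pow_dvd_pow 2 (by omega)
    exact twoMax_index_four hord (by omega) hidx hx hk' (by omega)

theorem twoMax_criterion (P : Sylow 2 G) {n : ℕ} (hn : 3 ≤ n) (hP : Nat.card P = 2 ^ n) {ζ : ℂ}
    (hζ : IsPrimitiveRoot ζ (2 ^ (n - 1))) :
    (commutator ↥P).index = 4 ↔
      ∃ g : G, g ∈ (P : Subgroup G) ∧ 2 ∣ (centralizer ({g} : Set G)).index ∧
        (valField g = adjoin ℚ ({ζ + ζ⁻¹} : Set ℂ) ∨ valField g = adjoin ℚ ({ζ - ζ⁻¹} : Set ℂ)) := by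
  constructor
  · exact twoMax_forward P hn hP hζ
  · rintro ⟨g, hgP, heven, hE⟩
    haveI : Fact (Nat.Prime 2) := ⟨Nat.prime_two⟩
    have hnc : ∃ a b : ↥P, a * b ≠ b * a := by
      by_contra hcon
      push Not at hcon
      have h1 : (P : Subgroup G) ≤ centralizer ({g} : Set G) := by
        intro y hy
        rw [mem_centralizer_singleton_iff]
        have := hcon ⟨y, hy⟩ ⟨g, hgP⟩
        have h2 := congrArg Subtype.val this
        simpa using h2
      exact P.not_dvd_index (heven.trans (index_dvd_of_le h1))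
    rcases eq_or_lt_of_le hn with h3 | h3
    · subst h3
      have hQ : IsPGroup 2 ↥P := IsPGroup.of_card hP
      have h1 := H01.index_ge_of_noncomm hQ hnc
      have h2 : (commutator ↥P).index ∣ 2 ^ 3 := by
        rw [← show Nat.card ↥P = 2 ^ 3 from hP]
        exact Subgroup.index_dvd_card _
      obtain ⟨j, hj, hj2⟩ := (Nat.dvd_prime_pow Nat.prime_two).1 h2
      have h5 : j ≠ 3 := by
        rintro rfl
        obtain ⟨a, b, hab⟩ := hnc
        apply hab
        have h6 := (commutator ↥P).card_mul_index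
        rw [hj2, show Nat.card ↥P = 2 ^ 3 from hP] at h6
        have h7 : Nat.card (commutator ↥P) = 1 := by omega
        have h8 : (⁅a, b⁆ : ↥P) ∈ commutator ↥P := by
          rw [_root_.commutator_def]
          exact commutator_mem_commutator (mem_top a) (mem_top b)
        have h9 := (Subgroup.card_eq_one.1 h7)
        rw [h9, Subgroup.mem_bot] at h8
        exact commutatorElement_eq_one_iff_mul_comm.1 h8
      have h6 : j = 2 := by
        rw [hj2] at h1
        have h7 : 2 ≤ j := (Nat.pow_le_pow_iff_right (by norm_num)).1 h1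
        omega
      rw [hj2, h6]
      norm_num
    · rcases hE with hE | hE
      · exact twoMax_backward P h3 hP hζ hgP hnc (s := 1) (Or.inl rfl) (by simpa using hE)
      · exact twoMax_backward P h3 hP hζ hgP hnc (s := -1) (Or.inr rfl)
          (by simpa [sub_eq_add_neg] using hE)

end Chars

end Cfsg.Agent.H23
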